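import Mathlib

/-!
Elementary number theory and integer inequalities for the (2, 4, 4) systems.
-/

set_option autoImplicit false

namespace H22.SC

theorem odd_geom {r a : ℕ} (hr : r % 2 = 1) (ha : a % 2 = 1) :
    (∑ i ∈ Finset.range a, r ^ i) % 2 = 1 := by
  rw [Finset.sum_nat_mod, Finset.sum_congr rfl (g := fun _ => 1) (fun i _ => by
    rw [Nat.pow_mod, hr, one_pow]; rfl)]
  simpa using ha

theorem two_pow_mul_odd {x j d : ℕ} (hx : x % 2 = 1) (h : x ∣ d * 2 ^ j) : x ∣ d :=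
  (Nat.Coprime.dvd_of_dvd_mul_right
    (Nat.Coprime.pow_right j (Nat.coprime_two_right.2 (Nat.odd_iff.2 hx))) h)

/-- A prime power `r ^ a`, `a ≥ 2`, with `r ^ a - 1 = d * 2 ^ j`, `d ∣ 9`. -/
theorem pow_eq_small {r a d j : ℕ} (hr : r % 2 = 1) (hr3 : 3 ≤ r) (ha : 2 ≤ a) (hd : d ∣ 9)
    (h : r ^ a = d * 2 ^ j + 1) :
    (d = 1 ∧ r ^ a = 9) ∨ r ^ a ∈ ({9, 25, 49, 289, 361} : Finset ℕ) := by
  have hd9 : d ≤ 9 := Nat.le_of_dvd (by norm_num) hd
  have hdo : d % 2 = 1 := by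
    obtain ⟨k, hk⟩ := hd
    have := congrArg (fun n => n % 2) hk
    simp [Nat.mul_mod] at this
    rcases Nat.mod_two_eq_zero_or_one d with e | e
    · simp [e] at this
    · exact e
  rcases Nat.even_or_odd a with ⟨b, hb⟩ | hodd
  · set m := r ^ b with hm
    have hmo : m % 2 = 1 := by rw [hm, Nat.pow_mod, hr, one_pow]; rfl
    have hm3 : 3 ≤ m := hr3.trans (Nat.le_self_pow (by omega) r)
    have hmm : (m - 1) * (m + 1) = d * 2 ^ j := by
      have h1 : r ^ a = m * m := by rw [hm, ← pow_add, hb]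
      have h2 : (m - 1) * (m + 1) + 1 = m * m := by
        obtain ⟨k, hk⟩ : ∃ k, m = k + 1 := ⟨m - 1, by omega⟩
        rw [hk]; simp; ring
      omega
    have key : (m - 1) / 2 ∣ d ∧ ((m - 1) / 2) % 2 = 1 ∨ (m + 1) / 2 ∣ d ∧ ((m + 1) / 2) % 2 = 1 := by
      rcases Nat.mod_two_eq_zero_or_one ((m - 1) / 2) with e | e
      · refine Or.inr ⟨two_pow_mul_odd (j := j) (by omega) ?_, by omega⟩
        rw [← hmm]
        exact Dvd.intro_left _ rfl |>.trans (mul_dvd_mul_left (m - 1)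
          (Nat.div_dvd_of_dvd (by omega)))
      · refine Or.inl ⟨two_pow_mul_odd (j := j) e ?_, e⟩
        rw [← hmm]
        exact (Nat.div_dvd_of_dvd (by omega)).trans (dvd_mul_right _ _)
    have h1 : r ^ a = m * m := by rw [hm, ← pow_add, hb]
    have hmle : m ≤ 19 := by
      rcases key with ⟨e, -⟩ | ⟨e, -⟩ <;>
        have := Nat.le_of_dvd (by omega) e <;> omega
    have hsmall : ∀ k : Fin 10, (k : ℕ) ∣ 9 → (k : ℕ) ∈ ({1, 3, 9} : Finset ℕ) := by decide
    have hdm : d ∈ ({1, 3, 9} : Finset ℕ) := hsmall ⟨d, by omega⟩ hd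
    simp only [Finset.mem_insert, Finset.mem_singleton] at hdm ⊢
    rw [h1]
    interval_cases m <;> rcases hdm with rfl | rfl | rfl <;> revert key hmo <;> decide
  · exfalso
    have hs := geom_sum_mul_add (r - 1) a
    rw [show r - 1 + 1 = r by omega] at hs
    have hdvd : (∑ i ∈ Finset.range a, r ^ i) ∣ d := by
      apply two_pow_mul_odd (j := j) (odd_geom hr (Nat.odd_iff.1 hodd))
      exact ⟨r - 1, by omega⟩
    have hle := Nat.le_of_dvd (Nat.pos_of_dvd_of_pos hd (by norm_num)) hdvd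
    have h3 : (∑ i ∈ Finset.range 3, r ^ i) ≤ ∑ i ∈ Finset.range a, r ^ i :=
      Finset.sum_le_sum_of_subset (Finset.range_subset_range.2 (by
        rcases hodd with ⟨k, hk⟩; omega))
    have h9 : 3 ^ 2 ≤ r ^ 2 := Nat.pow_le_pow_left hr3 2
    simp [Finset.sum_range_succ] at h3
    omega

theorem pow_two_succ {r a j : ℕ} (hr : r % 2 = 1) (hr3 : 3 ≤ r) (ha : 2 ≤ a)
    (h : r ^ a = 2 ^ j + 1) : r ^ a = 9 := by
  have h' : r ^ a = 1 * 2 ^ j + 1 := by omega
  rcases pow_eq_small hr hr3 ha (one_dvd 9) h' with e | e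
  · exact e.2
  · simp only [Finset.mem_insert, Finset.mem_singleton] at e
    rcases e with e | e | e | e | e
    · exact e
    all_goals exfalso
    all_goals
      have h24 : 2 ^ j = r ^ a - 1 := by omega
      rw [e] at h24
      have : j ≤ 9 := by
        by_contra hc
        have := Nat.pow_le_pow_right (n := 2) (by norm_num) (show 10 ≤ j by omega)
        omega
      interval_cases j <;> simp at h24

theorem mersenne_pow {r c e : ℕ} (hr : r % 2 = 1) (hr3 : 3 ≤ r) (h : r ^ c + 1 = 2 ^ e) :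
    c ≤ 1 := by
  by_contra hc
  rcases Nat.even_or_odd c with ⟨b, rfl⟩ | hodd
  · have h9 : 9 ≤ r ^ (b + b) := le_trans (show 9 ≤ r ^ 2 by nlinarith)
      (Nat.pow_le_pow_right (by omega) (by omega))
    have he : 2 ≤ e := by
      by_contra h2
      interval_cases e <;> omega
    obtain ⟨e', rfl⟩ : ∃ e', e = 2 + e' := ⟨e - 2, by omega⟩
    have h4 : 2 ^ (2 + e') % 4 = 0 := by rw [pow_add]; simp
    have hsq : r ^ (b + b) % 4 = 1 := by
      have e1 : (r ^ b) % 2 = 1 := by rw [Nat.pow_mod, hr, one_pow]; rfl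
      obtain ⟨k, hk⟩ : ∃ k, r ^ b = 2 * k + 1 := ⟨r ^ b / 2, by omega⟩
      rw [pow_add, hk, show (2 * k + 1) * (2 * k + 1) = 4 * (k * k + k) + 1 by ring]
      omega
    omega
  · have hd : r + 1 ∣ 2 ^ e := by
      rw [← h]
      simpa using hodd.nat_add_dvd_pow_add_pow r 1
    obtain ⟨i, -, hi⟩ := (Nat.dvd_prime_pow Nat.prime_two).1 hd
    have hgt : r + 1 < 2 ^ e := by
      rw [← h]
      have : r ^ 1 < r ^ c := Nat.pow_lt_pow_right (by omega) (by omega)
      rw [pow_one] at this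
      omega
    obtain ⟨k, hk⟩ : 2 * (r + 1) ∣ 2 ^ e := by
      rw [hi] at hgt ⊢
      rw [← pow_succ']
      exact Nat.pow_dvd_pow 2 ((Nat.pow_lt_pow_iff_right (by norm_num)).1 hgt)
    -- reduce in the ring of integers modulo `2 (r + 1)`
    have hm : ((r : ℤ) + 1) * 2 ∣ (r : ℤ) ^ c + 1 := ⟨k, by
      have : ((r ^ c + 1 : ℕ) : ℤ) = ((2 * (r + 1) * k : ℕ) : ℤ) := by rw [h, hk]
      push_cast at this
      linarith⟩
    obtain ⟨q, rfl⟩ := hodd
    have hg := geom_sum_mul (-(r : ℤ)) (2 * q + 1)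
    have hneg : (-(r : ℤ)) ^ (2 * q + 1) = -((r : ℤ) ^ (2 * q + 1)) := Odd.neg_pow ⟨q, rfl⟩ _
    rw [hneg] at hg
    have hS : (∑ i ∈ Finset.range (2 * q + 1), (-(r : ℤ)) ^ i) * ((r : ℤ) + 1) =
        (r : ℤ) ^ (2 * q + 1) + 1 := by linear_combination -hg
    rw [← hS, mul_comm _ ((r : ℤ) + 1)] at hm
    have h2 := (mul_dvd_mul_iff_left (by omega : ((r : ℤ) + 1) ≠ 0)).1 hm
    have hz : ((∑ i ∈ Finset.range (2 * q + 1), (-(r : ℤ)) ^ i : ℤ) : ZMod 2) = 0 :=
      (ZMod.intCast_zmod_eq_zero_iff_dvd _ _).2 (by exact_mod_cast h2)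
    have hr1 : ((r : ℤ) : ZMod 2) = 1 := by
      rw [Int.cast_natCast, ← ZMod.natCast_mod, hr, Nat.cast_one]
    push_cast [Int.cast_sum] at hz
    rw [Int.cast_natCast] at hr1
    simp [hr1, ZMod.neg_eq_self_mod_two] at hz
    have : ((2 * q + 1 : ℕ) : ZMod 2) = 1 := by
      push_cast
      rw [show (2 : ZMod 2) = 0 from rfl]; ring
    simp [show (2 : ZMod 2) = 0 from rfl] at hz

/-- No extra prime: `c k' = m (U - u)²` with `k' = U (U + 1) / n`, `m ≥ 7`. -/
theorem no_extra {U u n k c m : ℤ} (hm : 7 ≤ m) (hn : 100 ≤ n) (hk : 2 * m ≤ k)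
    (hw : U * (U + 1) = k * n) (heq : m * (U - u) ^ 2 = c * k) (hc : c * m ≤ 15 * n)
    (hu : m * u ^ 2 ≤ 15 * n) : False := by
  set w := U * (U + 1) with hw'
  have hk0 : 0 < k := by linarith
  have h1 : m * m * (U - u) ^ 2 ≤ 15 * w := by
    have := mul_le_mul_of_nonneg_left hc hk0.le
    calc m * m * (U - u) ^ 2 = k * (c * m) := by linear_combination m * heq
      _ ≤ k * (15 * n) := this
      _ = 15 * w := by rw [hw]; ring
  have h2 : 2 * (m * m * u ^ 2) ≤ 15 * w := by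
    have e1 : (2 * m) * (m * u ^ 2) ≤ k * (15 * n) :=
      mul_le_mul hk hu (by positivity) hk0.le
    calc 2 * (m * m * u ^ 2) = (2 * m) * (m * u ^ 2) := by ring
      _ ≤ k * (15 * n) := e1
      _ = 15 * w := by rw [hw]; ring
  have h49 : 49 ≤ m * m := by nlinarith
  have h3 : 49 * (U - u) ^ 2 ≤ 15 * w :=
    le_trans (mul_le_mul_of_nonneg_right h49 (sq_nonneg _)) h1
  have h4 : 98 * u ^ 2 ≤ 15 * w := by
    have := mul_le_mul_of_nonneg_right h49 (sq_nonneg u)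
    linarith
  have hU : 200 ≤ w := by rw [hw]; nlinarith
  have hs : 70 * U ^ 2 ≤ 119 * (U - u) ^ 2 + 170 * u ^ 2 := by
    nlinarith [sq_nonneg (7 * (U - u) - 10 * u)]
  rcases le_or_gt U 0 with hneg | hpos <;> nlinarith

end H22.SC
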