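import Mathlib

/-!
The integer combinatorics of the cross relation between two index-4 families.
-/

set_option autoImplicit false
set_option linter.unusedSimpArgs false

namespace H22.SC

theorem theta_cases {m₁ θ p : ℤ} (hm : 2 ≤ m₁) (hp : 0 ≤ p)
    (h : θ ^ 2 + m₁ * (1 + θ) ^ 2 + p ≤ 3) : θ = -1 ∨ θ = 0 := by
  have h1 : θ ^ 2 + 2 * (1 + θ) ^ 2 ≤ 3 := by nlinarith [sq_nonneg (1 + θ)]
  have h2 : -2 ≤ θ ∧ θ ≤ 1 := ⟨by nlinarith, by nlinarith⟩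
  obtain ⟨h2, h3⟩ := h2
  interval_cases θ <;> omega

theorem rem_cases {m₁ m c θ p P : ℤ} (hm₁ : 2 ≤ m₁) (hm : 2 ≤ m) (hp : 0 ≤ p) (hP : 0 ≤ P)
    (hθ : θ = -1 ∨ θ = 0)
    (h : 1 + θ ^ 2 + m₁ * (1 + θ) ^ 2 + m * c ^ 2 + p + P = 4) :
    (c = 0 ∧ θ = -1 ∧ p ≤ 2) ∨ (c = 0 ∧ θ = 0 ∧ p ≤ 1) ∨
      ((c = 1 ∨ c = -1) ∧ m = 2 ∧ θ = -1 ∧ p = 0 ∧ P = 0) := by
  rcases hθ with rfl | rfl
  · norm_num at h
    by_cases hc : c = 0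
    · subst hc; left; refine ⟨rfl, rfl, ?_⟩; nlinarith
    · right; right
      have hc1 : 1 ≤ c ^ 2 := by
        have : 0 < c ^ 2 := by positivity
        omega
      have hm2 : m = 2 := by nlinarith
      subst hm2
      have hc2 : c ^ 2 = 1 := by nlinarith
      refine ⟨sq_eq_one_iff.1 hc2, rfl, rfl, by linarith, by linarith⟩
  · norm_num at h
    right; left
    have hc : c = 0 := by
      by_contra hc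
      have hc1 : 1 ≤ c ^ 2 := by
        have : 0 < c ^ 2 := by positivity
        omega
      nlinarith
    subst hc
    refine ⟨rfl, rfl, ?_⟩
    nlinarith

theorem extras_le {m₁ m₂ m₃ θ₂ θ₃ c c' p₂ p₃ q ε₂ ε₃ a₂ a₃ : ℤ}
    (hm₁ : 2 ≤ m₁) (hm₂ : 2 ≤ m₂) (hm₃ : 2 ≤ m₃) (hne : m₂ ≠ m₃)
    (hε₂ : ε₂ = 1 ∨ ε₂ = -1) (hε₃ : ε₃ = 1 ∨ ε₃ = -1)
    (ha₂ : a₂ = 0 ∨ (a₂ = ε₂ ∧ 3 ≤ m₂)) (ha₃ : a₃ = 0 ∨ (a₃ = ε₃ ∧ 3 ≤ m₃))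
    (hp₂ : 0 ≤ p₂) (hp₃ : 0 ≤ p₃) (hq : q ^ 2 ≤ p₂ * p₃)
    (h₂ : 1 + θ₂ ^ 2 + m₁ * (1 + θ₂) ^ 2 + m₃ * c' ^ 2 + p₂
      + ((a₂ - ε₂) ^ 2 + (m₂ - 1) * a₂ ^ 2 - 1) = 4)
    (h₃ : 1 + θ₃ ^ 2 + m₁ * (1 + θ₃) ^ 2 + m₂ * c ^ 2 + p₃
      + ((a₃ - ε₃) ^ 2 + (m₃ - 1) * a₃ ^ 2 - 1) = 4)
    (hcross : 1 + θ₂ * θ₃ + m₁ * ((1 + θ₂) * (1 + θ₃)) + q + c * (m₂ * a₂ - ε₂)
      + c' * (m₃ * a₃ - ε₃) = 0) :
    p₂ + p₃ ≤ 2 + q ∨ p₂ + p₃ ≤ 2 - q := by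
  set P₂ := (a₂ - ε₂) ^ 2 + (m₂ - 1) * a₂ ^ 2 - 1 with hP₂
  set P₃ := (a₃ - ε₃) ^ 2 + (m₃ - 1) * a₃ ^ 2 - 1 with hP₃
  have hP₂0 : 0 ≤ P₂ := by
    rw [hP₂]; rcases ha₂ with rfl | ⟨rfl, hm⟩ <;> rcases hε₂ with e | e <;> rw [e] <;> nlinarith
  have hP₃0 : 0 ≤ P₃ := by
    rw [hP₃]; rcases ha₃ with rfl | ⟨rfl, hm⟩ <;> rcases hε₃ with e | e <;> rw [e] <;> nlinarith
  have hθ₂ : θ₂ = -1 ∨ θ₂ = 0 := theta_cases hm₁ hp₂ (by nlinarith [sq_nonneg c'])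
  have hθ₃ : θ₃ = -1 ∨ θ₃ = 0 := theta_cases hm₁ hp₃ (by nlinarith [sq_nonneg c])
  rcases rem_cases hm₁ hm₃ hp₂ hP₂0 hθ₂ h₂ with h | h | h <;>
    rcases rem_cases hm₁ hm₂ hp₃ hP₃0 hθ₃ h₃ with h' | h' | h'
  · obtain ⟨rfl, rfl, hp⟩ := h; obtain ⟨rfl, rfl, hp'⟩ := h'
    right; norm_num at hcross; omega
  · obtain ⟨rfl, rfl, hp⟩ := h; obtain ⟨rfl, rfl, hp'⟩ := h'
    right; norm_num at hcross; omega
  · obtain ⟨rfl, rfl, hp⟩ := h; obtain ⟨hc, -, rfl, rfl, hP'⟩ := h'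
    left
    have : q = 0 := by
      simp only [mul_zero, zero_mul] at hq
      exact (pow_eq_zero_iff two_ne_zero).1 (le_antisymm hq (sq_nonneg q))
    omega
  · obtain ⟨rfl, rfl, hp⟩ := h; obtain ⟨rfl, rfl, hp'⟩ := h'
    right; norm_num at hcross; omega
  · obtain ⟨rfl, rfl, hp⟩ := h; obtain ⟨rfl, rfl, hp'⟩ := h'
    right; norm_num at hcross; omega
  · obtain ⟨rfl, rfl, hp⟩ := h; obtain ⟨hc, -, rfl, rfl, hP'⟩ := h'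
    left
    have : q = 0 := by
      simp only [mul_zero, zero_mul] at hq
      exact (pow_eq_zero_iff two_ne_zero).1 (le_antisymm hq (sq_nonneg q))
    omega
  · obtain ⟨hc, -, rfl, rfl, hP⟩ := h; obtain ⟨rfl, rfl, hp'⟩ := h'
    left
    have : q = 0 := by
      simp only [mul_zero, zero_mul] at hq
      exact (pow_eq_zero_iff two_ne_zero).1 (le_antisymm hq (sq_nonneg q))
    omega
  · obtain ⟨hc, -, rfl, rfl, hP⟩ := h; obtain ⟨rfl, rfl, hp'⟩ := h'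
    left
    have : q = 0 := by
      simp only [mul_zero, zero_mul] at hq
      exact (pow_eq_zero_iff two_ne_zero).1 (le_antisymm hq (sq_nonneg q))
    omega
  · obtain ⟨hc, hm, -, -, -⟩ := h; obtain ⟨hc', hm', -, -, -⟩ := h'
    exact absurd (hm'.trans hm.symm) hne

end H22.SC
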