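import Mathlib
import Cfsg.Agent.H13.TICoeff

/-!
Strongly self-centralising subgroups: the exceptional characters of one subgroup, as a data
package (values on the subgroup, norm, relation off the subgroup).
-/

set_option autoImplicit false
set_option linter.unusedSectionVars false
set_option linter.style.haveILetI false

open Cfsg
open scoped ComplexConjugate

namespace H22.SC

universe u

/-- `A` is strongly self-centralising. -/
def Ssc {G : Type u} [Group G] (A : Subgroup G) : Prop :=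
  ∀ a ∈ A, a ≠ 1 → Subgroup.centralizer ({a} : Set G) = A

/-- `g` is conjugate to a nontrivial element of `A`. -/
def InA {G : Type u} [Group G] (A : Subgroup G) (g : G) : Prop :=
  g ≠ 1 ∧ ∃ c : G, c * g * c⁻¹ ∈ A

section Basic

variable {G : Type u} [Group G] {A : Subgroup G}

theorem Ssc.comm (hA : Ssc A) {a b : G} (ha : a ∈ A) (hb : b ∈ A) : a * b = b * a := by
  by_cases h : a = 1
  · simp [h]
  · have hb' : b ∈ Subgroup.centralizer ({a} : Set G) := by rwa [hA a ha h]
    exact (Subgroup.mem_centralizer_singleton_iff.1 hb').symm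

theorem Ssc.isMulCommutative (hA : Ssc A) : IsMulCommutative A :=
  ⟨⟨fun a b => Subtype.ext (hA.comm a.2 b.2)⟩⟩

theorem Ssc.hyp (hA : Ssc A) : H13.TI.Hyp A where
  cent g x hx hx1 h := by
    rw [← hA x hx hx1]
    exact Subgroup.mem_centralizer_singleton_iff.2 h
  ti g x hx hx1 hmem := by
    have h1 : g * x * g⁻¹ ≠ 1 := fun e => hx1 (by
      calc x = g⁻¹ * (g * x * g⁻¹) * g := by group
        _ = 1 := by rw [e]; group)
    rw [Subgroup.mem_normalizer_iff]
    intro h
    conv_lhs => rw [← hA x hx hx1]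
    conv_rhs => rw [← hA _ hmem h1]
    rw [Subgroup.mem_centralizer_singleton_iff, Subgroup.mem_centralizer_singleton_iff]
    constructor
    · intro e
      calc g * h * g⁻¹ * (g * x * g⁻¹) = g * (h * x) * g⁻¹ := by group
        _ = g * (x * h) * g⁻¹ := by rw [e]
        _ = g * x * g⁻¹ * (g * h * g⁻¹) := by group
    · intro e
      calc h * x = g⁻¹ * (g * h * g⁻¹ * (g * x * g⁻¹)) * g := by group
        _ = g⁻¹ * (g * x * g⁻¹ * (g * h * g⁻¹)) * g := by rw [e]
        _ = x * h := by group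

theorem not_inA_one (A : Subgroup G) : ¬ InA A 1 := fun h => h.1 rfl

end Basic

variable {G : Type u} [Group G] [Fintype G] {A : Subgroup G}

theorem ind_eq_zero {g : G} (hg : ∀ c : G, c * g * c⁻¹ ∉ A) (θ : A →* ℂˣ) :
    H13.TI.ind θ g = 0 := by
  simp only [H13.TI.ind, H12.indFun_apply]
  rw [Finset.sum_eq_zero, mul_zero]
  intro x _
  refine H12.extendByZero_of_notMem A _ fun h => hg x⁻¹ ?_
  simpa using h

theorem ind_sub_eq_zero {g : G} (hg : ¬ InA A g) (θ φ : A →* ℂˣ) :
    H13.TI.ind θ g - H13.TI.ind φ g = 0 := by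
  by_cases h1 : g = 1
  · subst h1
    rw [H13.TI.ind_one_apply, H13.TI.ind_one_apply, sub_self]
  · have h : ∀ c : G, c * g * c⁻¹ ∉ A := fun c hc => hg ⟨h1, c, hc⟩
    rw [ind_eq_zero h, ind_eq_zero h, sub_self]

/-- Expansion of the restriction of an irreducible character to an abelian subgroup. -/
theorem res_eq_sum (hA : Ssc A) [Fintype (A →* ℂˣ)] (χ : IrrCharacter G) (x : A) :
    (χ : G → ℂ) (x : G) = ∑ θ : A →* ℂˣ, (H13.TI.coef χ θ : ℂ) * (θ x : ℂ) := by
  classical
  haveI := hA.isMulCommutative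
  haveI := Fintype.ofFinite A
  letI : CommGroup A := { (inferInstance : Group A) with mul_comm := mul_comm' }
  let f : (A →* ℂˣ) → IrrCharacter A := fun θ => ⟨H13.TI.lf θ, H13.TI.isIrr_lf A θ⟩
  have hinj : Function.Injective f := fun θ φ h => MonoidHom.ext fun a => Units.ext
    (congrFun (congrArg Subtype.val h) a)
  have hbij : Function.Bijective f := by
    rw [Fintype.bijective_iff_injective_and_card]
    refine ⟨hinj, ?_⟩
    rw [← Nat.card_eq_fintype_card, ← Nat.card_eq_fintype_card, H12.card_monoidHom_units,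
      H12.card_irrCharacter, (commutator_eq_bot_iff_center_eq_top _).2 CommGroup.center_eq_top,
      Subgroup.index_bot]
    exact Nat.card_congr (Equiv.ofBijective ConjClasses.mk
      ⟨fun a b h => isConj_iff_eq.1 (ConjClasses.mk_eq_mk_iff_isConj.1 h),
        fun C => ⟨C.out, Quotient.out_eq C⟩⟩)
  have hres : IsClassFunction A (fun h : A => (χ : G → ℂ) (h : G)) := fun g h => by
    show (χ : G → ℂ) _ = _
    simp only [Subgroup.coe_mul, InvMemClass.coe_inv]
    exact H12.irr_isClassFunction χ _ _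
  rw [H12.classFunction_apply_eq_sum hres x, ← Equiv.sum_comp (Equiv.ofBijective f hbij)]
  refine Finset.sum_congr rfl fun θ _ => ?_
  simp only [Equiv.ofBijective_apply, f]
  rw [show H13.TI.coef χ θ = H13.TI.coef χ θ from rfl, H13.TI.coef_res]
  rfl

/-- The exceptional characters of a strongly self-centralising subgroup. -/
structure Exc (A : Subgroup G) (e : ℕ) where
  m : ℕ
  two_le : 2 ≤ m
  card_eq : Nat.card A = e * m + 1
  mu : Fin m → IrrCharacter G
  mu_inj : Function.Injective mu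
  eps : ℤ
  eps_cases : eps = 1 ∨ eps = -1
  a : ℤ
  a_cases : a = 0 ∨ (a = eps ∧ 3 ≤ m ∧ e = 4)
  b : IrrCharacter G → ℤ
  b_mu : ∀ s, b (mu s) = 0
  b_one : b (H12.oneIrr G) = 1
  one_ne : ∀ s, mu s ≠ H12.oneIrr G
  val : ∀ χ, (∀ s, χ ≠ mu s) → ∀ x ∈ A, x ≠ 1 → (χ : G → ℂ) x = b χ
  sum_val : ∀ x ∈ A, x ≠ 1 → ∑ s, (mu s : G → ℂ) x = ((m : ℤ) * a - eps : ℤ)
  nonconst : ∀ s, ∀ β : ℂ, ∃ x ∈ A, x ≠ 1 ∧ (mu s : G → ℂ) x ≠ β
  distinct : ∀ s t, s ≠ t → ∃ x ∈ A, x ≠ 1 ∧ (mu s : G → ℂ) x ≠ (mu t : G → ℂ) x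
  norm : ∑ χ, b χ ^ 2 + ((a - eps) ^ 2 + ((m : ℤ) - 1) * a ^ 2) = (e : ℤ) + 1
  const : ∀ g, ¬ InA A g → ∀ s t, (mu s : G → ℂ) g = (mu t : G → ℂ) g
  rel : ∀ g, ¬ InA A g → ∀ s,
    ∑ χ, (b χ : ℂ) * (χ : G → ℂ) g + ((m : ℤ) * a - eps : ℤ) * (mu s : G → ℂ) g = 0

set_option maxHeartbeats 1600000 in
theorem exists_exc (hA : Ssc A) {e : ℕ} (he : e = 2 ∨ e = 4)
    (hN : A.relIndex (Subgroup.normalizer (A : Set G)) = e) (hn : e + 1 < Nat.card A) :
    Nonempty (Exc A e) := by
  classical
  haveI := hA.isMulCommutative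
  have hH := hA.hyp
  haveI : Finite (A →* ℂˣ) := Nat.finite_of_card_ne_zero (by
    rw [H12.card_monoidHom_units]; exact Subgroup.index_ne_zero_of_finite)
  haveI := Fintype.ofFinite (A →* ℂˣ)
  have hcom : (commutator A).index = Nat.card A := by
    letI : CommGroup A := { (inferInstance : Group A) with mul_comm := mul_comm' }
    rw [(commutator_eq_bot_iff_center_eq_top _).2 CommGroup.center_eq_top, Subgroup.index_bot]
  obtain ⟨F⟩ := H13.TI.exists_family hH (by omega)
  have hcard : Nat.card A = e * F.w + 1 := by rw [← hcom, F.card_eq, hN]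
  have hw : 2 ≤ F.w := by
    rcases Nat.lt_or_ge F.w 2 with h | h
    · exfalso
      have : e * F.w ≤ e * 1 := Nat.mul_le_mul_left e (by omega)
      omega
    · exact h
  obtain ⟨ε, hεc, hεF⟩ : ∃ ε : ℤ, (ε = 1 ∨ ε = -1) ∧ F.eps = (ε : ℂ) := by
    rcases F.eps_sq with h | h
    · exact ⟨1, Or.inl rfl, by simp [h]⟩
    · exact ⟨-1, Or.inr rfl, by simp [h]⟩
  have hεsq : ε * ε = 1 := by rcases hεc with rfl | rfl <;> rfl
  set D : IrrCharacter G → Fin F.w → ℤ := fun χ s =>
    (H13.TI.coef χ (1 : A →* ℂˣ) : ℤ) - H13.TI.coef χ (F.rep s) with hD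
  have hdiff : ∀ χ s t, D χ s - D χ t =
      -ε * ((if χ = F.mu s then 1 else 0) - (if χ = F.mu t then 1 else 0)) := by
    intro χ s t
    have h := H13.TI.coef_diff F χ s t
    rw [hεF] at h
    have h' : ((H13.TI.coef χ (F.rep s) : ℤ) - H13.TI.coef χ (F.rep t)) =
        ε * ((if χ = F.mu s then 1 else 0) - (if χ = F.mu t then 1 else 0)) := by
      apply Int.cast_injective (α := ℂ)
      push_cast
      exact h
    simp only [hD]
    linear_combination (-1 : ℤ) * h'
  let o : Fin F.w := F.zeroIx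
  set av : Fin F.w → ℤ := fun t => D (F.mu t) t + ε with hav
  have hDmu : ∀ t s, D (F.mu t) s = av t - ε * (if t = s then 1 else 0) := by
    intro t s
    have h := hdiff (F.mu t) s t
    simp only [F.mu_inj.eq_iff, if_true] at h
    simp only [hav]
    by_cases hts : t = s
    · subst hts; simp
    · simp [hts] at h ⊢
      omega
  have hnn : ∀ s t, H13.TI.nn (F.rep s) (F.rep t) = if s = t then 1 else 0 := by
    intro s t
    by_cases h : s = t
    · subst h; rw [if_pos rfl, H13.TI.nn_of_rel hH (F.rep_ne s) (H13.TI.rel_refl A _)]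
    · rw [if_neg h, H13.TI.nn_of_not_rel fun hr => h (F.rep_inj _ _ (H13.TI.rel_symm A hr))]
  have hin : ∀ (χ : IrrCharacter G) s, classInner (χ : G → ℂ)
      (H13.TI.ind (1 : A →* ℂˣ) - H13.TI.ind (F.rep s)) = (D χ s : ℂ) := by
    intro χ s
    rw [H12.classInner_sub_right, H13.TI.coef_spec, H13.TI.coef_spec]
    simp [hD]
  have hav_const : ∀ t u, av t = av u := by
    intro t u
    by_cases htu : t = u
    · rw [htu]
    have h := H13.TI.isometry hH (F.rep t) (F.rep u) 1 (F.rep t)
    rw [F.diff, hεF, H12.classInner_smul_left, H12.classInner_sub_left, hin, hin,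
      hnn, hnn, H13.TI.nn_one_right (F.rep_ne t), H13.TI.nn_one_right (F.rep_ne u),
      if_pos rfl, if_neg (Ne.symm htu)] at h
    have h' : ε * (D (F.mu t) t - D (F.mu u) t) = -1 := by
      apply Int.cast_injective (α := ℂ)
      push_cast
      rw [h]; ring
    rw [hDmu, hDmu, if_pos rfl, if_neg (Ne.symm htu)] at h'
    have h2 : ε * (av t - av u) = 0 := by
      linear_combination h' + hεsq
    rcases hεc with rfl | rfl <;> simp at h2 <;> omega
  set a := av o with ha
  set b : IrrCharacter G → ℤ := fun χ => if ∃ s, χ = F.mu s then 0 else D χ o with hb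
  have hbD : ∀ χ, (∀ s, χ ≠ F.mu s) → ∀ s, D χ s = b χ := by
    intro χ hχ s
    have h := hdiff χ s o
    rw [if_neg (hχ s), if_neg (hχ o)] at h
    simp only [hb]
    rw [if_neg (by simpa using hχ)]
    linarith
  have hsplit : ∀ f : IrrCharacter G → ℂ, ∑ χ, f χ =
      ∑ χ ∈ Finset.univ.filter (fun χ => ∀ s, χ ≠ F.mu s), f χ + ∑ s, f (F.mu s) := by
    intro f
    rw [← Finset.sum_filter_add_sum_filter_not Finset.univ (fun χ => ∀ s, χ ≠ F.mu s)]
    congr 1
    refine (Finset.sum_bij (fun s _ => F.mu s) (fun s _ => ?_) (fun s _ t _ h => F.mu_inj h)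
      (fun χ hχ => ?_) (fun s _ => rfl)).symm
    · simp only [Finset.mem_filter, Finset.mem_univ, true_and, not_forall, ne_eq, not_not]
      exact ⟨s, rfl⟩
    · simp only [Finset.mem_filter, Finset.mem_univ, true_and, not_forall, ne_eq, not_not] at hχ
      obtain ⟨s, hs⟩ := hχ
      exact ⟨s, Finset.mem_univ _, hs.symm⟩
  set Φ : G → ℂ := H13.TI.ind (1 : A →* ℂˣ) - H13.TI.ind (F.rep o) with hΦ
  have hΦc : IsClassFunction G Φ := H12.IsClassFunction.sub
    (H13.TI.ind_isClassFunction _) (H13.TI.ind_isClassFunction _)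
  have hco : ∀ χ : IrrCharacter G, classInner Φ (χ : G → ℂ) = (D χ o : ℂ) := by
    intro χ
    rw [← H12.conj_classInner, hΦ, hin, map_intCast]
  have hbmu : ∀ s, b (F.mu s) = 0 := fun s => by
    simp only [hb]; exact if_pos ⟨s, rfl⟩
  have hbsum : ∀ f : IrrCharacter G → ℂ, ∑ χ, (b χ : ℂ) * f χ =
      ∑ χ ∈ Finset.univ.filter (fun χ => ∀ s, χ ≠ F.mu s), (D χ o : ℂ) * f χ := by
    intro f
    rw [hsplit]
    simp only [hbmu, Int.cast_zero, zero_mul, Finset.sum_const_zero, add_zero]
    refine Finset.sum_congr rfl fun χ hχ => ?_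
    rw [hbD χ (Finset.mem_filter.1 hχ).2]
  have hnorm : ∑ χ, b χ ^ 2 + ((a - ε) ^ 2 + ((F.w : ℤ) - 1) * a ^ 2) = (e : ℤ) + 1 := by
    have h1 := H13.TI.isometry hH 1 (F.rep o) 1 (F.rep o)
    rw [← hΦ, hnn, if_pos rfl, H13.TI.nn_one_one, hN, H13.TI.nn_one_left (F.rep_ne o),
      H13.TI.nn_one_right (F.rep_ne o), H12.classInner_eq_sum_mul hΦc hΦc] at h1
    simp only [hco, map_intCast] at h1
    rw [hsplit, ← hbsum] at h1
    apply Int.cast_injective (α := ℂ)
    push_cast
    rw [show (e : ℂ) + 1 = (e : ℂ) - 0 - (0 - 1) by ring, ← h1]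
    congr 1
    · refine Finset.sum_congr rfl fun χ _ => ?_
      by_cases h : ∀ s, χ ≠ F.mu s
      · rw [hbD χ h]; ring
      · push Not at h
        obtain ⟨s, rfl⟩ := h
        simp [hbmu]
    · rw [← Finset.add_sum_erase _ _ (Finset.mem_univ o)]
      have e1 : ∀ s ∈ (Finset.univ : Finset (Fin F.w)).erase o,
          (D (F.mu s) o : ℂ) * (D (F.mu s) o : ℂ) = (a : ℂ) ^ 2 := fun s hs => by
        rw [hDmu, if_neg (Finset.ne_of_mem_erase hs), hav_const s o, ← ha]; push_cast; ring
      rw [Finset.sum_congr rfl e1, Finset.sum_const, Finset.card_erase_of_mem (Finset.mem_univ o),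
        Finset.card_univ, Fintype.card_fin, nsmul_eq_mul, Nat.cast_sub (by omega), hDmu,
        if_pos rfl, ← ha]
      push_cast; ring
  have hb1 : b (H12.oneIrr G) = 1 ∧ ∀ s, F.mu s ≠ H12.oneIrr G := by
    have h0 : ∀ θ : A →* ℂˣ, (H13.TI.coef (H12.oneIrr G) θ : ℂ) = if θ = 1 then 1 else 0 := by
      intro θ
      haveI := Fintype.ofFinite A
      rw [← H13.TI.coef_res]
      refine Eq.trans ?_ ((H13.TI.lf_inner A (1 : A →* ℂˣ) θ).trans (by
        by_cases h : θ = 1
        · subst h; simp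
        · rw [if_neg h, if_neg (Ne.symm h)]))
      congr 1
    have hD1 : ∀ s, D (H12.oneIrr G) s = 1 := by
      intro s
      apply Int.cast_injective (α := ℂ)
      simp only [hD, Int.cast_sub, Int.cast_natCast, h0, if_pos, if_neg (F.rep_ne s)]
      simp
    have hne : ∀ s, F.mu s ≠ H12.oneIrr G := by
      intro s hs
      obtain ⟨t, hts⟩ : ∃ t, t ≠ s := by
        by_contra hc
        push Not at hc
        have : Subsingleton (Fin F.w) := ⟨fun x y => (hc x).trans (hc y).symm⟩
        rw [Fin.subsingleton_iff_le_one] at this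
        omega
      have h := hdiff (H12.oneIrr G) s t
      rw [hD1, hD1, if_pos hs.symm, if_neg (fun e2 => hts (F.mu_inj (e2.symm.trans hs.symm)))] at h
      rcases hεc with rfl | rfl <;> simp at h
    refine ⟨?_, hne⟩
    rw [← hbD (H12.oneIrr G) (fun s => (hne s).symm) o, hD1]
  have hval : ∀ χ, (∀ s, χ ≠ F.mu s) → ∀ x ∈ A, x ≠ 1 → (χ : G → ℂ) x = b χ := by
    intro χ hχ x hx hx1
    have hsum : ∑ θ : A →* ℂˣ, (θ ⟨x, hx⟩ : ℂ) = 0 := by
      letI : CommGroup A := { (inferInstance : Group A) with mul_comm := mul_comm' }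
      obtain ⟨φ, hφ⟩ : ∃ φ : A →* ℂˣ, φ ⟨x, hx⟩ ≠ 1 :=
        CommGroup.exists_apply_ne_one_of_hasEnoughRootsOfUnity A ℂ
          (fun h => hx1 (congrArg Subtype.val h))
      have h2 : (φ ⟨x, hx⟩ : ℂ) * ∑ θ : A →* ℂˣ, (θ ⟨x, hx⟩ : ℂ) =
          ∑ θ : A →* ℂˣ, (θ ⟨x, hx⟩ : ℂ) := by
        rw [Finset.mul_sum]
        exact Fintype.sum_equiv (Equiv.mulLeft φ) _ _ fun θ => by simp
      rcases mul_left_eq_self₀.1 h2 with h | h
      · exact absurd (Units.ext h) hφ
      · exact h
    rw [show x = ((⟨x, hx⟩ : A) : G) from rfl, res_eq_sum hA]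
    have key : ∀ θ : A →* ℂˣ, (H13.TI.coef χ θ : ℂ) * (θ ⟨x, hx⟩ : ℂ) =
        ((H13.TI.coef χ (1 : A →* ℂˣ) : ℂ) - b χ) * (θ ⟨x, hx⟩ : ℂ) + if θ = 1 then (b χ : ℂ) else 0 := by
      intro θ
      by_cases h : θ = 1
      · subst h; rw [if_pos rfl]; simp
      · obtain ⟨s, hs⟩ := F.rep_all θ h
        rw [if_neg h, add_zero, ← H13.TI.coef_rel χ hs, ← hbD χ hχ s]
        simp [hD]
    rw [Finset.sum_congr rfl fun θ _ => key θ, Finset.sum_add_distrib, ← Finset.mul_sum, hsum,
      mul_zero, zero_add, Finset.sum_ite_eq' Finset.univ (1 : A →* ℂˣ), if_pos (Finset.mem_univ _)]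
  have hsumval : ∀ x ∈ A, x ≠ 1 →
      ∑ s, (F.mu s : G → ℂ) x = ((F.w : ℤ) * a - ε : ℤ) := by
    intro x hx hx1
    have hsum : ∑ θ : A →* ℂˣ, (θ ⟨x, hx⟩ : ℂ) = 0 := by
      letI : CommGroup A := { (inferInstance : Group A) with mul_comm := mul_comm' }
      obtain ⟨φ, hφ⟩ : ∃ φ : A →* ℂˣ, φ ⟨x, hx⟩ ≠ 1 :=
        CommGroup.exists_apply_ne_one_of_hasEnoughRootsOfUnity A ℂ
          (fun h => hx1 (congrArg Subtype.val h))
      have h2 : (φ ⟨x, hx⟩ : ℂ) * ∑ θ : A →* ℂˣ, (θ ⟨x, hx⟩ : ℂ) =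
          ∑ θ : A →* ℂˣ, (θ ⟨x, hx⟩ : ℂ) := by
        rw [Finset.mul_sum]
        exact Fintype.sum_equiv (Equiv.mulLeft φ) _ _ fun θ => by simp
      rcases mul_left_eq_self₀.1 h2 with h | h
      · exact absurd (Units.ext h) hφ
      · exact h
    show ∑ s, (F.mu s : G → ℂ) ((⟨x, hx⟩ : A) : G) = _
    rw [Finset.sum_congr rfl fun s _ => res_eq_sum hA (F.mu s) ⟨x, hx⟩]
    rw [Finset.sum_comm]
    set C : ℂ := ∑ t, (H13.TI.coef (F.mu t) (1 : A →* ℂˣ) : ℂ) with hC
    have key : ∀ θ : A →* ℂˣ, ∑ t, (H13.TI.coef (F.mu t) θ : ℂ) * (θ ⟨x, hx⟩ : ℂ) =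
        (C - ((F.w : ℤ) * a - ε : ℤ)) * (θ ⟨x, hx⟩ : ℂ) +
          if θ = 1 then ((((F.w : ℤ) * a - ε : ℤ)) : ℂ) else 0 := by
      intro θ
      rw [← Finset.sum_mul]
      by_cases h : θ = 1
      · subst h; rw [if_pos rfl]; simp [hC]
      · obtain ⟨s, hs⟩ := F.rep_all θ h
        rw [if_neg h, add_zero]
        congr 1
        have e1 : ∀ t, (H13.TI.coef (F.mu t) θ : ℂ) =
            (H13.TI.coef (F.mu t) (1 : A →* ℂˣ) : ℂ) - ((a : ℂ) - (ε : ℂ) * if t = s then 1 else 0) := by
          intro t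
          have e2 := congrArg (Int.cast (R := ℂ)) (hDmu t s)
          rw [hav_const t o, ← ha] at e2
          simp only [hD] at e2
          push_cast at e2
          rw [← H13.TI.coef_rel (F.mu t) hs]
          linear_combination -e2
        rw [Finset.sum_congr rfl fun t _ => e1 t, Finset.sum_sub_distrib, ← hC,
          Finset.sum_sub_distrib, Finset.sum_const, Finset.card_univ, Fintype.card_fin,
          ← Finset.mul_sum, Finset.sum_ite_eq', if_pos (Finset.mem_univ _)]
        simp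
    rw [Finset.sum_congr rfl fun θ _ => key θ, Finset.sum_add_distrib, ← Finset.mul_sum, hsum,
      mul_zero, zero_add, Finset.sum_ite_eq' Finset.univ (1 : A →* ℂˣ), if_pos (Finset.mem_univ _)]
  have hconst : ∀ g, ¬ InA A g → ∀ s t, (F.mu s : G → ℂ) g = (F.mu t : G → ℂ) g := by
    intro g hg s t
    have h := congrFun (F.diff s t) g
    rw [Pi.sub_apply, ind_sub_eq_zero hg, Pi.smul_apply, Pi.sub_apply, smul_eq_mul, eq_comm,
      mul_eq_zero] at h
    rcases h with h | h
    · exact absurd h F.eps_ne_zero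
    · exact sub_eq_zero.1 h
  have hrel : ∀ g, ¬ InA A g → ∀ s, ∑ χ, (b χ : ℂ) * (χ : G → ℂ) g +
      ((F.w : ℤ) * a - ε : ℤ) * (F.mu s : G → ℂ) g = 0 := by
    intro g hg s
    have h := H12.classFunction_apply_eq_sum hΦc g
    simp only [hco] at h
    rw [hsplit, ← hbsum] at h
    rw [show Φ g = 0 from ind_sub_eq_zero hg _ _] at h
    rw [h]
    congr 1
    rw [Finset.sum_congr rfl (g := fun t => (D (F.mu t) o : ℂ) * (F.mu s : G → ℂ) g)
      (fun t _ => by rw [hconst g hg t s]), ← Finset.sum_mul]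
    congr 1
    simp only [hDmu, hav_const _ o, ← ha]
    push_cast
    rw [Finset.sum_sub_distrib, Finset.sum_const, Finset.card_univ, Fintype.card_fin,
      ← Finset.mul_sum, Finset.sum_ite_eq', if_pos (Finset.mem_univ _)]
    simp
  have hdist : ∀ s t, s ≠ t → ∃ x ∈ A, x ≠ 1 ∧ (F.mu s : G → ℂ) x ≠ (F.mu t : G → ℂ) x := by
    intro s t hst
    by_contra hc
    push Not at hc
    apply hst
    apply F.mu_inj
    apply Subtype.ext
    funext g
    by_cases hg : InA A g
    · obtain ⟨hg1, c, hc'⟩ := hg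
      rw [← H12.irr_isClassFunction (F.mu s) g c, ← H12.irr_isClassFunction (F.mu t) g c]
      refine hc _ hc' fun e2 => hg1 ?_
      calc g = c⁻¹ * (c * g * c⁻¹) * c := by group
        _ = 1 := by rw [e2]; group
    · exact hconst g hg s t
  have hnonconst : ∀ s, ∀ β : ℂ, ∃ x ∈ A, x ≠ 1 ∧ (F.mu s : G → ℂ) x ≠ β := by
    intro s β
    by_contra hc
    push Not at hc
    obtain ⟨t, hts⟩ : ∃ t, t ≠ s := by
      by_contra hc'
      push Not at hc'
      have : Subsingleton (Fin F.w) := ⟨fun x y => (hc' x).trans (hc' y).symm⟩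
      rw [Fin.subsingleton_iff_le_one] at this
      omega
    haveI := Fintype.ofFinite A
    have key : ∀ θ : A →* ℂˣ, θ ≠ 1 → (H13.TI.coef (F.mu s) θ : ℂ) =
        (Nat.card A : ℂ)⁻¹ * ((F.mu s : G → ℂ) 1 - β) := by
      intro θ hθ
      rw [← H13.TI.coef_res, H12.classInner_def]
      congr 1
      have hf : ∀ h : A, (F.mu s : G → ℂ) (h : G) =
          β + if h = 1 then (F.mu s : G → ℂ) 1 - β else 0 := by
        intro h
        by_cases h1 : h = 1
        · subst h1; simp
        · rw [if_neg h1, add_zero]; exact hc h h.2 fun e => h1 (Subtype.ext e)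
      have h0 := H13.TI.lf_inner A (1 : A →* ℂˣ) θ
      rw [if_neg (Ne.symm hθ), H12.classInner_def, mul_eq_zero, inv_eq_zero] at h0
      rcases h0 with h0 | h0
      · exact absurd h0 (Nat.cast_ne_zero.2 Nat.card_pos.ne')
      rw [Finset.sum_congr rfl fun h _ => by rw [hf h, add_mul, ite_mul, zero_mul],
        Finset.sum_add_distrib, Finset.sum_ite_eq', if_pos (Finset.mem_univ _), ← Finset.mul_sum]
      simp [H13.TI.lf] at h0 ⊢
      rw [h0]; simp
    have h := hdiff (F.mu s) s t
    simp only [F.mu_inj.eq_iff, if_true, if_neg (Ne.symm hts), hD] at h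
    have h2 : H13.TI.coef (F.mu s) (F.rep s) = H13.TI.coef (F.mu s) (F.rep t) := by
      exact_mod_cast (key _ (F.rep_ne s)).trans (key _ (F.rep_ne t)).symm
    rw [h2] at h
    rcases hεc with rfl | rfl <;> simp at h
  have hbpos : 1 ≤ ∑ χ, b χ ^ 2 := by
    have := Finset.single_le_sum (f := fun χ => b χ ^ 2) (fun χ _ => sq_nonneg _)
      (Finset.mem_univ (H12.oneIrr G))
    simpa [hb1.1] using this
  have hcases : a = 0 ∨ a = ε := by
    have hwz : (2 : ℤ) ≤ F.w := by exact_mod_cast hw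
    have hez : (e : ℤ) ≤ 4 := by rcases he with rfl | rfl <;> norm_num
    have h1 : (a - ε) ^ 2 + ((F.w : ℤ) - 1) * a ^ 2 ≤ 4 := by linarith
    have h2 : (a - ε) ^ 2 + a ^ 2 ≤ 4 := by nlinarith [sq_nonneg a]
    have h3 : a ≤ 2 ∧ -2 ≤ a := ⟨by nlinarith, by nlinarith⟩
    rcases hεc with rfl | rfl <;> (obtain ⟨h3, h4⟩ := h3; interval_cases a <;> omega)
  by_cases hsmall : F.w = 2 ∧ a = ε
  · obtain ⟨hw2, haε⟩ := hsmall
    let sw : Fin F.w → Fin F.w := fun s => ⟨1 - s.1, by omega⟩
    have hswinj : Function.Injective sw := fun s t h => Fin.ext (by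
      have := congrArg Fin.val h; simp only [sw] at this; omega)
    have hswbij : Function.Bijective sw := Finite.injective_iff_bijective.1 hswinj
    refine ⟨{ m := F.w, two_le := hw, card_eq := hcard, mu := F.mu ∘ sw,
              mu_inj := F.mu_inj.comp hswinj, eps := -ε,
              eps_cases := by rcases hεc with rfl | rfl <;> simp,
              a := 0, a_cases := Or.inl rfl, b := b, b_mu := fun s => hbmu _, b_one := hb1.1,
              one_ne := fun s => hb1.2 _, val := fun χ hχ => hval χ fun s h => by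
                obtain ⟨u, rfl⟩ := hswbij.2 s
                exact hχ u h
              sum_val := fun x hx hx1 => by
                rw [Fintype.sum_bijective sw hswbij (fun s => ((F.mu ∘ sw) s : G → ℂ) x)
                  (fun s => (F.mu s : G → ℂ) x) (fun s => rfl), hsumval x hx hx1, hw2, haε]
                push_cast; ring
              nonconst := fun s => hnonconst _
              distinct := fun s t h => hdist _ _ (hswinj.ne h)
              norm := by rw [← hnorm, hw2, haε]; push_cast; ring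
              const := fun g hg s t => hconst g hg _ _
              rel := fun g hg s => by
                have e2 : (F.w : ℤ) * 0 - -ε = (F.w : ℤ) * a - ε := by
                  rw [haε, show (F.w : ℤ) = 2 by exact_mod_cast hw2]; ring
                rw [e2]; exact hrel g hg (sw s) }⟩
  · refine ⟨{ m := F.w, two_le := hw, card_eq := hcard, mu := F.mu, mu_inj := F.mu_inj, eps := ε,
              eps_cases := hεc, a := a, a_cases := ?_, b := b, b_mu := hbmu, b_one := hb1.1,
              one_ne := hb1.2, val := hval, sum_val := hsumval, nonconst := hnonconst,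
              distinct := hdist, norm := hnorm,
              const := hconst, rel := hrel }⟩
    rcases hcases with h | h
    · exact Or.inl h
    · refine Or.inr ⟨h, by omega, ?_⟩
      rcases he with rfl | rfl
      · exfalso
        rw [h] at hnorm
        have hw3 : (3 : ℤ) ≤ F.w := by
          have : F.w ≠ 2 := fun e2 => hsmall ⟨e2, h⟩
          omega
        have hε2 : ε ^ 2 = 1 := by rw [pow_two]; exact hεsq
        rw [hε2, mul_one] at hnorm
        push_cast at hnorm
        have hsum1 : ∑ χ, b χ ^ 2 = 1 := by nlinarith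
        have hw3' : (F.w : ℤ) = 3 := by nlinarith
        have hb0 : ∀ χ, χ ≠ H12.oneIrr G → b χ = 0 := by
          intro χ hχ
          by_contra h0
          have := Finset.sum_le_sum_of_subset_of_nonneg (f := fun χ => b χ ^ 2)
            (Finset.subset_univ {χ, H12.oneIrr G}) (fun i _ _ => sq_nonneg _)
          rw [Finset.sum_pair hχ, hsum1, hb1.1] at this
          have : 0 < b χ ^ 2 := by positivity
          omega
        have hr := hrel 1 (not_inA_one A) o
        rw [Finset.sum_eq_single (H12.oneIrr G) (fun χ _ hχ => by rw [hb0 χ hχ]; simp)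
          (fun h' => absurd (Finset.mem_univ _) h'), hb1.1, H12.oneIrr_apply,
          H12.irr_apply_one, h] at hr
        have hr' : (1 : ℤ) + ((F.w : ℤ) * ε - ε) * (H12.degree (F.mu o : G → ℂ) : ℤ) = 0 := by
          apply Int.cast_injective (α := ℂ)
          push_cast at hr ⊢
          linear_combination hr
        rw [hw3'] at hr'
        rcases hεc with e2 | e2 <;> rw [e2] at hr' <;> omega
      · rfl

end H22.SC
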