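import Mathlib
import Cfsg.Agent.H22.SC.Exc
import Cfsg.Agent.H12.Orth

/-!
Three strongly self-centralising subgroups with normaliser indices 2, 4, 4: the outside classes
and the class equation.
-/

set_option autoImplicit false
set_option linter.unusedSectionVars false
set_option linter.style.haveILetI false

open Cfsg

namespace H22.SC

universe u

section One

variable {G : Type u} [Group G] [Finite G] {A : Subgroup G}

theorem InA.conj {g : G} (h : InA A g) (d : G) : InA A (d * g * d⁻¹) := by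
  obtain ⟨h1, c, hc⟩ := h
  refine ⟨fun e => h1 ?_, c * d⁻¹, by simpa [mul_assoc] using hc⟩
  calc g = d⁻¹ * (d * g * d⁻¹) * d := by group
    _ = 1 := by rw [e]; group

theorem inA_of_isConj {g g' : G} (h : InA A g) (hc : IsConj g g') : InA A g' := by
  obtain ⟨d, rfl⟩ := isConj_iff.1 hc
  exact h.conj d

theorem InA.of_commute (hA : Ssc A) {g h : G} (hg : InA A g) (hh : h ≠ 1) (hc : h * g = g * h) :
    InA A h := by
  obtain ⟨h1, c, hc'⟩ := hg
  refine ⟨hh, c, ?_⟩
  have hne : c * g * c⁻¹ ≠ 1 := fun e => h1 (by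
    calc g = c⁻¹ * (c * g * c⁻¹) * c := by group
      _ = 1 := by rw [e]; group)
  rw [← hA _ hc' hne, Subgroup.mem_centralizer_singleton_iff]
  calc c * h * c⁻¹ * (c * g * c⁻¹) = c * (h * g) * c⁻¹ := by group
    _ = c * (g * h) * c⁻¹ := by rw [hc]
    _ = c * g * c⁻¹ * (c * h * c⁻¹) := by group

theorem InA.orderOf_dvd {g : G} (hg : InA A g) : orderOf g ∣ Nat.card A := by
  obtain ⟨-, c, hc⟩ := hg
  have h2 : orderOf (c * g * c⁻¹) = orderOf g := by
    have := orderOf_injective (MulAut.conj c).toMonoidHom (MulAut.conj c).injective g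
    simpa using this
  rw [← h2, ← Subgroup.orderOf_mk _ hc]
  exact orderOf_dvd_natCard _

theorem InA.card_centralizer (hA : Ssc A) {g : G} (hg : InA A g) :
    Nat.card (Subgroup.centralizer ({g} : Set G)) = Nat.card A := by
  obtain ⟨h1, c, hc⟩ := hg
  have hne : c * g * c⁻¹ ≠ 1 := fun e => h1 (by
    calc g = c⁻¹ * (c * g * c⁻¹) * c := by group
      _ = 1 := by rw [e]; group)
  conv_rhs => rw [← hA _ hc hne]
  refine Nat.card_congr ((MulAut.conj c).toEquiv.subtypeEquiv fun x => ?_)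
  simp only [MulEquiv.toEquiv_eq_coe, EquivLike.coe_coe, MulAut.conj_apply,
    Subgroup.mem_centralizer_singleton_iff]
  constructor
  · intro e
    calc c * x * c⁻¹ * (c * g * c⁻¹) = c * (x * g) * c⁻¹ := by group
      _ = c * (g * x) * c⁻¹ := by rw [e]
      _ = c * g * c⁻¹ * (c * x * c⁻¹) := by group
  · intro e
    calc x * g = c⁻¹ * (c * x * c⁻¹ * (c * g * c⁻¹)) * c := by group
      _ = c⁻¹ * (c * g * c⁻¹ * (c * x * c⁻¹)) * c := by rw [e]
      _ = g * x := by group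

/-- `A` is a Hall subgroup. -/
theorem not_dvd_index (hA : Ssc A) {p : ℕ} (hp : p.Prime) (hpA : p ∣ Nat.card A) :
    ¬ p ∣ A.index := by
  haveI := Fact.mk hp
  obtain ⟨P, hP⟩ := Sylow.exists_subgroup_card_pow_prime p
    (Nat.ordProj_dvd (Nat.card A) p)
  obtain ⟨a, ha, ha2⟩ : ∃ a : G, a ∈ P.map A.subtype ∧ a ≠ 1 := by
    by_contra hc
    push Not at hc
    have hbot : P.map A.subtype = ⊥ := (Subgroup.eq_bot_iff_forall _).2 hc
    rw [Subgroup.map_eq_bot_iff_of_injective _ A.subtype_injective] at hbot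
    rw [hbot, Subgroup.card_bot] at hP
    have : 1 < p ^ (Nat.card A).factorization p :=
      Nat.one_lt_pow (hp.factorization_pos_of_dvd Nat.card_pos.ne' hpA).ne' hp.one_lt
    omega
  have haA : a ∈ A := by
    obtain ⟨y, -, rfl⟩ := ha
    exact y.2
  have hPG : IsPGroup p (P.map A.subtype) := (IsPGroup.of_card hP).map _
  obtain ⟨S, hS⟩ := hPG.exists_le_sylow
  have hSnt : Nontrivial (S : Subgroup G) := by
    rw [Subgroup.nontrivial_iff_ne_bot]
    intro h
    exact ha2 ((Subgroup.mem_bot).1 (h ▸ hS ha))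
  haveI := hSnt
  haveI := S.2.center_nontrivial
  obtain ⟨z, hz⟩ := exists_ne (1 : Subgroup.center (S : Subgroup G))
  set z' : G := ((z : (S : Subgroup G)) : G) with hz'
  have hz1 : z' ≠ 1 := fun e => hz (Subtype.ext (Subtype.ext e))
  have hcomm : ∀ s ∈ (S : Subgroup G), s * z' = z' * s := fun s hs =>
    congrArg Subtype.val (Subgroup.mem_center_iff.1 z.2 ⟨s, hs⟩)
  have hzA : z' ∈ A := by
    rw [← hA a haA ha2, Subgroup.mem_centralizer_singleton_iff]
    exact (hcomm a (hS ha)).symm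
  have hSA : (S : Subgroup G) ≤ A := fun s hs => by
    rw [← hA z' hzA hz1, Subgroup.mem_centralizer_singleton_iff]
    exact hcomm s hs
  intro h
  apply S.not_dvd_index
  calc p ∣ A.index := h
    _ ∣ (S : Subgroup G).index := Subgroup.index_dvd_of_le hSA

theorem inA_of_prime_dvd (hA : Ssc A) {p : ℕ} (hp : p.Prime) (hpA : p ∣ Nat.card A) {g : G}
    (hg : p ∣ orderOf g) : InA A g := by
  haveI := Fact.mk hp
  have hg1 : g ≠ 1 := fun e => by
    rw [e, orderOf_one] at hg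
    exact hp.ne_one (Nat.dvd_one.1 hg)
  set y := g ^ (orderOf g / p) with hy
  have hyo : orderOf y = p := orderOf_pow_orderOf_div (orderOf_pos g).ne' hg
  have hyA : InA A y := by
    refine ⟨fun e => hp.ne_one (by rw [← hyo, e, orderOf_one]), ?_⟩
    obtain ⟨T, hT⟩ : ∃ T : Sylow p A, True := ⟨Classical.arbitrary _, trivial⟩
    have hTmap : IsPGroup p ((T : Subgroup A).map A.subtype) := T.2.map _
    obtain ⟨S, hS⟩ := hTmap.exists_le_sylow
    have hy2 : IsPGroup p (Subgroup.zpowers y) := IsPGroup.of_card (n := 1) (by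
      rw [Nat.card_zpowers, hyo, pow_one])
    obtain ⟨S', hS'⟩ := hy2.exists_le_sylow
    obtain ⟨c, hc⟩ := MulAction.exists_smul_eq G S' S
    have hcard : Nat.card ((T : Subgroup A).map A.subtype) = Nat.card (S : Subgroup G) := by
      rw [Subgroup.card_map_of_injective A.subtype_injective, T.card_eq_multiplicity,
        S.card_eq_multiplicity, ← A.card_mul_index,
        Nat.factorization_mul Nat.card_pos.ne' Subgroup.index_ne_zero_of_finite, Finsupp.add_apply,
        Nat.factorization_eq_zero_of_not_dvd (not_dvd_index hA hp hpA), add_zero]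
    have heq := Subgroup.eq_of_le_of_card_ge hS hcard.ge
    refine ⟨c, ?_⟩
    have h1 : c * y * c⁻¹ ∈ (S : Subgroup G) := by
      rw [← hc]
      exact Subgroup.smul_mem_pointwise_smul y (MulAut.conj c) (S' : Subgroup G)
        (hS' (Subgroup.mem_zpowers y))
    rw [← heq] at h1
    obtain ⟨w, -, hw⟩ := h1
    rw [← hw]
    exact w.2
  exact hyA.of_commute hA hg1 ((Commute.refl g).pow_right _).eq

end One

variable {G : Type u} [Group G] [Fintype G]

noncomputable local instance (priority := high) fintypeClasses : Fintype (ConjClasses G) :=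
  Fintype.ofFinite _

/-- The classes of the elements conjugate into `A`. -/
noncomputable def clsA (A : Subgroup G) : Finset (ConjClasses G) := by
  classical
  exact (Finset.univ.filter fun a : G => a ∈ A ∧ a ≠ 1).image ConjClasses.mk

theorem mk_mem_clsA {A : Subgroup G} {g : G} : ConjClasses.mk g ∈ clsA A ↔ InA A g := by
  classical
  simp only [clsA, Finset.mem_image, Finset.mem_filter, Finset.mem_univ, true_and]
  constructor
  · rintro ⟨a, ⟨ha, ha1⟩, he⟩
    exact inA_of_isConj ⟨ha1, 1, by simpa using ha⟩ (ConjClasses.mk_eq_mk_iff_isConj.1 he)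
  · rintro ⟨h1, c, hc⟩
    refine ⟨c * g * c⁻¹, ⟨hc, fun e => h1 ?_⟩, ?_⟩
    · calc g = c⁻¹ * (c * g * c⁻¹) * c := by group
        _ = 1 := by rw [e]; group
    · exact ConjClasses.mk_eq_mk_iff_isConj.2 (isConj_iff.2 ⟨c⁻¹, by group⟩)

theorem card_clsA {A : Subgroup G} (hA : Ssc A) {e : ℕ} (E : Exc A e)
    (hN : A.relIndex (Subgroup.normalizer (A : Set G)) = e) : (clsA A).card = E.m := by
  classical
  set N := Subgroup.normalizer (A : Set G) with hNdef
  set S := Finset.univ.filter fun a : G => a ∈ A ∧ a ≠ 1 with hS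
  have hScard : S.card + 1 = Nat.card A := by
    have : S = (Finset.univ.filter fun a : G => a ∈ A).erase 1 := by
      ext a; simp [hS, and_comm]
    rw [this, Finset.card_erase_add_one (by simp), Nat.card_eq_fintype_card, Fintype.card_subtype]
  have hfib : ∀ C ∈ S.image ConjClasses.mk, (S.filter fun a => ConjClasses.mk a = C).card = e := by
    intro C hC
    obtain ⟨a, ha, rfl⟩ := Finset.mem_image.1 hC
    obtain ⟨haA, ha1⟩ : a ∈ A ∧ a ≠ 1 := (Finset.mem_filter.1 ha).2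
    rw [← hN, Subgroup.relIndex, Subgroup.index_eq_card]
    have hrep : ∀ k k' : N, (k : G) * a * (k : G)⁻¹ = (k' : G) * a * (k' : G)⁻¹ ↔
        k⁻¹ * k' ∈ A.subgroupOf N := by
      intro k k'
      rw [Subgroup.mem_subgroupOf, ← hA a haA ha1, Subgroup.mem_centralizer_singleton_iff,
        Subgroup.coe_mul, InvMemClass.coe_inv]
      constructor
      · intro h
        calc (k : G)⁻¹ * k' * a = (k : G)⁻¹ * ((k' : G) * a * (k' : G)⁻¹) * k' := by group
          _ = (k : G)⁻¹ * ((k : G) * a * (k : G)⁻¹) * k' := by rw [h]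
          _ = a * ((k : G)⁻¹ * k') := by group
      · intro h
        calc (k : G) * a * (k : G)⁻¹
            = (k : G) * (a * ((k : G)⁻¹ * k')) * (k' : G)⁻¹ := by group
          _ = (k : G) * ((k : G)⁻¹ * k' * a) * (k' : G)⁻¹ := by rw [h]
          _ = (k' : G) * a * (k' : G)⁻¹ := by group
    have hwd : ∀ k k' : N, (QuotientGroup.leftRel (A.subgroupOf N)).r k k' →
        (k : G) * a * (k : G)⁻¹ = (k' : G) * a * (k' : G)⁻¹ := fun k k' h =>
      (hrep k k').2 (QuotientGroup.leftRel_apply.1 h)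
    rw [← Fintype.card_coe, ← Nat.card_eq_fintype_card]
    refine (Nat.card_congr (Equiv.ofBijective
      (fun q : N ⧸ A.subgroupOf N => (⟨Quotient.liftOn' q (fun k => (k : G) * a * (k : G)⁻¹) hwd, ?_⟩ :
        ↥(S.filter fun b => ConjClasses.mk b = ConjClasses.mk a))) ⟨?_, ?_⟩)).symm
    · induction q using Quotient.inductionOn' with
      | h k =>
        simp only [Quotient.liftOn'_mk'', Finset.mem_filter, hS, Finset.mem_univ, true_and]
        refine ⟨⟨(Subgroup.mem_normalizer_iff.1 k.2 a).1 haA, fun e2 => ha1 ?_⟩,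
          ConjClasses.mk_eq_mk_iff_isConj.2 (isConj_iff.2 ⟨(k : G)⁻¹, by group⟩)⟩
        calc a = (k : G)⁻¹ * ((k : G) * a * (k : G)⁻¹) * k := by group
          _ = 1 := by rw [e2]; group
    · intro q q' h
      induction q using Quotient.inductionOn' with
      | h k =>
        induction q' using Quotient.inductionOn' with
        | h k' =>
          simp only [Quotient.liftOn'_mk'', Subtype.mk.injEq] at h
          exact Quotient.sound' (QuotientGroup.leftRel_apply.2 ((hrep k k').1 h))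
    · rintro ⟨b, hb⟩
      obtain ⟨hbS, hbC⟩ := Finset.mem_filter.1 hb
      obtain ⟨hbA, hb1⟩ : b ∈ A ∧ b ≠ 1 := (Finset.mem_filter.1 hbS).2
      obtain ⟨k, hk⟩ := isConj_iff.1 (ConjClasses.mk_eq_mk_iff_isConj.1 hbC.symm)
      have hkN : k ∈ N := hA.hyp.ti k a haA ha1 (hk ▸ hbA)
      exact ⟨Quotient.mk'' ⟨k, hkN⟩, Subtype.ext hk⟩
  have h1 := Finset.card_eq_sum_card_image ConjClasses.mk S
  rw [Finset.sum_congr rfl hfib, Finset.sum_const, smul_eq_mul] at h1
  have h2 := E.card_eq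
  have hm2 := E.two_le
  have he0 : 0 < e := Nat.pos_of_ne_zero (hN ▸ Subgroup.index_ne_zero_of_finite)
  apply Nat.eq_of_mul_eq_mul_left he0
  show e * (S.image ConjClasses.mk).card = e * E.m
  rw [mul_comm, ← h1]
  omega

/-- Three strongly self-centralising subgroups with normaliser indices 2, 4, 4. -/
structure Sys (A₁ A₂ A₃ : Subgroup G) : Prop where
  s₁ : Ssc A₁
  s₂ : Ssc A₂
  s₃ : Ssc A₃
  nc : ∀ g : G, A₁.map (MulAut.conj g).toMonoidHom ≠ A₂ ∧
    A₁.map (MulAut.conj g).toMonoidHom ≠ A₃ ∧ A₂.map (MulAut.conj g).toMonoidHom ≠ A₃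
  r₁ : A₁.relIndex (Subgroup.normalizer (A₁ : Set G)) = 2
  r₂ : A₂.relIndex (Subgroup.normalizer (A₂ : Set G)) = 4
  r₃ : A₃.relIndex (Subgroup.normalizer (A₃ : Set G)) = 4
  n₁ : 5 ≤ Nat.card A₁
  n₂ : 5 < Nat.card A₂
  n₃ : 5 < Nat.card A₃
  hord : Nat.card G ≤ 3 * Nat.card A₁ ^ 2 * Nat.card A₂ ^ 2 * Nat.card A₃ ^ 2
  hab : ∀ r : ℕ, r.Prime → r ≠ 2 → ¬ r ∣ Nat.card A₁ * Nat.card A₂ * Nat.card A₃ →
    ∀ P : Sylow r G, IsMulCommutative (P : Subgroup G)

theorem disjoint_of_not_conj {A B : Subgroup G} (hA : Ssc A) (hB : Ssc B)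
    (h : ∀ g : G, A.map (MulAut.conj g).toMonoidHom ≠ B) (g : G) (hgA : InA A g) : ¬ InA B g := by
  rintro ⟨-, d, hd⟩
  obtain ⟨h1, c, hc⟩ := hgA
  have hne : ∀ e : G, e * g * e⁻¹ ≠ 1 := fun e he => h1 (by
    calc g = e⁻¹ * (e * g * e⁻¹) * e := by group
      _ = 1 := by rw [he]; group)
  apply h (d * c⁻¹)
  ext x
  rw [Subgroup.mem_map_equiv, MulAut.conj_symm_apply]
  conv_lhs => rw [← hA _ hc (hne c), Subgroup.mem_centralizer_singleton_iff]
  conv_rhs => rw [← hB _ hd (hne d), Subgroup.mem_centralizer_singleton_iff]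
  constructor
  · intro e
    calc x * (d * g * d⁻¹)
        = (d * c⁻¹) * ((d * c⁻¹)⁻¹ * x * (d * c⁻¹) * (c * g * c⁻¹)) * (d * c⁻¹)⁻¹ := by group
      _ = (d * c⁻¹) * (c * g * c⁻¹ * ((d * c⁻¹)⁻¹ * x * (d * c⁻¹))) * (d * c⁻¹)⁻¹ := by rw [e]
      _ = d * g * d⁻¹ * x := by group
  · intro e
    calc (d * c⁻¹)⁻¹ * x * (d * c⁻¹) * (c * g * c⁻¹)
        = (d * c⁻¹)⁻¹ * (x * (d * g * d⁻¹)) * (d * c⁻¹) := by group
      _ = (d * c⁻¹)⁻¹ * (d * g * d⁻¹ * x) * (d * c⁻¹) := by rw [e]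
      _ = c * g * c⁻¹ * ((d * c⁻¹)⁻¹ * x * (d * c⁻¹)) := by group

namespace Sys

variable {A₁ A₂ A₃ : Subgroup G}

/-- `g` lies outside all conjugates of `A₁`, `A₂`, `A₃`. -/
def Out (_ : Sys A₁ A₂ A₃) (g : G) : Prop := ¬ InA A₁ g ∧ ¬ InA A₂ g ∧ ¬ InA A₃ g

variable (h : Sys A₁ A₂ A₃)
include h

theorem disj₁₂ (g : G) (hg : InA A₁ g) : ¬ InA A₂ g :=
  disjoint_of_not_conj h.s₁ h.s₂ (fun c => (h.nc c).1) g hg

theorem disj₁₃ (g : G) (hg : InA A₁ g) : ¬ InA A₃ g :=
  disjoint_of_not_conj h.s₁ h.s₃ (fun c => (h.nc c).2.1) g hg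

theorem disj₂₃ (g : G) (hg : InA A₂ g) : ¬ InA A₃ g :=
  disjoint_of_not_conj h.s₂ h.s₃ (fun c => (h.nc c).2.2) g hg

theorem coprime_of_disj {A B : Subgroup G} (hB : Ssc B)
    (hd : ∀ g : G, InA A g → ¬ InA B g) : (Nat.card A).Coprime (Nat.card B) := by
  refine Nat.coprime_of_dvd fun p hp hpA hpB => ?_
  haveI := Fact.mk hp
  obtain ⟨a, ha⟩ := exists_prime_orderOf_dvd_card' p hpA
  have hao : orderOf (a : G) = p := by rw [Subgroup.orderOf_coe]; exact ha
  refine hd (a : G) ⟨fun e => hp.ne_one ?_, 1, by simp⟩ (inA_of_prime_dvd hB hp hpB (dvd_of_eq hao.symm))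
  rw [← hao, e, orderOf_one]

theorem cop₁₂ : (Nat.card A₁).Coprime (Nat.card A₂) := coprime_of_disj h h.s₂ h.disj₁₂
theorem cop₁₃ : (Nat.card A₁).Coprime (Nat.card A₃) := coprime_of_disj h h.s₃ h.disj₁₃
theorem cop₂₃ : (Nat.card A₂).Coprime (Nat.card A₃) := coprime_of_disj h h.s₃ h.disj₂₃

theorem exc₁ : Nonempty (Exc A₁ 2) := exists_exc h.s₁ (Or.inl rfl) h.r₁ (by have := h.n₁; omega)
theorem exc₂ : Nonempty (Exc A₂ 4) := exists_exc h.s₂ (Or.inr rfl) h.r₂ (by have := h.n₂; omega)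
theorem exc₃ : Nonempty (Exc A₃ 4) := exists_exc h.s₃ (Or.inr rfl) h.r₃ (by have := h.n₃; omega)

theorem odd₁ : Nat.card A₁ % 2 = 1 := by
  obtain ⟨E⟩ := h.exc₁; rw [E.card_eq]; omega

theorem mod₂ : Nat.card A₂ % 4 = 1 := by
  obtain ⟨E⟩ := h.exc₂; rw [E.card_eq]; omega

theorem mod₃ : Nat.card A₃ % 4 = 1 := by
  obtain ⟨E⟩ := h.exc₃; rw [E.card_eq]; omega

theorem nine₂ : 9 ≤ Nat.card A₂ := by have := h.mod₂; have := h.n₂; omega
theorem nine₃ : 9 ≤ Nat.card A₃ := by have := h.mod₃; have := h.n₃; omega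

theorem out_one : h.Out 1 := ⟨not_inA_one _, not_inA_one _, not_inA_one _⟩

theorem out_of_isConj {g g' : G} (hg : h.Out g) (hc : IsConj g g') : h.Out g' :=
  ⟨fun e => hg.1 (inA_of_isConj e hc.symm), fun e => hg.2.1 (inA_of_isConj e hc.symm),
    fun e => hg.2.2 (inA_of_isConj e hc.symm)⟩

theorem out_of_commute {g k : G} (hg : h.Out g) (hg1 : g ≠ 1) (hc : g * k = k * g) : h.Out k :=
  ⟨fun e => hg.1 (e.of_commute h.s₁ hg1 hc), fun e => hg.2.1 (e.of_commute h.s₂ hg1 hc),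
    fun e => hg.2.2 (e.of_commute h.s₃ hg1 hc)⟩

/-- `N = n₁ n₂ n₃`. -/
noncomputable def NN (_ : Sys A₁ A₂ A₃) : ℕ := Nat.card A₁ * Nat.card A₂ * Nat.card A₃

theorem out_of_coprime {g : G} (hg : (orderOf g).Coprime h.NN) : h.Out g := by
  have key : ∀ A : Subgroup G, Nat.card A ∣ h.NN → ¬ InA A g := fun A hA hi => by
    have h1 : orderOf g = 1 := Nat.eq_one_of_dvd_coprimes hg dvd_rfl (hi.orderOf_dvd.trans hA)
    exact hi.1 (orderOf_eq_one_iff.1 h1)
  exact ⟨key _ ((dvd_mul_right _ _).trans (dvd_mul_right _ _)),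
    key _ ((dvd_mul_left _ _).trans (dvd_mul_right _ _)), key _ (dvd_mul_left _ _)⟩

theorem coprime_of_out {g : G} (hg : h.Out g) : (orderOf g).Coprime h.NN := by
  refine Nat.coprime_of_dvd fun p hp hpg hpN => ?_
  rcases hp.dvd_mul.1 hpN with h1 | h1
  · rcases hp.dvd_mul.1 h1 with h2 | h2
    · exact hg.1 (inA_of_prime_dvd h.s₁ hp h2 hpg)
    · exact hg.2.1 (inA_of_prime_dvd h.s₂ hp h2 hpg)
  · exact hg.2.2 (inA_of_prime_dvd h.s₃ hp h1 hpg)

theorem coprime_index : h.NN ∣ Nat.card G ∧ (Nat.card G / h.NN).Coprime h.NN := by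
  have hd : h.NN ∣ Nat.card G :=
    (Nat.Coprime.mul_dvd_of_dvd_of_dvd (h.cop₁₃.mul_left h.cop₂₃)
      (Nat.Coprime.mul_dvd_of_dvd_of_dvd h.cop₁₂ A₁.card_subgroup_dvd_card A₂.card_subgroup_dvd_card)
      A₃.card_subgroup_dvd_card)
  refine ⟨hd, Nat.coprime_of_dvd fun p hp hpq hpN => ?_⟩
  obtain ⟨q, hq⟩ := hd
  have hN0 : h.NN ≠ 0 := by
    intro e; rw [e, zero_mul] at hq; exact Nat.card_pos.ne' hq
  rw [hq, Nat.mul_div_cancel_left _ (Nat.pos_of_ne_zero hN0)] at hpq
  have key : ∀ A : Subgroup G, Ssc A → Nat.card A ∣ h.NN → ¬ p ∣ Nat.card A := by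
    intro A hA hAN hpA
    apply not_dvd_index hA hp hpA
    obtain ⟨k, hk⟩ := hAN
    have h1 : A.index = k * q := by
      apply Nat.eq_of_mul_eq_mul_left (Nat.card_pos (α := A))
      rw [A.card_mul_index, hq, hk, mul_assoc]
    rw [h1]
    exact hpq.mul_left k
  rcases hp.dvd_mul.1 hpN with h1 | h1
  · rcases hp.dvd_mul.1 h1 with h2 | h2
    · exact key A₁ h.s₁ ((dvd_mul_right _ _).trans (dvd_mul_right _ _)) h2
    · exact key A₂ h.s₂ ((dvd_mul_left _ _).trans (dvd_mul_right _ _)) h2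
  · exact key A₃ h.s₃ (dvd_mul_left _ _) h1

/-- The outside classes. -/
noncomputable def clsOut (_ : Sys A₁ A₂ A₃) : Finset (ConjClasses G) := by
  classical
  exact Finset.univ \ (clsA A₁ ∪ clsA A₂ ∪ clsA A₃)

theorem mk_mem_clsOut {g : G} : ConjClasses.mk g ∈ h.clsOut ↔ h.Out g := by
  classical
  simp only [clsOut, Finset.mem_sdiff, Finset.mem_univ, true_and, Finset.mem_union, mk_mem_clsA,
    Out, not_or, and_assoc]

/-- The sum of the reciprocal centraliser orders of the outside classes. -/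
noncomputable def bound (_ : Sys A₁ A₂ A₃) : ℚ :=
  1 / (2 * (Nat.card A₁ : ℚ)) + 1 / (4 * (Nat.card A₂ : ℚ)) + 1 / (4 * (Nat.card A₃ : ℚ))

/-- The reciprocal centraliser order of a class. -/
noncomputable def wt (C : ConjClasses G) : ℚ :=
  1 / (Nat.card (Subgroup.centralizer ({C.out} : Set G)) : ℚ)

omit h in
theorem wt_mk (g : G) :
    wt (ConjClasses.mk g) = 1 / (Nat.card (Subgroup.centralizer ({g} : Set G)) : ℚ) := by
  classical
  have hc : IsConj (ConjClasses.mk g).out g := ConjClasses.mk_eq_mk_iff_isConj.1 (Quotient.out_eq _)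
  have e1 := H12.card_conjClass_mul_card_centralizer (ConjClasses.mk g).out
  have e2 := H12.card_conjClass_mul_card_centralizer g
  have e3 : ({x : G | IsConj (ConjClasses.mk g).out x} : Finset G) = ({x : G | IsConj g x} : Finset G) := by
    ext x
    simp only [Finset.mem_filter, Finset.mem_univ, true_and]
    exact ⟨hc.symm.trans, hc.trans⟩
  rw [e3] at e1
  have h0 : 0 < ({x : G | IsConj g x} : Finset G).card :=
    Finset.card_pos.2 ⟨g, Finset.mem_filter.2 ⟨Finset.mem_univ _, IsConj.refl g⟩⟩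
  rw [wt, Nat.eq_of_mul_eq_mul_left h0 (e1.trans e2.symm)]

omit h in
theorem sum_wt : ∑ C : ConjClasses G, wt C = 1 := by
  classical
  have h1 := Finset.card_eq_sum_card_fiberwise
    (f := ConjClasses.mk) (s := (Finset.univ : Finset G)) (t := Finset.univ)
    (fun _ _ => Finset.mem_univ _)
  have hG : (0 : ℚ) < Nat.card G := by exact_mod_cast Nat.card_pos
  have h2 : ∀ C : ConjClasses G,
      ((Finset.univ.filter fun g : G => ConjClasses.mk g = C).card : ℚ) = Nat.card G * wt C := by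
    intro C
    have hfil : (Finset.univ.filter fun g : G => ConjClasses.mk g = C)
        = ({x : G | IsConj C.out x} : Finset G) := by
      ext x
      simp only [Finset.mem_filter, Finset.mem_univ, true_and]
      constructor
      · intro hx
        refine ConjClasses.mk_eq_mk_iff_isConj.1 ?_
        rw [hx]
        exact Quotient.out_eq C
      · intro hx
        exact (ConjClasses.mk_eq_mk_iff_isConj.2 hx.symm).trans (Quotient.out_eq C)
    have e := H12.card_conjClass_mul_card_centralizer C.out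
    rw [hfil, wt, eq_comm, mul_one_div, div_eq_iff (Nat.cast_ne_zero.2 Nat.card_pos.ne')]
    exact_mod_cast e.symm
  rw [Finset.card_univ, ← Nat.card_eq_fintype_card] at h1
  have h3 : (Nat.card G : ℚ) = ∑ C : ConjClasses G, (Nat.card G : ℚ) * wt C := by
    conv_lhs => rw [h1]
    push_cast
    exact Finset.sum_congr rfl fun C _ => h2 C
  rw [← Finset.mul_sum] at h3
  exact mul_left_cancel₀ hG.ne' (h3.symm.trans (mul_one _).symm)

theorem sum_clsOut : ∑ C ∈ h.clsOut, wt C = h.bound := by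
  classical
  obtain ⟨E₁⟩ := h.exc₁; obtain ⟨E₂⟩ := h.exc₂; obtain ⟨E₃⟩ := h.exc₃
  have hA : ∀ (A : Subgroup G) (hA : Ssc A) (e : ℕ) (E : Exc A e)
      (hN : A.relIndex (Subgroup.normalizer (A : Set G)) = e),
      ∑ C ∈ clsA A, wt C = (E.m : ℚ) / Nat.card A := by
    intro A hA e E hN
    rw [Finset.sum_eq_card_nsmul (b := 1 / (Nat.card A : ℚ)), card_clsA hA E hN, nsmul_eq_mul,
      mul_one_div]
    intro C hC
    obtain ⟨g, rfl⟩ := ConjClasses.exists_rep C
    rw [wt_mk, InA.card_centralizer hA (mk_mem_clsA.1 hC)]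
  have hd : ∀ {A B : Subgroup G}, (∀ g, InA A g → ¬ InA B g) → Disjoint (clsA A) (clsA B) := by
    intro A B hAB
    rw [Finset.disjoint_left]
    intro C hC hC'
    obtain ⟨g, rfl⟩ := ConjClasses.exists_rep C
    exact hAB g (mk_mem_clsA.1 hC) (mk_mem_clsA.1 hC')
  have htot := sum_wt (G := G)
  rw [← Finset.sum_sdiff (Finset.subset_univ (clsA A₁ ∪ clsA A₂ ∪ clsA A₃)),
    Finset.sum_union (Finset.disjoint_union_left.2 ⟨hd h.disj₁₃, hd h.disj₂₃⟩),
    Finset.sum_union (hd h.disj₁₂), hA A₁ h.s₁ 2 E₁ h.r₁, hA A₂ h.s₂ 4 E₂ h.r₂,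
    hA A₃ h.s₃ 4 E₃ h.r₃] at htot
  have hpos : ∀ A : Subgroup G, (0 : ℚ) < Nat.card A := fun A => by exact_mod_cast Nat.card_pos
  have key : ∀ (A : Subgroup G) (e : ℕ) (E : Exc A e), 0 < e →
      (E.m : ℚ) / Nat.card A = 1 / e - 1 / (e * (Nat.card A : ℚ)) := by
    intro A e E he
    have := hpos A
    have he' : (0 : ℚ) < e := by exact_mod_cast he
    field_simp
    rw [E.card_eq]; push_cast; ring
  rw [key A₁ 2 E₁ (by norm_num), key A₂ 4 E₂ (by norm_num), key A₃ 4 E₃ (by norm_num)] at htot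
  show ∑ C ∈ Finset.univ \ (clsA A₁ ∪ clsA A₂ ∪ clsA A₃), wt C = h.bound
  unfold bound
  push_cast at htot ⊢
  linarith

/-- Pairwise non-conjugate outside elements contribute at most `bound`. -/
theorem sum_le {ι : Type*} (s : Finset ι) (f : ι → G) (hout : ∀ i ∈ s, h.Out (f i))
    (hne : ∀ i ∈ s, ∀ j ∈ s, i ≠ j → ¬ IsConj (f i) (f j)) :
    ∑ i ∈ s, (1 : ℚ) / Nat.card (Subgroup.centralizer ({f i} : Set G)) ≤ h.bound := by
  classical
  rw [← h.sum_clsOut]
  simp only [← wt_mk]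
  rw [← Finset.sum_image (f := wt) (g := fun i => ConjClasses.mk (f i)) (fun i hi j hj e => by
    by_contra hij
    exact hne i hi j hj hij (ConjClasses.mk_eq_mk_iff_isConj.1 e))]
  refine Finset.sum_le_sum_of_subset_of_nonneg ?_ fun C _ _ => by unfold wt; positivity
  intro C hC
  obtain ⟨i, hi, rfl⟩ := Finset.mem_image.1 hC
  exact h.mk_mem_clsOut.2 (hout i hi)

theorem card_classes (E₁ : Exc A₁ 2) (E₂ : Exc A₂ 4) (E₃ : Exc A₃ 4) :
    Nat.card (ConjClasses G) = E₁.m + E₂.m + E₃.m + h.clsOut.card := by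
  classical
  have hd : ∀ {A B : Subgroup G}, (∀ g, InA A g → ¬ InA B g) → Disjoint (clsA A) (clsA B) := by
    intro A B hAB
    rw [Finset.disjoint_left]
    intro C hC hC'
    obtain ⟨g, rfl⟩ := ConjClasses.exists_rep C
    exact hAB g (mk_mem_clsA.1 hC) (mk_mem_clsA.1 hC')
  rw [← card_clsA h.s₁ E₁ h.r₁, ← card_clsA h.s₂ E₂ h.r₂, ← card_clsA h.s₃ E₃ h.r₃,
    ← Finset.card_union_of_disjoint (hd h.disj₁₂),
    ← Finset.card_union_of_disjoint (Finset.disjoint_union_left.2 ⟨hd h.disj₁₃, hd h.disj₂₃⟩),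
    Nat.card_eq_fintype_card, ← Finset.card_univ, clsOut]
  rw [add_comm, Finset.card_sdiff_add_card_eq_card (Finset.subset_univ _)]

theorem pairwise_le {ι : Type*} (s : Finset ι) (f : ι → G) (hout : ∀ i ∈ s, h.Out (f i))
    (hne : ∀ i ∈ s, ∀ j ∈ s, i ≠ j → ¬ IsConj (f i) (f j)) : s.card ≤ h.clsOut.card := by
  classical
  refine Finset.card_le_card_of_injOn (fun i => ConjClasses.mk (f i))
    (fun i hi => h.mk_mem_clsOut.2 (hout i hi)) fun i hi j hj e => ?_
  by_contra hij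
  exact hne i hi j hj hij (ConjClasses.mk_eq_mk_iff_isConj.1 e)

end Sys

end H22.SC
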