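import Mathlib
import Cfsg.Agent.H22.SC.Sys
import Cfsg.Agent.H22.SC.Comb
import Cfsg.Agent.H62.InvertCount
import Cfsg.Agent.H65.Order720
import Cfsg.Agent.H65.InvolutionThird
import Cfsg.Agent.H24.CharBasic

/-!
The non-exceptional characters of a (2, 4, 4) system: at most six outside classes.
-/

set_option autoImplicit false
set_option linter.unusedSectionVars false
set_option linter.style.haveILetI false

open Cfsg
open scoped ComplexConjugate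

namespace H22.SC

universe u

variable {G : Type u} [Group G] [Fintype G]

theorem Exc.exists_ne_one {A : Subgroup G} {e : ℕ} (E : Exc A e) : ∃ x ∈ A, x ≠ 1 := by
  obtain ⟨x, hx, hx1, -⟩ := E.nonconst ⟨0, by have := E.two_le; omega⟩ 0
  exact ⟨x, hx, hx1⟩

theorem Exc.not_mem_range {A B : Subgroup G} {e e' : ℕ} (E : Exc A e) (E' : Exc B e')
    (hd : ∀ g : G, InA B g → ¬ InA A g) (t : Fin E.m) (u : Fin E'.m) : E.mu t ≠ E'.mu u := by
  intro h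
  obtain ⟨t', ht'⟩ : ∃ t', t' ≠ t := by
    have : Nontrivial (Fin E.m) := Fin.nontrivial_iff_two_le.2 E.two_le
    exact exists_ne t
  have heq : ∀ x ∈ B, x ≠ 1 → (E.mu t' : G → ℂ) x = (E'.mu u : G → ℂ) x := fun x hx hx1 => by
    rw [← h]
    exact E.const x (hd x ⟨hx1, 1, by simpa using hx⟩) t' t
  by_cases hr : ∃ u', E.mu t' = E'.mu u'
  · obtain ⟨u', hu'⟩ := hr
    have hne : u' ≠ u := fun e2 => ht' (E.mu_inj (by rw [hu', e2, h]))
    obtain ⟨x, hx, hx1, hx2⟩ := E'.distinct u' u hne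
    exact hx2 (by rw [← hu']; exact heq x hx hx1)
  · push Not at hr
    obtain ⟨x, hx, hx1, hx2⟩ := E'.nonconst u (E'.b (E.mu t') : ℂ)
    exact hx2 (by rw [← heq x hx hx1, E'.val _ hr x hx hx1])

/-- The character data of a (2, 4, 4) system. -/
structure Chars {A₁ A₂ A₃ : Subgroup G} (h : Sys A₁ A₂ A₃) where
  E₁ : Exc A₁ 2
  E₂ : Exc A₂ 4
  E₃ : Exc A₃ 4
  θ : IrrCharacter G
  s : ℤ
  s_cases : s = 1 ∨ s = -1
  θ_ne : θ ≠ H12.oneIrr G
  θ_not : ∀ t, E₁.mu t ≠ θ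
  b₁θ : E₁.b θ = s
  b₁_zero : ∀ χ, χ ≠ H12.oneIrr G → χ ≠ θ → E₁.b χ = 0

namespace Sys

variable {A₁ A₂ A₃ : Subgroup G} (h : Sys A₁ A₂ A₃)
include h

theorem d₂₁ (g : G) (hg : InA A₂ g) : ¬ InA A₁ g := fun e => h.disj₁₂ g e hg
theorem d₃₁ (g : G) (hg : InA A₃ g) : ¬ InA A₁ g := fun e => h.disj₁₃ g e hg
theorem d₃₂ (g : G) (hg : InA A₃ g) : ¬ InA A₂ g := fun e => h.disj₂₃ g e hg

theorem exists_chars : Nonempty (Chars h) := by
  classical
  obtain ⟨E₁⟩ := h.exc₁; obtain ⟨E₂⟩ := h.exc₂; obtain ⟨E₃⟩ := h.exc₃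
  have ha : E₁.a = 0 := by
    rcases E₁.a_cases with e | ⟨-, -, e⟩
    · exact e
    · omega
  have hn := E₁.norm
  rw [ha] at hn
  have hε : (0 - E₁.eps) ^ 2 = 1 := by rcases E₁.eps_cases with e | e <;> rw [e] <;> norm_num
  rw [hε] at hn
  have hs : ∑ χ, E₁.b χ ^ 2 = 2 := by push_cast at hn; linarith
  rw [← Finset.add_sum_erase _ _ (Finset.mem_univ (H12.oneIrr G)), E₁.b_one] at hs
  have hrest : ∑ χ ∈ Finset.univ.erase (H12.oneIrr G), E₁.b χ ^ 2 = 1 := by linarith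
  obtain ⟨θ, hθ, hθb⟩ : ∃ θ ∈ Finset.univ.erase (H12.oneIrr G), E₁.b θ ≠ 0 := by
    by_contra hc
    push Not at hc
    rw [Finset.sum_eq_zero fun χ hχ => by rw [hc χ hχ]; norm_num] at hrest
    exact zero_ne_one hrest
  rw [← Finset.add_sum_erase _ _ hθ] at hrest
  have h0 : ∀ χ ∈ (Finset.univ.erase (H12.oneIrr G)).erase θ, 0 ≤ E₁.b χ ^ 2 := fun χ _ => sq_nonneg _
  have hpos : 0 < E₁.b θ ^ 2 := by positivity
  have h1 : E₁.b θ ^ 2 = 1 := by linarith [Finset.sum_nonneg h0]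
  refine ⟨⟨E₁, E₂, E₃, θ, E₁.b θ, sq_eq_one_iff.1 h1, Finset.ne_of_mem_erase hθ,
    fun t e => hθb (by rw [← e, E₁.b_mu]), rfl, fun χ hχ1 hχ2 => ?_⟩⟩
  have h2 := (Finset.sum_eq_zero_iff_of_nonneg h0).1 (by linarith) χ
    (Finset.mem_erase.2 ⟨hχ2, Finset.mem_erase.2 ⟨hχ1, Finset.mem_univ _⟩⟩)
  exact (pow_eq_zero_iff two_ne_zero).1 h2

end Sys

namespace Chars

variable {A₁ A₂ A₃ : Subgroup G} {h : Sys A₁ A₂ A₃} (X : Chars h)

theorem a₁ : X.E₁.a = 0 := by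
  rcases X.E₁.a_cases with e | ⟨-, -, e⟩
  · exact e
  · omega

theorem s_sq : X.s * X.s = 1 := by rcases X.s_cases with e | e <;> rw [e] <;> rfl

theorem sum_b₁ (f : IrrCharacter G → ℂ) :
    ∑ χ, (X.E₁.b χ : ℂ) * f χ = f (H12.oneIrr G) + (X.s : ℂ) * f X.θ := by
  classical
  rw [Finset.sum_eq_add (H12.oneIrr G) X.θ X.θ_ne.symm (fun χ _ hχ => by
    rw [X.b₁_zero χ hχ.1 hχ.2]; simp) (fun h' => absurd (Finset.mem_univ _) h')
    (fun h' => absurd (Finset.mem_univ _) h'), X.E₁.b_one, X.b₁θ]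
  simp

theorem rel₁ {g : G} (hg : ¬ InA A₁ g) (t : Fin X.E₁.m) :
    (X.E₁.eps : ℂ) * (X.E₁.mu t : G → ℂ) g = 1 + (X.s : ℂ) * (X.θ : G → ℂ) g := by
  have h1 := X.E₁.rel g hg t
  rw [sum_b₁ X (fun χ => (χ : G → ℂ) g), H12.oneIrr_apply, X.a₁] at h1
  push_cast at h1
  linear_combination -h1

theorem θ_not₂ {B : Subgroup G} {e : ℕ} (E : Exc B e) (hd : ∀ g : G, InA B g → ¬ InA A₁ g)
    (u : Fin E.m) : X.θ ≠ E.mu u := by
  intro hu
  let t : Fin X.E₁.m := ⟨0, by have := X.E₁.two_le; omega⟩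
  have hr : ∀ u', X.E₁.mu t ≠ E.mu u' := fun u' => X.E₁.not_mem_range E hd t u'
  obtain ⟨x, hx, hx1, hne⟩ := E.nonconst u
    ((X.s : ℂ) * ((X.E₁.eps : ℂ) * (E.b (X.E₁.mu t) : ℂ) - 1))
  apply hne
  have h1 := X.rel₁ (hd x ⟨hx1, 1, by simpa using hx⟩) t
  rw [E.val _ hr x hx hx1, hu] at h1
  have hs : (X.s : ℂ) * X.s = 1 := by exact_mod_cast X.s_sq
  linear_combination -((X.s : ℂ)) * h1 - (E.mu u : G → ℂ) x * hs

theorem b_μ₁ {B : Subgroup G} {e : ℕ} (E : Exc B e) (hd : ∀ g : G, InA B g → ¬ InA A₁ g)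
    (t : Fin X.E₁.m) : X.E₁.eps * E.b (X.E₁.mu t) = 1 + X.s * E.b X.θ := by
  obtain ⟨x, hx, hx1⟩ := E.exists_ne_one
  have h1 := X.rel₁ (hd x ⟨hx1, 1, by simpa using hx⟩) t
  rw [E.val _ (fun u' => X.E₁.not_mem_range E hd t u') x hx hx1,
    E.val _ (fun u' => X.θ_not₂ E hd u') x hx hx1] at h1
  exact_mod_cast h1

open scoped Classical in
/-- The characters named by the three systems. -/
noncomputable def named : Finset (IrrCharacter G) :=
  {H12.oneIrr G, X.θ} ∪ Finset.univ.image X.E₁.mu ∪ Finset.univ.image X.E₂.mu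
    ∪ Finset.univ.image X.E₃.mu

theorem sum_named {M : Type*} [AddCommMonoid M] (f : IrrCharacter G → M) :
    ∑ χ, f χ = f (H12.oneIrr G) + f X.θ + ∑ t, f (X.E₁.mu t) + ∑ u, f (X.E₂.mu u)
      + ∑ w, f (X.E₃.mu w) + ∑ χ ∈ X.namedᶜ, f χ := by
  classical
  rw [← Finset.sum_add_sum_compl X.named]
  congr 1
  unfold named
  rw [Finset.sum_union, Finset.sum_union, Finset.sum_union, Finset.sum_pair X.θ_ne.symm,
    Finset.sum_image X.E₁.mu_inj.injOn, Finset.sum_image X.E₂.mu_inj.injOn,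
    Finset.sum_image X.E₃.mu_inj.injOn]
  · simp only [Finset.disjoint_right, Finset.mem_image, Finset.mem_univ, true_and,
      forall_exists_index, forall_apply_eq_imp_iff, Finset.mem_insert, Finset.mem_singleton, not_or]
    exact fun t => ⟨X.E₁.one_ne t, X.θ_not t⟩
  · simp only [Finset.disjoint_right, Finset.mem_image, Finset.mem_univ, true_and,
      forall_exists_index, forall_apply_eq_imp_iff, Finset.mem_insert, Finset.mem_singleton,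
      Finset.mem_union, not_or, not_exists]
    exact fun u => ⟨⟨X.E₂.one_ne u, (X.θ_not₂ X.E₂ h.d₂₁ u).symm⟩,
      fun t => X.E₁.not_mem_range X.E₂ h.d₂₁ t u⟩
  · simp only [Finset.disjoint_right, Finset.mem_image, Finset.mem_univ, true_and,
      forall_exists_index, forall_apply_eq_imp_iff, Finset.mem_insert, Finset.mem_singleton,
      Finset.mem_union, not_or, not_exists]
    exact fun w => ⟨⟨⟨X.E₃.one_ne w, (X.θ_not₂ X.E₃ h.d₃₁ w).symm⟩,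
      fun t => X.E₁.not_mem_range X.E₃ h.d₃₁ t w⟩, fun u => X.E₂.not_mem_range X.E₃ h.d₃₂ u w⟩

theorem card_named :
    X.named.card = 2 + X.E₁.m + X.E₂.m + X.E₃.m := by
  classical
  have h1 := X.sum_named (fun _ => (1 : ℕ))
  simp only [Finset.sum_const, smul_eq_mul, mul_one, Finset.card_univ, Fintype.card_fin] at h1
  have h2 := Finset.card_add_card_compl X.named
  omega

/-- The cross relation leaves at most two further characters that are nonzero on `A₂` or `A₃`. -/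
theorem extras_card :
    (X.namedᶜ.filter fun χ => X.E₂.b χ ≠ 0 ∨ X.E₃.b χ ≠ 0).card ≤ 2 := by
  classical
  set θ₂ := X.s * X.E₂.b X.θ with hθ₂
  set θ₃ := X.s * X.E₃.b X.θ with hθ₃
  let w₀ : Fin X.E₃.m := ⟨0, by have := X.E₃.two_le; omega⟩
  let u₀ : Fin X.E₂.m := ⟨0, by have := X.E₂.two_le; omega⟩
  have hd₂₃ : ∀ g, InA A₃ g → ¬ InA A₂ g := h.d₃₂
  have hd₃₂ : ∀ g, InA A₂ g → ¬ InA A₃ g := h.disj₂₃
  set c := X.E₃.b (X.E₂.mu u₀) with hc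
  set c' := X.E₂.b (X.E₃.mu w₀) with hc'
  have hconstc : ∀ u, X.E₃.b (X.E₂.mu u) = c := by
    intro u
    obtain ⟨x, hx, hx1⟩ := X.E₃.exists_ne_one
    have h1 := X.E₂.const x (hd₂₃ x ⟨hx1, 1, by simpa using hx⟩) u u₀
    rw [X.E₃.val _ (fun w => X.E₂.not_mem_range X.E₃ hd₂₃ u w) x hx hx1,
      X.E₃.val _ (fun w => X.E₂.not_mem_range X.E₃ hd₂₃ u₀ w) x hx hx1] at h1
    exact_mod_cast h1
  have hconstc' : ∀ w, X.E₂.b (X.E₃.mu w) = c' := by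
    intro w
    obtain ⟨x, hx, hx1⟩ := X.E₂.exists_ne_one
    have h1 := X.E₃.const x (hd₃₂ x ⟨hx1, 1, by simpa using hx⟩) w w₀
    rw [X.E₂.val _ (fun u => X.E₃.not_mem_range X.E₂ hd₃₂ w u) x hx hx1,
      X.E₂.val _ (fun u => X.E₃.not_mem_range X.E₂ hd₃₂ w₀ u) x hx hx1] at h1
    exact_mod_cast h1
  have hε₁ : X.E₁.eps * X.E₁.eps = 1 := by
    rcases X.E₁.eps_cases with e | e <;> rw [e] <;> rfl
  have hμ₂ : ∀ t, X.E₂.b (X.E₁.mu t) = X.E₁.eps * (1 + θ₂) := fun t => by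
    have := X.b_μ₁ X.E₂ h.d₂₁ t
    rw [hθ₂, ← this, ← mul_assoc, hε₁, one_mul]
  have hμ₃ : ∀ t, X.E₃.b (X.E₁.mu t) = X.E₁.eps * (1 + θ₃) := fun t => by
    have := X.b_μ₁ X.E₃ h.d₃₁ t
    rw [hθ₃, ← this, ← mul_assoc, hε₁, one_mul]
  have hθsq : ∀ z : ℤ, z ^ 2 = (X.s * z) ^ 2 := fun z => by
    rw [mul_pow, pow_two X.s, X.s_sq, one_mul]
  set p₂ := ∑ χ ∈ X.namedᶜ, X.E₂.b χ ^ 2 with hp₂
  set p₃ := ∑ χ ∈ X.namedᶜ, X.E₃.b χ ^ 2 with hp₃
  set q := ∑ χ ∈ X.namedᶜ, X.E₂.b χ * X.E₃.b χ with hq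
  have n₂ := X.E₂.norm
  rw [X.sum_named] at n₂
  simp only [X.E₂.b_one, X.E₂.b_mu, hμ₂, hconstc', Finset.sum_const, Finset.card_univ,
    Fintype.card_fin, nsmul_eq_mul, ← hp₂, mul_pow] at n₂
  rw [pow_two X.E₁.eps, hε₁, hθsq (X.E₂.b X.θ), ← hθ₂] at n₂
  have n₃ := X.E₃.norm
  rw [X.sum_named] at n₃
  simp only [X.E₃.b_one, X.E₃.b_mu, hμ₃, hconstc, Finset.sum_const, Finset.card_univ,
    Fintype.card_fin, nsmul_eq_mul, ← hp₃, mul_pow] at n₃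
  rw [pow_two X.E₁.eps, hε₁, hθsq (X.E₃.b X.θ), ← hθ₃] at n₃
  obtain ⟨a, ha, ha1⟩ := X.E₂.exists_ne_one
  obtain ⟨b, hb, hb1⟩ := X.E₃.exists_ne_one
  have hcross := H12.column_orthogonality a b
  rw [if_neg (fun hc2 => h.disj₂₃ b (inA_of_isConj ⟨ha1, 1, by simpa using ha⟩ hc2)
    ⟨hb1, 1, by simpa using hb⟩), X.sum_named] at hcross
  have hbA : ¬ InA A₂ b := hd₂₃ b ⟨hb1, 1, by simpa using hb⟩
  have haA : ¬ InA A₃ a := hd₃₂ a ⟨ha1, 1, by simpa using ha⟩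
  have e₂ : ∀ χ, (∀ u, χ ≠ X.E₂.mu u) → (χ : G → ℂ) a = X.E₂.b χ := fun χ hχ => X.E₂.val χ hχ a ha ha1
  have e₃ : ∀ χ, (∀ w, χ ≠ X.E₃.mu w) → (χ : G → ℂ) b = X.E₃.b χ := fun χ hχ => X.E₃.val χ hχ b hb hb1
  have hrest : ∀ χ ∈ X.namedᶜ, (χ : G → ℂ) a * conj ((χ : G → ℂ) b) =
      ((X.E₂.b χ * X.E₃.b χ : ℤ) : ℂ) := by
    intro χ hχ
    rw [Finset.mem_compl, named] at hχ
    simp only [Finset.mem_union, Finset.mem_image, Finset.mem_univ, true_and, not_or, not_exists]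
      at hχ
    rw [e₂ χ fun u e => hχ.1.2 u e.symm, e₃ χ fun w e => hχ.2 w e.symm, map_intCast, Int.cast_mul]
  have hμ1 : ∀ t, (X.E₁.mu t : G → ℂ) a * conj ((X.E₁.mu t : G → ℂ) b) =
      (((1 + θ₂) * (1 + θ₃) : ℤ) : ℂ) := by
    intro t
    rw [e₂ _ (fun u => X.E₁.not_mem_range X.E₂ h.d₂₁ t u),
      e₃ _ (fun w => X.E₁.not_mem_range X.E₃ h.d₃₁ t w), map_intCast, ← Int.cast_mul, hμ₂, hμ₃]
    congr 1
    linear_combination (1 + θ₂) * (1 + θ₃) * hε₁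
  have hS2 : ∑ u, (X.E₂.mu u : G → ℂ) a * conj ((X.E₂.mu u : G → ℂ) b) =
      ((((X.E₂.m : ℤ) * X.E₂.a - X.E₂.eps) * c : ℤ) : ℂ) := by
    rw [Finset.sum_congr rfl fun u _ => by
      rw [e₃ _ (fun w => X.E₂.not_mem_range X.E₃ hd₂₃ u w), map_intCast, hconstc u],
      ← Finset.sum_mul, X.E₂.sum_val a ha ha1, ← Int.cast_mul]
  have hS3 : ∑ w, (X.E₃.mu w : G → ℂ) a * conj ((X.E₃.mu w : G → ℂ) b) =
      ((c' * ((X.E₃.m : ℤ) * X.E₃.a - X.E₃.eps) : ℤ) : ℂ) := by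
    rw [Finset.sum_congr rfl fun w _ => by
      rw [e₂ _ (fun u => X.E₃.not_mem_range X.E₂ hd₃₂ w u), hconstc' w],
      ← Finset.mul_sum, ← map_sum, X.E₃.sum_val b hb hb1, map_intCast, ← Int.cast_mul]
  have hθab : (X.θ : G → ℂ) a * conj ((X.θ : G → ℂ) b) = ((θ₂ * θ₃ : ℤ) : ℂ) := by
    rw [e₂ _ (X.θ_not₂ X.E₂ h.d₂₁), e₃ _ (X.θ_not₂ X.E₃ h.d₃₁), map_intCast, ← Int.cast_mul,
      hθ₂, hθ₃]
    congr 1
    linear_combination -(X.E₂.b X.θ * X.E₃.b X.θ) * X.s_sq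
  rw [H12.oneIrr_apply, H12.oneIrr_apply, map_one, mul_one, hθab,
    Finset.sum_congr rfl (fun t _ => hμ1 t), hS2, hS3, Finset.sum_congr rfl hrest,
    show (∑ χ ∈ X.namedᶜ, ((X.E₂.b χ * X.E₃.b χ : ℤ) : ℂ)) = (q : ℂ) by rw [hq, Int.cast_sum],
    Finset.sum_const, Finset.card_univ, Fintype.card_fin, nsmul_eq_mul,
    ← Int.cast_natCast] at hcross
  have hcross' : 1 + θ₂ * θ₃ + (X.E₁.m : ℤ) * ((1 + θ₂) * (1 + θ₃)) + q
      + c * ((X.E₂.m : ℤ) * X.E₂.a - X.E₂.eps) + c' * ((X.E₃.m : ℤ) * X.E₃.a - X.E₃.eps) = 0 := by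
    apply Int.cast_injective (α := ℂ)
    push_cast at hcross ⊢
    linear_combination hcross
  have hac : ∀ {B : Subgroup G} (E : Exc B 4),
      E.a = 0 ∨ (E.a = E.eps ∧ (3 : ℤ) ≤ (E.m : ℤ)) := fun E =>
    E.a_cases.imp id fun ⟨e1, e2, _⟩ => ⟨e1, by exact_mod_cast e2⟩
  have hne : (X.E₂.m : ℤ) ≠ X.E₃.m := by
    intro e
    have e' : X.E₂.m = X.E₃.m := by exact_mod_cast e
    have h1 := h.cop₂₃
    rw [X.E₂.card_eq, X.E₃.card_eq, e', Nat.coprime_self] at h1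
    have := X.E₃.two_le
    omega
  push_cast at n₂ n₃
  have key := extras_le (m₁ := (X.E₁.m : ℤ)) (m₂ := (X.E₂.m : ℤ)) (m₃ := (X.E₃.m : ℤ))
    (θ₂ := θ₂) (θ₃ := θ₃) (c := c) (c' := c') (p₂ := p₂) (p₃ := p₃) (q := q)
    (by exact_mod_cast X.E₁.two_le) (by exact_mod_cast X.E₂.two_le) (by exact_mod_cast X.E₃.two_le)
    hne X.E₂.eps_cases X.E₃.eps_cases (hac X.E₂) (hac X.E₃)
    (Finset.sum_nonneg fun χ _ => sq_nonneg _) (Finset.sum_nonneg fun χ _ => sq_nonneg _)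
    (Finset.sum_mul_sq_le_sq_mul_sq _ _ _)
    (by linear_combination n₂) (by linear_combination n₃) hcross'
  set S := X.namedᶜ.filter fun χ => X.E₂.b χ ≠ 0 ∨ X.E₃.b χ ≠ 0 with hS
  have hpt : ∀ σ : ℤ, σ = 1 ∨ σ = -1 → (S.card : ℤ) ≤ p₂ + p₃ + σ * q := by
    intro σ hσ
    rw [hp₂, hp₃, hq, Finset.mul_sum, ← Finset.sum_add_distrib, ← Finset.sum_add_distrib,
      hS, Finset.card_filter, Nat.cast_sum]
    refine Finset.sum_le_sum fun χ _ => ?_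
    generalize X.E₂.b χ = x, X.E₃.b χ = y
    have key2 : x ≠ 0 ∨ y ≠ 0 → 0 < x ^ 2 + y ^ 2 + σ * (x * y) := by
      intro hxy
      have hp : 0 < x ^ 2 + y ^ 2 := by
        rcases hxy with hx | hy
        · have : 0 < x ^ 2 := by positivity
          linarith [sq_nonneg y]
        · have : 0 < y ^ 2 := by positivity
          linarith [sq_nonneg x]
      rcases hσ with rfl | rfl <;> nlinarith [sq_nonneg (x + y), sq_nonneg (x - y)]
    split_ifs with hxy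
    · have := key2 hxy; push_cast; linarith
    · push Not at hxy
      rw [hxy.1, hxy.2]; simp
  rcases key with hk | hk
  · have := hpt (-1) (Or.inr rfl); omega
  · have := hpt 1 (Or.inl rfl); omega

/-- `U = s θ(1)`. -/
noncomputable def U : ℤ := X.s * (H12.degree (X.θ : G → ℂ) : ℤ)

theorem vanish {χ : IrrCharacter G} (hχ : χ ∉ X.named)
    (hχ' : ¬ (X.E₂.b χ ≠ 0 ∨ X.E₃.b χ ≠ 0)) :
    h.NN ∣ H12.degree (χ : G → ℂ) := by
  classical
  rw [named] at hχ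
  simp only [Finset.mem_union, Finset.mem_insert, Finset.mem_singleton, Finset.mem_image,
    Finset.mem_univ, true_and, not_or, not_exists] at hχ
  push Not at hχ'
  have hb₁ : X.E₁.b χ = 0 := X.b₁_zero χ hχ.1.1.1.1 hχ.1.1.1.2
  have key : ∀ (A : Subgroup G) (e : ℕ) (E : Exc A e), (∀ t, χ ≠ E.mu t) → E.b χ = 0 →
      Nat.card A ∣ H12.degree (χ : G → ℂ) := by
    intro A e E hne hb
    haveI := Fintype.ofFinite A
    refine ⟨H13.TI.coef χ (1 : A →* ℂˣ), ?_⟩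
    have hc : (H13.TI.coef χ (1 : A →* ℂˣ) : ℂ) = (Nat.card A : ℂ)⁻¹ * (χ : G → ℂ) 1 := by
      rw [← H13.TI.coef_res, H12.classInner_def, Finset.sum_eq_single (1 : A)]
      · simp [H13.TI.lf]
      · intro b _ hb1
        rw [E.val χ hne b b.2 (fun e2 => hb1 (Subtype.ext e2)), hb]; simp
      · simp
    rw [H12.irr_apply_one] at hc
    apply Nat.cast_injective (R := ℂ)
    push_cast
    rw [hc, ← mul_assoc, mul_inv_cancel₀ (Nat.cast_ne_zero.2 Nat.card_pos.ne'), one_mul]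
  exact Nat.Coprime.mul_dvd_of_dvd_of_dvd (h.cop₁₃.mul_left h.cop₂₃)
    (Nat.Coprime.mul_dvd_of_dvd_of_dvd h.cop₁₂
      (key A₁ 2 X.E₁ (fun t e => hχ.1.1.2 t e.symm) hb₁)
      (key A₂ 4 X.E₂ (fun t e => hχ.1.2 t e.symm) hχ'.1))
    (key A₃ 4 X.E₃ (fun t e => hχ.2 t e.symm) hχ'.2)

end Chars

namespace Sys

variable {A₁ A₂ A₃ : Subgroup G} (h : Sys A₁ A₂ A₃)
include h

theorem clsOut_le : h.clsOut.card ≤ 6 ∧ (5 ≤ h.clsOut.card → h.NN ^ 2 < Nat.card G) := by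
  classical
  obtain ⟨X⟩ := h.exists_chars
  set W := X.namedᶜ.filter fun χ => ¬ (X.E₂.b χ ≠ 0 ∨ X.E₃.b χ ≠ 0) with hW
  have hcard : Nat.card (IrrCharacter G) = X.E₁.m + X.E₂.m + X.E₃.m + h.clsOut.card := by
    rw [H12.card_irrCharacter, h.card_classes X.E₁ X.E₂ X.E₃]
  have hsplit := Finset.card_filter_add_card_filter_not (s := X.namedᶜ)
    (fun χ => X.E₂.b χ ≠ 0 ∨ X.E₃.b χ ≠ 0)
  have hcompl := Finset.card_add_card_compl X.named
  rw [X.card_named, ← Nat.card_eq_fintype_card, hcard] at hcompl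
  have hex := X.extras_card
  rw [← hW] at hsplit
  have hone : H12.oneIrr G ∉ W := fun hm => by
    rw [hW, Finset.mem_filter, Finset.mem_compl] at hm
    exact hm.1 (by simp [Chars.named])
  have hsum : W.card * h.NN ^ 2 + 1 ≤ Nat.card G := by
    have h1 := H12.sum_degree_sq_nat (G := G)
    rw [← h1, ← Finset.add_sum_erase _ _ (Finset.mem_univ (H12.oneIrr G))]
    have hd1 : H12.degree ((H12.oneIrr G : IrrCharacter G) : G → ℂ) = 1 := by
      have := H12.irr_apply_one (H12.oneIrr G)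
      rw [H12.oneIrr_apply] at this
      exact_mod_cast this.symm
    have h3 : W.card * h.NN ^ 2 ≤
        ∑ χ ∈ Finset.univ.erase (H12.oneIrr G), H12.degree (χ : G → ℂ) ^ 2 := by
      refine le_trans ?_ (Finset.sum_le_sum_of_subset (s := W) fun χ hχ =>
        Finset.mem_erase.2 ⟨fun e => hone (e ▸ hχ), Finset.mem_univ _⟩)
      rw [← smul_eq_mul]
      refine Finset.card_nsmul_le_sum _ _ _ fun χ hχ => ?_
      rw [hW, Finset.mem_filter, Finset.mem_compl] at hχ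
      exact Nat.pow_le_pow_left (Nat.le_of_dvd (H12.irr_degree_pos χ) (X.vanish hχ.1 hχ.2)) 2
    rw [hd1]
    omega
  have hN : 0 < h.NN := Nat.mul_pos (Nat.mul_pos Nat.card_pos Nat.card_pos) Nat.card_pos
  have hord : Nat.card G ≤ 3 * h.NN ^ 2 := by
    refine h.hord.trans_eq ?_
    unfold NN; ring
  have hW2 : W.card ≤ 2 := by
    by_contra hc
    have : 3 * h.NN ^ 2 ≤ W.card * h.NN ^ 2 := Nat.mul_le_mul_right _ (by omega)
    omega
  refine ⟨by omega, fun h5 => ?_⟩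
  have h1 : 1 * h.NN ^ 2 ≤ W.card * h.NN ^ 2 := Nat.mul_le_mul_right _ (by omega)
  omega

/-- No seven outside classes. -/
theorem seven (f : Fin 7 → G) (hout : ∀ i, h.Out (f i))
    (hne : ∀ i j, i ≠ j → ¬ IsConj (f i) (f j)) : False := by
  have h1 := h.pairwise_le Finset.univ f (fun i _ => hout i) (fun i _ j _ => hne i j)
  have h2 := h.clsOut_le.1
  simp at h1
  omega

end Sys

namespace Chars

variable {A₁ A₂ A₃ : Subgroup G} {h : Sys A₁ A₂ A₃} (X : Chars h)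

theorem out_not {g : G} (hg : h.Out g) : ¬ InA A₁ g := hg.1

/-- The class algebra constant at a nontrivial element of `A₁`. -/
theorem classMult_formula {g k a : G} (hg : h.Out g) (hk : h.Out k) (ha : a ∈ A₁) (ha1 : a ≠ 1)
    (hU : X.U + 1 ≠ 0) :
    (H24.classMult g k a : ℂ) * (Nat.card (Subgroup.centralizer ({g} : Set G)) : ℂ) *
        (Nat.card (Subgroup.centralizer ({k} : Set G)) : ℂ) * ((X.U : ℂ) * ((X.U : ℂ) + 1)) =
      (Nat.card G : ℂ) * (((X.U : ℂ) - (X.s : ℂ) * (X.θ : G → ℂ) g) *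
        ((X.U : ℂ) - (X.s : ℂ) * (X.θ : G → ℂ) k)) := by
  classical
  let t₀ : Fin X.E₁.m := ⟨0, by have := X.E₁.two_le; omega⟩
  have hsum : ∑ χ : IrrCharacter G,
      (χ : G → ℂ) g * (χ : G → ℂ) k * conj ((χ : G → ℂ) a) / (χ : G → ℂ) 1
      = 1 + (X.s : ℂ) * ((X.θ : G → ℂ) g * (X.θ : G → ℂ) k) / (X.θ : G → ℂ) 1
        + (X.E₁.mu t₀ : G → ℂ) g * (X.E₁.mu t₀ : G → ℂ) k / (X.E₁.mu t₀ : G → ℂ) 1 *
          (-(X.E₁.eps : ℂ)) := by
    rw [X.sum_named]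
    have hv : ∀ χ, (∀ t, χ ≠ X.E₁.mu t) → (χ : G → ℂ) a = X.E₁.b χ :=
      fun χ hχ => X.E₁.val χ hχ a ha ha1
    have hz2 : ∀ u, (X.E₂.mu u : G → ℂ) a = 0 := fun u => by
      rw [hv _ (fun t => (X.E₁.not_mem_range X.E₂ h.d₂₁ t u).symm),
        X.b₁_zero _ (X.E₂.one_ne u) (X.θ_not₂ X.E₂ h.d₂₁ u).symm, Int.cast_zero]
    have hz3 : ∀ w, (X.E₃.mu w : G → ℂ) a = 0 := fun w => by
      rw [hv _ (fun t => (X.E₁.not_mem_range X.E₃ h.d₃₁ t w).symm),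
        X.b₁_zero _ (X.E₃.one_ne w) (X.θ_not₂ X.E₃ h.d₃₁ w).symm, Int.cast_zero]
    have hzr : ∀ χ ∈ X.namedᶜ, (χ : G → ℂ) a = 0 := by
      intro χ hχ
      rw [Finset.mem_compl, named] at hχ
      simp only [Finset.mem_union, Finset.mem_insert, Finset.mem_singleton, Finset.mem_image,
        Finset.mem_univ, true_and, not_or, not_exists] at hχ
      rw [hv χ (fun t e => hχ.1.1.2 t e.symm), X.b₁_zero χ hχ.1.1.1.1 hχ.1.1.1.2, Int.cast_zero]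
    rw [Finset.sum_eq_zero (s := (Finset.univ : Finset (Fin X.E₂.m))) fun u _ => by simp [hz2 u],
      Finset.sum_eq_zero (s := (Finset.univ : Finset (Fin X.E₃.m))) fun u _ => by simp [hz3 u],
      Finset.sum_eq_zero (s := X.namedᶜ) fun χ hχ => by simp [hzr χ hχ], add_zero, add_zero,
      add_zero, H12.oneIrr_apply, H12.oneIrr_apply, H12.oneIrr_apply, H12.oneIrr_apply,
      hv X.θ (fun t => (X.θ_not t).symm), X.b₁θ, map_intCast, map_one]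
    have hμ : ∀ t, (X.E₁.mu t : G → ℂ) g * (X.E₁.mu t : G → ℂ) k * conj ((X.E₁.mu t : G → ℂ) a) /
        (X.E₁.mu t : G → ℂ) 1 = (X.E₁.mu t₀ : G → ℂ) g * (X.E₁.mu t₀ : G → ℂ) k /
        (X.E₁.mu t₀ : G → ℂ) 1 * conj ((X.E₁.mu t : G → ℂ) a) := by
      intro t
      rw [X.E₁.const g hg.1 t t₀, X.E₁.const k hk.1 t t₀, X.E₁.const 1 (not_inA_one _) t t₀]
      ring
    rw [Finset.sum_congr rfl fun t _ => hμ t, ← Finset.mul_sum, ← map_sum,
      X.E₁.sum_val a ha ha1, map_intCast, X.a₁]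
    push_cast
    ring
  have h1 := H24.classMult_eq g k a
  rw [hsum] at h1
  have hcg := (Subgroup.centralizer ({g} : Set G)).card_mul_index
  have hck := (Subgroup.centralizer ({k} : Set G)).card_mul_index
  have hcg' : (Nat.card (Subgroup.centralizer ({g} : Set G)) : ℂ) *
      ((Subgroup.centralizer ({g} : Set G)).index : ℂ) = Nat.card G := by exact_mod_cast hcg
  have hck' : (Nat.card (Subgroup.centralizer ({k} : Set G)) : ℂ) *
      ((Subgroup.centralizer ({k} : Set G)).index : ℂ) = Nat.card G := by exact_mod_cast hck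
  have hG : (Nat.card G : ℂ) ≠ 0 := Nat.cast_ne_zero.2 Nat.card_pos.ne'
  have hd : (X.θ : G → ℂ) 1 ≠ 0 := H12.irr_apply_one_ne_zero X.θ
  have hdμ : (X.E₁.mu t₀ : G → ℂ) 1 ≠ 0 := H12.irr_apply_one_ne_zero _
  have hU' : (X.U : ℂ) = (X.s : ℂ) * (X.θ : G → ℂ) 1 := by
    rw [U, H12.irr_apply_one]; push_cast; ring
  have hs : (X.s : ℂ) * X.s = 1 := by exact_mod_cast X.s_sq
  have hε : (X.E₁.eps : ℂ) * X.E₁.eps = 1 := by
    rcases X.E₁.eps_cases with e | e <;> rw [e] <;> norm_num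
  have r1 := X.rel₁ (not_inA_one A₁) t₀
  have rg := X.rel₁ hg.1 t₀
  have rk := X.rel₁ hk.1 t₀
  have eμ1 : (X.E₁.mu t₀ : G → ℂ) 1 = (X.E₁.eps : ℂ) * ((X.U : ℂ) + 1) := by
    linear_combination (X.E₁.eps : ℂ) * r1 - (X.E₁.mu t₀ : G → ℂ) 1 * hε - (X.E₁.eps : ℂ) * hU'
  have eμg : (X.E₁.mu t₀ : G → ℂ) g = (X.E₁.eps : ℂ) * (1 + (X.s : ℂ) * (X.θ : G → ℂ) g) := by
    linear_combination (X.E₁.eps : ℂ) * rg - (X.E₁.mu t₀ : G → ℂ) g * hε
  have eμk : (X.E₁.mu t₀ : G → ℂ) k = (X.E₁.eps : ℂ) * (1 + (X.s : ℂ) * (X.θ : G → ℂ) k) := by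
    linear_combination (X.E₁.eps : ℂ) * rk - (X.E₁.mu t₀ : G → ℂ) k * hε
  have eθ1 : (X.θ : G → ℂ) 1 = (X.s : ℂ) * (X.U : ℂ) := by
    linear_combination -(X.s : ℂ) * hU' - (X.θ : G → ℂ) 1 * hs
  have hUne : (X.U : ℂ) + 1 ≠ 0 := by exact_mod_cast hU
  have hU0 : (X.U : ℂ) ≠ 0 := fun e => hd (by rw [eθ1, e, mul_zero])
  rw [eμg, eμk, eμ1, eθ1] at h1
  apply mul_left_cancel₀ hG
  calc (Nat.card G : ℂ) * ((H24.classMult g k a : ℂ) *
        (Nat.card (Subgroup.centralizer ({g} : Set G)) : ℂ) *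
        (Nat.card (Subgroup.centralizer ({k} : Set G)) : ℂ) * ((X.U : ℂ) * ((X.U : ℂ) + 1)))
      = ((H24.classMult g k a : ℂ) * (Nat.card G : ℂ)) *
        (Nat.card (Subgroup.centralizer ({g} : Set G)) : ℂ) *
        (Nat.card (Subgroup.centralizer ({k} : Set G)) : ℂ) * ((X.U : ℂ) * ((X.U : ℂ) + 1)) := by
        ring
    _ = _ := by
      rw [h1]
      have hε0 : (X.E₁.eps : ℂ) ≠ 0 := fun e => by rw [e, zero_mul] at hε; exact zero_ne_one hε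
      have hs0 : (X.s : ℂ) ≠ 0 := fun e => by rw [e, zero_mul] at hs; exact zero_ne_one hs
      field_simp
      rw [show (Nat.card G : ℂ) ^ 2 = ((Nat.card (Subgroup.centralizer ({g} : Set G)) : ℂ) *
        ((Subgroup.centralizer ({g} : Set G)).index : ℂ)) *
        ((Nat.card (Subgroup.centralizer ({k} : Set G)) : ℂ) *
        ((Subgroup.centralizer ({k} : Set G)).index : ℂ)) by rw [hcg', hck']; ring]
      rcases X.s_cases with e | e <;> rcases X.E₁.eps_cases with e' | e' <;> rw [e, e'] <;>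
        push_cast <;> ring

end Chars

end H22.SC
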