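import Mathlib
import Cfsg.Agent.H27.SolCount

/-!
Small group theoretical lemmas for the local analysis of the (2, 4, 4) systems.
-/

set_option autoImplicit false
set_option linter.unusedSectionVars false
set_option linter.style.haveILetI false

namespace H22.SC.Grp

universe u

variable {G : Type u} [Group G] [Finite G]

theorem mem_cent {x g : G} : g ∈ Subgroup.centralizer ({x} : Set G) ↔ g * x = x * g :=
  Subgroup.mem_centralizer_singleton_iff

theorem cent_conj {x g : G} : g ∈ Subgroup.centralizer ({x} : Set G) ↔ g * x * g⁻¹ = x := by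
  rw [mem_cent, mul_inv_eq_iff_eq_mul]

theorem orderOf_conj (c g : G) : orderOf (c * g * c⁻¹) = orderOf g := by
  simpa using orderOf_injective (MulAut.conj c).toMonoidHom (MulAut.conj c).injective g

theorem orderOf_eq_of_isConj {g g' : G} (h : IsConj g g') : orderOf g = orderOf g' := by
  obtain ⟨c, rfl⟩ := isConj_iff.1 h
  exact (orderOf_conj c g).symm

/-- Orbit and stabiliser for conjugation by a subgroup. -/
theorem card_conjBy (H : Subgroup G) (x : G) :
    Nat.card {w : G // ∃ k ∈ H, k * x * k⁻¹ = w} *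
      Nat.card (H ⊓ Subgroup.centralizer ({x} : Set G) : Subgroup G) = Nat.card H := by
  letI : MulAction H G := MulAction.compHom G ((MulAut.conj (G := G)).comp H.subtype)
  have hsmul : ∀ (k : H) (w : G), k • w = (k : G) * w * (k : G)⁻¹ := fun k w => rfl
  have h1 := (MulAction.stabilizer H x).index_mul_card
  rw [MulAction.index_stabilizer, ← Nat.card_coe_set_eq] at h1
  have h2 : Nat.card (MulAction.orbit H x) = Nat.card {w : G // ∃ k ∈ H, k * x * k⁻¹ = w} :=
    Nat.card_congr (Equiv.subtypeEquivRight fun w => by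
      constructor
      · rintro ⟨k, rfl⟩
        exact ⟨k, k.2, (hsmul k x).symm⟩
      · rintro ⟨k, hk, rfl⟩
        exact ⟨⟨k, hk⟩, hsmul ⟨k, hk⟩ x⟩)
  have h3 : Nat.card (MulAction.stabilizer H x) =
      Nat.card (H ⊓ Subgroup.centralizer ({x} : Set G) : Subgroup G) :=
    Nat.card_congr
      { toFun := fun k => ⟨k.1.1, k.1.2, cent_conj.2 (by rw [← hsmul]; exact k.2)⟩
        invFun := fun k => ⟨⟨k.1, k.2.1⟩, by
          show (⟨k.1, k.2.1⟩ : H) • x = x
          rw [hsmul]; exact cent_conj.1 k.2.2⟩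
        left_inv := fun k => rfl
        right_inv := fun k => rfl }
  rw [h2, h3] at h1
  exact h1

/-- A group of even order has an odd number of involutions. -/
theorem odd_invol [Fintype G] [DecidableEq G] (H : Subgroup G) [DecidablePred (· ∈ H)]
    (hev : 2 ∣ Nat.card H) :
    (Finset.univ.filter fun g : G => g ∈ H ∧ orderOf g = 2).card % 2 = 1 := by
  have h1 := H27.gcd_card_dvd_card_pow_eq_one H 2
  rw [Nat.gcd_eq_left hev] at h1
  set T := Finset.univ.filter fun g : G => g ∈ H ∧ g ^ 2 = 1 with hT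
  have h2 : Nat.card {g : H // g ^ 2 = 1} = T.card := by
    rw [hT, ← Fintype.card_subtype, ← Nat.card_eq_fintype_card]
    exact Nat.card_congr
      { toFun := fun g => ⟨g.1.1, g.1.2, by simpa using congrArg Subtype.val g.2⟩
        invFun := fun g => ⟨⟨g.1, g.2.1⟩, Subtype.ext (by simpa using g.2.2)⟩
        left_inv := fun g => rfl
        right_inv := fun g => rfl }
  rw [h2] at h1
  have h3 : T = insert 1 (Finset.univ.filter fun g : G => g ∈ H ∧ orderOf g = 2) := by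
    haveI : Fact (Nat.Prime 2) := ⟨Nat.prime_two⟩
    ext g
    simp only [hT, Finset.mem_filter, Finset.mem_univ, true_and, Finset.mem_insert]
    constructor
    · rintro ⟨hg, hg2⟩
      by_cases h : g = 1
      · exact Or.inl h
      · exact Or.inr ⟨hg, orderOf_eq_prime hg2 h⟩
    · rintro (rfl | ⟨hg, hg2⟩)
      · exact ⟨one_mem _, one_pow _⟩
      · exact ⟨hg, by rw [← hg2]; exact pow_orderOf_eq_one g⟩
  rw [h3, Finset.card_insert_of_notMem (by simp)] at h1
  omega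

/-- An involution inverting `σ` cuts an abelian group of odd order in two equal halves when
`σ ^ 2` has no fixed points on it. -/
theorem half (R : Subgroup G) (hRc : ∀ a ∈ R, ∀ b ∈ R, a * b = b * a)
    (hRodd : Odd (Nat.card R)) {s σ : G} (hs : s * s = 1)
    (hsR : ∀ w ∈ R, s * w * s⁻¹ ∈ R) (hσR : ∀ w ∈ R, σ * w * σ⁻¹ ∈ R)
    (hσR' : ∀ w ∈ R, σ⁻¹ * w * σ ∈ R) (hsσ : s * σ * s⁻¹ = σ⁻¹)
    (hfix : ∀ w ∈ R, σ ^ 2 * w * (σ ^ 2)⁻¹ = w → w = 1) :
    Nat.card (R ⊓ Subgroup.centralizer ({s} : Set G) : Subgroup G) ^ 2 = Nat.card R := by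
  have hsinv : s⁻¹ = s := inv_eq_of_mul_eq_one_right hs
  set P : Set G := {w | w ∈ R ∧ s * w * s⁻¹ = w} with hP
  set M : Set G := {w | w ∈ R ∧ s * w * s⁻¹ = w⁻¹} with hM
  let f : G → G := fun w => σ * w * σ⁻¹ * (σ⁻¹ * w * σ)⁻¹
  have hfR : ∀ w ∈ R, f w ∈ R := fun w hw => mul_mem (hσR w hw) (inv_mem (hσR' w hw))
  have hsf : ∀ w ∈ R, s * f w * s⁻¹ =
      σ⁻¹ * (s * w * s⁻¹) * σ * (σ * (s * w * s⁻¹) * σ⁻¹)⁻¹ := by
    intro w _
    have e1 : σ⁻¹ = s * σ * s⁻¹ := hsσ.symm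
    have e2 : σ = s * σ⁻¹ * s⁻¹ := by
      rw [← hsσ, hsinv]
      calc σ = (s * s) * σ * (s * s) := by rw [hs]; group
        _ = s * (s * σ * s) * s := by group
    calc s * f w * s⁻¹ = (s * σ * s⁻¹) * (s * w * s⁻¹) * (s * σ⁻¹ * s⁻¹) *
          ((s * σ⁻¹ * s⁻¹) * (s * w * s⁻¹) * (s * σ * s⁻¹))⁻¹ := by simp only [f]; group
      _ = _ := by rw [← e1, ← e2]
  have hinj : ∀ w ∈ R, ∀ w' ∈ R, f w = f w' → w = w' := by
    intro w hw w' hw' he
    have hz : w * w'⁻¹ = 1 := by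
      apply hfix _ (mul_mem hw (inv_mem hw'))
      have e1 : f w = f w' → σ * w * σ⁻¹ * (σ * w' * σ⁻¹)⁻¹ =
          σ⁻¹ * w * σ * (σ⁻¹ * w' * σ)⁻¹ := by
        intro he
        set a := σ * w * σ⁻¹
        set b := σ⁻¹ * w * σ
        set a' := σ * w' * σ⁻¹
        set b' := σ⁻¹ * w' * σ
        have he' : a * b⁻¹ = a' * b'⁻¹ := he
        have hbR : b⁻¹ ∈ R := inv_mem (hσR' w hw)
        have ha'R : a'⁻¹ ∈ R := inv_mem (hσR w' hw')
        calc a * a'⁻¹ = (a * b⁻¹) * (b * a'⁻¹) := by group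
          _ = (a' * b'⁻¹) * (b * a'⁻¹) := by rw [he']
          _ = a' * ((b'⁻¹ * b) * a'⁻¹) := by group
          _ = a' * (a'⁻¹ * (b'⁻¹ * b)) := by
            rw [hRc _ (mul_mem (inv_mem (hσR' w' hw')) (hσR' w hw)) _ ha'R]
          _ = b'⁻¹ * b := by group
          _ = b * b'⁻¹ := hRc _ (inv_mem (hσR' w' hw')) _ (hσR' w hw)
      have e2 := e1 he
      calc σ ^ 2 * (w * w'⁻¹) * (σ ^ 2)⁻¹
          = σ * (σ * w * σ⁻¹ * (σ * w' * σ⁻¹)⁻¹) * σ⁻¹ := by rw [pow_two]; group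
        _ = σ * (σ⁻¹ * w * σ * (σ⁻¹ * w' * σ)⁻¹) * σ⁻¹ := by rw [e2]
        _ = w * w'⁻¹ := by group
    exact mul_inv_eq_one.1 hz
  have hPM : Nat.card P ≤ Nat.card M := by
    refine Nat.card_le_card_of_injective (fun w => ⟨f w.1, hfR _ w.2.1, ?_⟩) ?_
    · rw [hsf _ w.2.1, w.2.2]; simp only [f, mul_inv_rev, inv_inv, mul_assoc]
    · intro w w' he
      exact Subtype.ext (hinj _ w.2.1 _ w'.2.1 (congrArg Subtype.val he))
  have hMP : Nat.card M ≤ Nat.card P := by
    refine Nat.card_le_card_of_injective (fun w => ⟨f w.1, hfR _ w.2.1, ?_⟩) ?_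
    · rw [hsf _ w.2.1, w.2.2]
      simp only [f]
      have h1 : (σ⁻¹ * w.1 * σ)⁻¹ ∈ R := inv_mem (hσR' _ w.2.1)
      have h2 : σ * w.1 * σ⁻¹ ∈ R := hσR _ w.2.1
      calc σ⁻¹ * (w.1)⁻¹ * σ * (σ * (w.1)⁻¹ * σ⁻¹)⁻¹
          = (σ⁻¹ * w.1 * σ)⁻¹ * (σ * w.1 * σ⁻¹) := by group
        _ = σ * w.1 * σ⁻¹ * (σ⁻¹ * w.1 * σ)⁻¹ := hRc _ h1 _ h2
    · intro w w' he
      exact Subtype.ext (hinj _ w.2.1 _ w'.2.1 (congrArg Subtype.val he))
  have hPcard : Nat.card P = Nat.card (R ⊓ Subgroup.centralizer ({s} : Set G) : Subgroup G) :=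
    Nat.card_congr (Equiv.subtypeEquivRight fun w => by
      rw [Subgroup.mem_inf, mem_cent]
      show w ∈ R ∧ _ ↔ _
      rw [mul_inv_eq_iff_eq_mul]
      exact ⟨fun h => ⟨h.1, h.2.symm⟩, fun h => ⟨h.1, h.2.symm⟩⟩)
  obtain ⟨k, hk⟩ := hRodd
  have hsq : ∀ w ∈ R, ∀ w' ∈ R, w * w = w' * w' → w = w' := by
    intro w hw w' hw' he
    have e : ∀ v ∈ R, v = (v * v) ^ (k + 1) := by
      intro v hv
      have h1 : v ^ Nat.card R = 1 := by
        have := pow_card_eq_one' (x := (⟨v, hv⟩ : R))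
        exact congrArg Subtype.val this
      rw [← pow_two, ← pow_mul, show 2 * (k + 1) = Nat.card R + 1 by omega, pow_succ, h1, one_mul]
    rw [e w hw, e w' hw', he]
  have hbij : Nat.card (P × M) = Nat.card R := by
    refine Nat.card_congr (Equiv.ofBijective (fun pm => (⟨pm.1.1 * pm.2.1,
      mul_mem pm.1.2.1 pm.2.2.1⟩ : R)) ⟨?_, ?_⟩)
    · rintro ⟨⟨p, hp, hp'⟩, ⟨m, hm, hm'⟩⟩ ⟨⟨q, hq, hq'⟩, ⟨n, hn, hn'⟩⟩ he
      have he' : p * m = q * n := congrArg Subtype.val he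
      have e2 : p * m⁻¹ = q * n⁻¹ := by
        calc p * m⁻¹ = (s * p * s⁻¹) * (s * m * s⁻¹) := by rw [hp', hm']
          _ = s * (p * m) * s⁻¹ := by group
          _ = s * (q * n) * s⁻¹ := by rw [he']
          _ = (s * q * s⁻¹) * (s * n * s⁻¹) := by group
          _ = q * n⁻¹ := by rw [hq', hn']
      have e3 : p * p = q * q := by
        calc p * p = p * ((m⁻¹ * m) * p) := by group
          _ = p * (m⁻¹ * (m * p)) := by group
          _ = p * (m⁻¹ * (p * m)) := by rw [hRc m hm p hp]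
          _ = (p * m⁻¹) * (p * m) := by group
          _ = (q * n⁻¹) * (q * n) := by rw [e2, he']
          _ = q * (n⁻¹ * (q * n)) := by group
          _ = q * (n⁻¹ * (n * q)) := by rw [hRc q hq n hn]
          _ = q * q := by group
      have e4 := hsq p hp q hq e3
      subst e4
      have e5 : m = n := mul_left_cancel he'
      subst e5
      rfl
    · rintro ⟨w, hw⟩
      set v := w ^ (k + 1) with hv
      have hvR : v ∈ R := pow_mem hw _
      have hw' : s * v * s⁻¹ ∈ R := hsR v hvR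
      have h1 : w ^ Nat.card R = 1 := by
        have := pow_card_eq_one' (x := (⟨w, hw⟩ : R))
        exact congrArg Subtype.val this
      have hss : s * (s * v * s⁻¹) * s⁻¹ = v := by
        rw [hsinv]
        calc s * (s * v * s) * s = (s * s) * v * (s * s) := by group
          _ = v := by rw [hs]; group
      refine ⟨(⟨v * (s * v * s⁻¹), mul_mem hvR hw', ?_⟩,
        ⟨v * (s * v * s⁻¹)⁻¹, mul_mem hvR (inv_mem hw'), ?_⟩), ?_⟩
      · calc s * (v * (s * v * s⁻¹)) * s⁻¹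
            = (s * v * s⁻¹) * (s * (s * v * s⁻¹) * s⁻¹) := by group
          _ = (s * v * s⁻¹) * v := by rw [hss]
          _ = v * (s * v * s⁻¹) := hRc _ hw' _ hvR
      · calc s * (v * (s * v * s⁻¹)⁻¹) * s⁻¹
            = (s * v * s⁻¹) * (s * (s * v * s⁻¹) * s⁻¹)⁻¹ := by group
          _ = (s * v * s⁻¹) * v⁻¹ := by rw [hss]
          _ = (v * (s * v * s⁻¹)⁻¹)⁻¹ := by group
      · apply Subtype.ext
        show v * (s * v * s⁻¹) * (v * (s * v * s⁻¹)⁻¹) = w
        calc v * (s * v * s⁻¹) * (v * (s * v * s⁻¹)⁻¹)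
            = v * ((s * v * s⁻¹) * v) * (s * v * s⁻¹)⁻¹ := by group
          _ = v * (v * (s * v * s⁻¹)) * (s * v * s⁻¹)⁻¹ := by rw [hRc _ hw' _ hvR]
          _ = v ^ 2 := by rw [pow_two]; group
          _ = w := by
            rw [hv, ← pow_mul, show (k + 1) * 2 = Nat.card R + 1 by omega, pow_succ, h1, one_mul]
  rw [Nat.card_prod, le_antisymm hMP hPM, hPcard] at hbij
  rw [pow_two, hbij]

/-- Commuting involutions acting on an abelian group of odd order have a common eigenvector. -/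
theorem exists_eigen (R : Subgroup G) (hRc : ∀ a ∈ R, ∀ b ∈ R, a * b = b * a)
    (hne : ∃ v ∈ R, v ≠ 1) [DecidableEq G] (E : Finset G) (hE2 : ∀ e ∈ E, e * e = 1)
    (hEc : ∀ e ∈ E, ∀ f ∈ E, e * f = f * e) (hER : ∀ e ∈ E, ∀ w ∈ R, e * w * e⁻¹ ∈ R) :
    ∃ v ∈ R, v ≠ 1 ∧ ∀ e ∈ E, e * v * e⁻¹ = v ∨ e * v * e⁻¹ = v⁻¹ := by
  induction E using Finset.induction_on with
  | empty => obtain ⟨v, hv, hv1⟩ := hne; exact ⟨v, hv, hv1, by simp⟩
  | insert e E _ ih =>
    obtain ⟨v, hv, hv1, hvE⟩ := ih (fun a ha => hE2 a (Finset.mem_insert_of_mem ha))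
      (fun a ha b hb => hEc a (Finset.mem_insert_of_mem ha) b (Finset.mem_insert_of_mem hb))
      (fun a ha => hER a (Finset.mem_insert_of_mem ha))
    have he := hE2 e (Finset.mem_insert_self _ _)
    have hw : e * v * e⁻¹ ∈ R := hER e (Finset.mem_insert_self _ _) v hv
    by_cases h : e * v * e⁻¹ = v⁻¹
    · exact ⟨v, hv, hv1, fun a ha => by
        rcases Finset.mem_insert.1 ha with rfl | ha
        · exact Or.inr h
        · exact hvE a ha⟩
    · refine ⟨v * (e * v * e⁻¹), mul_mem hv hw, fun h1 => h (eq_inv_of_mul_eq_one_right h1),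
        fun a ha => ?_⟩
      rcases Finset.mem_insert.1 ha with rfl | ha
      · left
        have hinv : a⁻¹ = a := inv_eq_of_mul_eq_one_right he
        have hss : a * (a * v * a⁻¹) * a⁻¹ = v := by
          rw [hinv]
          calc a * (a * v * a) * a = (a * a) * v * (a * a) := by group
            _ = v := by rw [he]; group
        calc a * (v * (a * v * a⁻¹)) * a⁻¹ = (a * v * a⁻¹) * (a * (a * v * a⁻¹) * a⁻¹) := by group
          _ = (a * v * a⁻¹) * v := by rw [hss]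
          _ = v * (a * v * a⁻¹) := hRc _ hw _ hv
      · have hc : a * e = e * a :=
          hEc a (Finset.mem_insert_of_mem ha) e (Finset.mem_insert_self _ _)
        have h2 : a * (v * (e * v * e⁻¹)) * a⁻¹ = (a * v * a⁻¹) * (e * (a * v * a⁻¹) * e⁻¹) := by
          calc a * (v * (e * v * e⁻¹)) * a⁻¹
              = (a * v * a⁻¹) * ((a * e) * v * (a * e)⁻¹) := by group
            _ = (a * v * a⁻¹) * ((e * a) * v * (e * a)⁻¹) := by rw [hc]
            _ = _ := by group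
        rcases hvE a ha with h3 | h3
        · left; rw [h2, h3]
        · right; rw [h2, h3]
          calc v⁻¹ * (e * v⁻¹ * e⁻¹) = ((e * v * e⁻¹) * v)⁻¹ := by group
            _ = (v * (e * v * e⁻¹))⁻¹ := by rw [hRc _ hw _ hv]

/-- If all nontrivial powers of `x` are conjugate to `x` under `H`, then `r - 1` divides an
element order in `H`. -/
theorem exists_orderOf_dvd (H : Subgroup G) {x : G} {r : ℕ} (hr : r.Prime) (hx : orderOf x = r)
    (hc : ∀ k : ℕ, ¬ r ∣ k → ∃ n ∈ H, n * x * n⁻¹ = x ^ k) :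
    ∃ n ∈ H, r - 1 ∣ orderOf n := by
  haveI := Fact.mk hr
  obtain ⟨g, hg⟩ := IsCyclic.exists_generator (α := (ZMod r)ˣ)
  obtain ⟨n, hn, hn'⟩ := hc (g : ZMod r).val fun hd => g.ne_zero (by
    rw [← ZMod.natCast_rightInverse (g : ZMod r)]; exact (ZMod.natCast_eq_zero_iff _ _).2 hd)
  refine ⟨n, hn, ?_⟩
  have hiter : ∀ i : ℕ, n ^ i * x * (n ^ i)⁻¹ = x ^ (g : ZMod r).val ^ i := by
    intro i
    induction i with
    | zero => simp
    | succ i ih =>
      calc n ^ (i + 1) * x * (n ^ (i + 1))⁻¹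
          = n * (n ^ i * x * (n ^ i)⁻¹) * n⁻¹ := by rw [pow_succ']; group
        _ = n * (x ^ (g : ZMod r).val ^ i) * n⁻¹ := by rw [ih]
        _ = (n * x * n⁻¹) ^ (g : ZMod r).val ^ i := conj_pow.symm
        _ = _ := by rw [hn', ← pow_mul, pow_succ']
  have h1 := hiter (orderOf n)
  rw [pow_orderOf_eq_one, one_mul, inv_one, mul_one] at h1
  have h2 : ((g : ZMod r).val ^ orderOf n : ℕ) ≡ 1 [MOD orderOf x] := by
    rw [← pow_eq_pow_iff_modEq, pow_one]; exact h1.symm
  rw [hx, ← ZMod.natCast_eq_natCast_iff, Nat.cast_pow, ZMod.natCast_rightInverse _,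
    Nat.cast_one] at h2
  have h3 : g ^ orderOf n = 1 := Units.ext (by rw [Units.val_pow_eq_pow_val, h2, Units.val_one])
  rw [← ZMod.card_units r, ← Nat.card_eq_fintype_card, ← orderOf_eq_card_of_forall_mem_zpowers hg]
  exact orderOf_dvd_of_pow_eq_one h3

end H22.SC.Grp
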