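import Mathlib
import Cfsg.Agent.H22.SC.Count
import Cfsg.Agent.H22.SC.Grp
import Cfsg.Agent.H65.ElementaryPairs

/-!
The involution counting equation of a (2, 4, 4) system in a simple group.
-/

set_option autoImplicit false
set_option linter.unusedSectionVars false
set_option linter.style.haveILetI false

open Cfsg
open scoped ComplexConjugate

namespace H22.SC

universe u

variable {G : Type u} [Group G] [Fintype G]

theorem center_ne_top (hna : ¬ IsMulCommutative G) : Subgroup.center G ≠ ⊤ := fun e => hna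
  ⟨⟨fun a b => ((Subgroup.mem_center_iff.1 (e ▸ Subgroup.mem_top b : b ∈ Subgroup.center G)) a)⟩⟩

/-- An element of order two outside `A` normalising it inverts it. -/
theorem Ssc.inverts {A : Subgroup G} (hA : Ssc A) {j : G}
    (hjN : j ∈ Subgroup.normalizer (A : Set G)) (hj2 : j * j = 1) (hjA : j ∉ A) {a : G}
    (ha : a ∈ A) : j * a * j⁻¹ = a⁻¹ := by
  have hinv : j⁻¹ = j := inv_eq_of_mul_eq_one_right hj2
  have h1 : j * a * j⁻¹ ∈ A := (Subgroup.mem_normalizer_iff.1 hjN a).1 ha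
  set c := a * (j * a * j⁻¹) with hc
  have hcA : c ∈ A := mul_mem ha h1
  have hcj : j * c * j⁻¹ = c := by
    calc j * c * j⁻¹ = (j * a * j⁻¹) * ((j * j) * a * (j * j)⁻¹) := by rw [hc]; group
      _ = (j * a * j⁻¹) * a := by rw [hj2]; group
      _ = c := hA.comm h1 ha
  by_cases hc1 : c = 1
  · exact eq_inv_of_mul_eq_one_right hc1
  · refine absurd ?_ hjA
    rw [← hA c hcA hc1]
    exact Grp.cent_conj.2 hcj

namespace Sys

variable {A₁ A₂ A₃ : Subgroup G} (h : Sys A₁ A₂ A₃)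
include h

theorem odd_NN : h.NN % 2 = 1 := by
  have h1 := h.odd₁; have h2 := h.mod₂; have h3 := h.mod₃
  unfold NN
  rw [Nat.mul_mod, Nat.mul_mod (Nat.card A₁), h1, show Nat.card A₂ % 2 = 1 by omega,
    show Nat.card A₃ % 2 = 1 by omega]

theorem NN_pos : 0 < h.NN := by have := h.odd_NN; omega

theorem out_of_two {g : G} (hg : ∃ i, orderOf g = 2 ^ i) : h.Out g := by
  obtain ⟨i, hi⟩ := hg
  refine h.out_of_coprime ?_
  rw [hi]
  exact Nat.Coprime.pow_left i (Nat.coprime_two_left.2 (Nat.odd_iff.2 h.odd_NN))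

theorem exists_order_four : ∃ y : G, orderOf y = 4 := by
  haveI : Fact (Nat.Prime 2) := ⟨Nat.prime_two⟩
  set N := Subgroup.normalizer (A₂ : Set G) with hN
  have hle : A₂ ≤ N := Subgroup.le_normalizer
  have hcard : Nat.card A₂ * 4 = Nat.card N := by
    rw [← h.r₂, Subgroup.relIndex, ← Nat.card_congr (Subgroup.subgroupOfEquivOfLe hle).toEquiv]
    exact Subgroup.card_mul_index _
  obtain ⟨P, hP⟩ := Sylow.exists_subgroup_card_pow_prime 2 (G := N) (n := 2)
    (by rw [← hcard]; exact dvd_mul_left _ _)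
  by_contra hc
  push Not at hc
  have hsq : ∀ u : P, ((u : N) : G) * ((u : N) : G) = 1 := by
    intro u
    have h1 : orderOf ((u : N) : G) ∣ 4 := by
      rw [Subgroup.orderOf_coe, Subgroup.orderOf_coe]
      exact (orderOf_dvd_natCard u).trans (dvd_of_eq hP)
    obtain ⟨i, hi, hi'⟩ := (Nat.dvd_prime_pow Nat.prime_two).1 (show orderOf ((u : N) : G) ∣ 2 ^ 2 from h1)
    have hi1 : i ≤ 1 := by
      rcases Nat.lt_or_ge i 2 with h2 | h2
      · omega
      · exact absurd (by rw [hi', show i = 2 by omega]; norm_num) (hc _)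
    rw [← pow_two]
    exact orderOf_dvd_iff_pow_eq_one.1 (by rw [hi']; exact Nat.pow_dvd_pow 2 hi1)
  have hnot : ∀ u : P, u ≠ 1 → ((u : N) : G) ∉ A₂ := by
    intro u hu hmem
    have h1 : orderOf ((u : N) : G) = 2 := orderOf_eq_prime (by rw [pow_two]; exact hsq u)
      (fun e => hu (Subtype.ext (Subtype.ext e)))
    have h2 : orderOf ((u : N) : G) ∣ Nat.card A₂ := by
      rw [show ((u : N) : G) = ((⟨_, hmem⟩ : A₂) : G) from rfl, Subgroup.orderOf_coe]
      exact orderOf_dvd_natCard _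
    have := h.mod₂
    rw [h1] at h2
    omega
  obtain ⟨u, hu⟩ : ∃ u : P, u ≠ 1 := by
    haveI : Nontrivial P := Finite.one_lt_card_iff_nontrivial.1 (by rw [hP]; norm_num)
    exact exists_ne 1
  obtain ⟨v, hv, hvu⟩ : ∃ v : P, v ≠ 1 ∧ v ≠ u := by
    by_contra hc2
    push Not at hc2
    have h4 : Nat.card P ≤ 2 := by
      haveI := Fintype.ofFinite P
      classical
      rw [Nat.card_eq_fintype_card, ← Finset.card_univ]
      refine le_trans (Finset.card_le_card (t := {1, u}) fun w _ => ?_) Finset.card_le_two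
      by_cases hw : w = 1
      · simp [hw]
      · simp [hc2 w hw]
    rw [hP] at h4; omega
  obtain ⟨a, ha, ha1⟩ : ∃ a ∈ A₂, a ≠ 1 := by
    obtain ⟨E⟩ := h.exc₂; exact E.exists_ne_one
  have huv : u * v⁻¹ ≠ 1 := fun e => hvu (mul_inv_eq_one.1 e).symm
  apply hnot _ huv
  rw [← h.s₂ a ha ha1]
  refine Grp.cent_conj.2 ?_
  have i1 : ∀ {b : G}, b ∈ A₂ → ((u : N) : G) * b * ((u : N) : G)⁻¹ = b⁻¹ :=
    fun hb => h.s₂.inverts (u : N).2 (hsq u) (hnot u hu) hb
  have i2 : ∀ {b : G}, b ∈ A₂ → ((v : N) : G) * b * ((v : N) : G)⁻¹ = b⁻¹ :=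
    fun hb => h.s₂.inverts (v : N).2 (hsq v) (hnot v hv) hb
  have hvv : ((v : N) : G)⁻¹ = ((v : N) : G) := inv_eq_of_mul_eq_one_right (hsq v)
  calc ((u * v⁻¹ : P) : N).1 * a * (((u * v⁻¹ : P) : N).1)⁻¹
      = ((u : N) : G) * (((v : N) : G)⁻¹ * a * (((v : N) : G)⁻¹)⁻¹) * ((u : N) : G)⁻¹ := by
        simp only [Subgroup.coe_mul, InvMemClass.coe_inv, mul_inv_rev, mul_assoc]
    _ = ((u : N) : G) * a⁻¹ * ((u : N) : G)⁻¹ := by rw [hvv, i2 ha]
    _ = a := by rw [i1 (inv_mem ha), inv_inv]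

theorem card_inverting {a : G} (ha : a ∈ A₁) (ha1 : a ≠ 1) :
    Nat.card {u : G // u * u = 1 ∧ u * a * u⁻¹ = a⁻¹} = Nat.card A₁ := by
  haveI : Fact (Nat.Prime 2) := ⟨Nat.prime_two⟩
  set N := Subgroup.normalizer (A₁ : Set G) with hN
  have hle : A₁ ≤ N := Subgroup.le_normalizer
  have hcard : Nat.card A₁ * 2 = Nat.card N := by
    rw [← h.r₁, Subgroup.relIndex, ← Nat.card_congr (Subgroup.subgroupOfEquivOfLe hle).toEquiv]
    exact Subgroup.card_mul_index _
  obtain ⟨j, hj⟩ := exists_prime_orderOf_dvd_card' (G := N) 2 (hcard ▸ dvd_mul_left _ _)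
  have hjo : orderOf (j : G) = 2 := by rw [Subgroup.orderOf_coe, hj]
  have hj2 : (j : G) * j = 1 := by rw [← pow_two, ← hjo, pow_orderOf_eq_one]
  have hjA : (j : G) ∉ A₁ := fun hmem => by
    have h2 : orderOf (j : G) ∣ Nat.card A₁ := by
      rw [show (j : G) = ((⟨_, hmem⟩ : A₁) : G) from rfl, Subgroup.orderOf_coe]
      exact orderOf_dvd_natCard _
    have := h.odd₁
    rw [hjo] at h2
    omega
  have hji := fun {b : G} (hb : b ∈ A₁) => h.s₁.inverts j.2 hj2 hjA hb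
  have hinvj : (j : G)⁻¹ = j := inv_eq_of_mul_eq_one_right hj2
  refine Nat.card_congr
    { toFun := fun u => ⟨(j : G) * u.1, ?_⟩
      invFun := fun b => ⟨(j : G) * b.1, ?_, ?_⟩
      left_inv := fun u => Subtype.ext (by
        show (j : G) * ((j : G) * u.1) = u.1
        rw [← mul_assoc, hj2, one_mul])
      right_inv := fun b => Subtype.ext (by
        show (j : G) * ((j : G) * b.1) = b.1
        rw [← mul_assoc, hj2, one_mul]) }
  · rw [← h.s₁ a ha ha1]
    refine Grp.cent_conj.2 ?_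
    calc (j : G) * u.1 * a * ((j : G) * u.1)⁻¹ = (j : G) * (u.1 * a * u.1⁻¹) * (j : G)⁻¹ := by group
      _ = (j : G) * a⁻¹ * (j : G)⁻¹ := by rw [u.2.2]
      _ = a := by rw [hji (inv_mem ha), inv_inv]
  · calc (j : G) * b.1 * ((j : G) * b.1) = ((j : G) * b.1 * j) * b.1 := by group
      _ = b.1⁻¹ * b.1 := by
        conv_lhs => rw [← hinvj]
        rw [hinvj]
        rw [show (j : G) * b.1 * j = (j : G) * b.1 * (j : G)⁻¹ by rw [hinvj], hji b.2]
      _ = 1 := inv_mul_cancel _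
  · calc (j : G) * b.1 * a * ((j : G) * b.1)⁻¹ = (j : G) * (b.1 * a * b.1⁻¹) * (j : G)⁻¹ := by group
      _ = (j : G) * a * (j : G)⁻¹ := by rw [h.s₁.comm b.2 ha, mul_inv_cancel_right]
      _ = a⁻¹ := hji ha

end Sys

/-- Involutions whose product has odd order are conjugate. -/
theorem isConj_of_mul_odd {u v a : G} (hu : u * u = 1) (hv : v * v = 1) (ha : u * v = a)
    (ho : Odd (orderOf a)) : IsConj u v := by
  obtain ⟨m, hm⟩ := ho
  have hui : u⁻¹ = u := inv_eq_of_mul_eq_one_right hu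
  have hvi : v⁻¹ = v := inv_eq_of_mul_eq_one_right hv
  have hinv : u * a * u⁻¹ = a⁻¹ := by
    rw [← ha, mul_inv_rev, hvi, hui, ← mul_assoc u u v, hu, one_mul]
  have hpow : u * (a ^ m) * u⁻¹ = (a ^ m)⁻¹ := by rw [← conj_pow, hinv, inv_pow]
  refine isConj_iff.2 ⟨a ^ m, ?_⟩
  have h1 : a ^ (2 * m + 1) = 1 := hm ▸ pow_orderOf_eq_one a
  calc a ^ m * u * (a ^ m)⁻¹ = a ^ m * (u * (a ^ m)⁻¹ * u⁻¹) * u := by group
    _ = a ^ m * (u * a ^ m * u⁻¹)⁻¹ * u := by group
    _ = a ^ m * a ^ m * u := by rw [hpow, inv_inv]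
    _ = a ^ (2 * m) * u := by rw [← pow_add, two_mul]
    _ = a⁻¹ * u := by
      rw [eq_inv_of_mul_eq_one_left (show a ^ (2 * m) * a = 1 by rw [← pow_succ]; exact h1)]
    _ = v := by rw [← ha, mul_inv_rev, hvi, hui, mul_assoc, hu, mul_one]

namespace Chars

variable {A₁ A₂ A₃ : Subgroup G} {h : Sys A₁ A₂ A₃} (X : Chars h)

/-- A character constant on `A \ 1` has degree congruent to that value. -/
theorem dvd_deg_sub {A : Subgroup G} {e : ℕ} (E : Exc A e) (χ : IrrCharacter G)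
    (hne : ∀ t, χ ≠ E.mu t) :
    (Nat.card A : ℤ) ∣ (H12.degree (χ : G → ℂ) : ℤ) - E.b χ := by
  classical
  haveI := Fintype.ofFinite A
  refine ⟨(H13.TI.coef χ (1 : A →* ℂˣ) : ℤ) - E.b χ, ?_⟩
  have hc : (H13.TI.coef χ (1 : A →* ℂˣ) : ℂ) = (Nat.card A : ℂ)⁻¹ *
      ((χ : G → ℂ) 1 + ((Nat.card A : ℂ) - 1) * E.b χ) := by
    rw [← H13.TI.coef_res, H12.classInner_def]
    congr 1
    rw [← Finset.add_sum_erase _ _ (Finset.mem_univ (1 : A)),
      Finset.sum_congr rfl (g := fun _ => (E.b χ : ℂ)) fun x hx => by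
        rw [E.val χ hne x x.2 fun e2 => (Finset.mem_erase.1 hx).1 (Subtype.ext e2)]
        simp [H13.TI.lf],
      Finset.sum_const, Finset.card_erase_of_mem (Finset.mem_univ _), Finset.card_univ,
      ← Nat.card_eq_fintype_card, nsmul_eq_mul, Nat.cast_sub Nat.card_pos]
    simp [H13.TI.lf]
  rw [H12.irr_apply_one] at hc
  have hn : (Nat.card A : ℂ) ≠ 0 := Nat.cast_ne_zero.2 Nat.card_pos.ne'
  apply Int.cast_injective (α := ℂ)
  push_cast
  rw [hc]
  field_simp
  ring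

theorem theta_bound {B : Subgroup G} (E : Exc B 4) (hd : ∀ g : G, InA B g → ¬ InA A₁ g) :
    X.s * E.b X.θ = -1 ∨ X.s * E.b X.θ = 0 := by
  classical
  set θ' := X.s * E.b X.θ with hθ'
  have hn := E.norm
  have hP : 1 ≤ (E.a - E.eps) ^ 2 + ((E.m : ℤ) - 1) * E.a ^ 2 := by
    have : (2 : ℤ) ≤ E.m := by exact_mod_cast E.two_le
    rcases E.a_cases with e | ⟨e, he, -⟩
    · rw [e]; rcases E.eps_cases with e' | e' <;> rw [e'] <;> norm_num
    · have : (3 : ℤ) ≤ E.m := by exact_mod_cast he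
      rw [e]; rcases E.eps_cases with e' | e' <;> rw [e'] <;> norm_num <;> linarith
  have hsub : 1 + θ' ^ 2 + (X.E₁.m : ℤ) * (1 + θ') ^ 2 ≤ ∑ χ, E.b χ ^ 2 := by
    refine le_trans (le_of_eq ?_) (Finset.sum_le_sum_of_subset_of_nonneg (Finset.subset_univ
      (({H12.oneIrr G, X.θ} : Finset (IrrCharacter G)) ∪ Finset.univ.image X.E₁.mu))
      fun χ _ _ => sq_nonneg _)
    rw [Finset.sum_union, Finset.sum_pair X.θ_ne.symm, Finset.sum_image X.E₁.mu_inj.injOn, E.b_one,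
      Finset.sum_congr rfl (g := fun _ => (1 + θ') ^ 2) fun t _ => by
        rw [hθ', ← X.b_μ₁ E hd t, mul_pow, show X.E₁.eps ^ 2 = 1 by
          rcases X.E₁.eps_cases with e | e <;> rw [e] <;> norm_num, one_mul],
      Finset.sum_const, Finset.card_univ, Fintype.card_fin, nsmul_eq_mul, hθ', mul_pow,
      pow_two X.s, X.s_sq]
    · ring
    · simp only [Finset.disjoint_right, Finset.mem_image, Finset.mem_univ, true_and,
        forall_exists_index, forall_apply_eq_imp_iff, Finset.mem_insert, Finset.mem_singleton,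
        not_or]
      exact fun t => ⟨X.E₁.one_ne t, X.θ_not t⟩
  exact theta_cases (m₁ := (X.E₁.m : ℤ)) (p := 0) (by exact_mod_cast X.E₁.two_le) le_rfl
    (by push_cast at hn; linarith)

theorem U_dvd {B : Subgroup G} (E : Exc B 4) (hd : ∀ g : G, InA B g → ¬ InA A₁ g) :
    (Nat.card B : ℤ) ∣ X.U - X.s * E.b X.θ := by
  have h1 := dvd_deg_sub E X.θ (X.θ_not₂ E hd)
  rw [U, ← mul_sub]
  exact h1.mul_left _

theorem dvd_U_mul {B : Subgroup G} (E : Exc B 4) (hd : ∀ g : G, InA B g → ¬ InA A₁ g) :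
    (Nat.card B : ℤ) ∣ X.U * (X.U + 1) := by
  have h1 := X.U_dvd E hd
  rcases X.theta_bound E hd with e | e <;> rw [e] at h1
  · rw [sub_neg_eq_add] at h1; exact h1.mul_left _
  · rw [sub_zero] at h1; exact h1.mul_right _

theorem exists_k : ∃ k : ℤ, X.U * (X.U + 1) =
    k * ((Nat.card A₂ : ℤ) * Nat.card A₃) ∧ 2 ∣ k := by
  obtain ⟨k, hk⟩ : ((Nat.card A₂ : ℤ) * Nat.card A₃) ∣ X.U * (X.U + 1) :=
    IsCoprime.mul_dvd (Int.isCoprime_iff_gcd_eq_one.2 (by simpa using h.cop₂₃))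
      (X.dvd_U_mul X.E₂ h.d₂₁) (X.dvd_U_mul X.E₃ h.d₃₁)
  refine ⟨k, by rw [hk]; ring, ?_⟩
  have h2 : (2 : ℤ) ∣ X.U * (X.U + 1) := (Int.even_mul_succ_self X.U).two_dvd
  rw [hk] at h2
  refine (Int.Prime.dvd_mul' Nat.prime_two h2).resolve_left fun h3 => ?_
  have e2 := h.mod₂; have e3 := h.mod₃
  rcases Int.Prime.dvd_mul' Nat.prime_two h3 with h4 | h4 <;>
    · have := Int.natCast_dvd_natCast.1 h4; omega

theorem U_natAbs : X.U.natAbs = H12.degree (X.θ : G → ℂ) := by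
  rw [U, Int.natAbs_mul, Int.natAbs_natCast]
  rcases X.s_cases with e | e <;> rw [e] <;> simp

theorem deg_three [IsSimpleGroup G] (hna : ¬ IsMulCommutative G) :
    3 ≤ H12.degree (X.θ : G → ℂ) := by
  by_contra hc
  refine X.θ_ne (H65.irr_eq_one_of_degree_le_two (center_ne_top hna) ?_ X.θ (by omega))
  obtain ⟨y, hy⟩ := h.exists_order_four
  exact even_iff_two_dvd.2 ((dvd_trans (by norm_num) (dvd_of_eq hy.symm)).trans
    (orderOf_dvd_natCard y))

theorem μ_deg_dvd : (X.U + 1).natAbs ∣ Nat.card G := by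
  let t₀ : Fin X.E₁.m := ⟨0, by have := X.E₁.two_le; omega⟩
  have r1 := X.rel₁ (not_inA_one A₁) t₀
  rw [H12.irr_apply_one, H12.irr_apply_one] at r1
  have e : X.E₁.eps * (H12.degree (X.E₁.mu t₀ : G → ℂ) : ℤ) = 1 + X.U := by
    apply Int.cast_injective (α := ℂ)
    rw [U]; push_cast
    exact r1
  have e2 : (X.U + 1).natAbs = H12.degree (X.E₁.mu t₀ : G → ℂ) := by
    rw [add_comm, ← e, Int.natAbs_mul, Int.natAbs_natCast]
    rcases X.E₁.eps_cases with e' | e' <;> rw [e'] <;> simp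
  rw [e2]
  exact H12.irr_degree_dvd_card _

theorem θ_le {g : G} {v : ℤ} (hv : (X.s : ℂ) * (X.θ : G → ℂ) g = v) :
    v.natAbs ≤ H12.degree (X.θ : G → ℂ) := by
  have h1 := H65.ElemPair.norm_irr_le X.θ g
  rw [H24.charDegree_eq_degree] at h1
  have h2 : ‖(v : ℂ)‖ = ‖(X.θ : G → ℂ) g‖ := by
    rw [← hv, norm_mul]
    rcases X.s_cases with e | e <;> simp [e]
  rw [Complex.norm_intCast] at h2
  have h3 : ((v.natAbs : ℕ) : ℝ) ≤ (H12.degree (X.θ : G → ℂ) : ℝ) := by
    rw [Nat.cast_natAbs, Int.cast_abs, h2]; exact h1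
  exact_mod_cast h3

include X in
theorem col_le (g : G) (S : Finset (IrrCharacter G)) (c : IrrCharacter G → ℤ)
    (hc : ∀ χ ∈ S, (χ : G → ℂ) g = c χ) :
    ∑ χ ∈ S, c χ ^ 2 ≤ (Nat.card (Subgroup.centralizer ({g} : Set G)) : ℤ) := by
  classical
  have h1 := H12.column_orthogonality g g
  rw [if_pos (IsConj.refl g)] at h1
  simp only [Complex.mul_conj] at h1
  rw [← Complex.ofReal_sum] at h1
  have h2 : ∑ χ : IrrCharacter G, Complex.normSq ((χ : G → ℂ) g) =
      (Nat.card (Subgroup.centralizer ({g} : Set G)) : ℝ) := by exact_mod_cast h1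
  have h3 : ∑ χ ∈ S, ((c χ : ℝ)) ^ 2 ≤ (Nat.card (Subgroup.centralizer ({g} : Set G)) : ℝ) := by
    rw [← h2]
    refine le_trans (le_of_eq (Finset.sum_congr rfl fun χ hχ => ?_))
      (Finset.sum_le_sum_of_subset_of_nonneg (Finset.subset_univ S) fun χ _ _ => Complex.normSq_nonneg _)
    rw [hc χ hχ, Complex.normSq_intCast, pow_two]
  exact_mod_cast h3

theorem U_ne_val [IsSimpleGroup G] {g : G} (hg : g ≠ 1) :
    (X.U : ℂ) - (X.s : ℂ) * (X.θ : G → ℂ) g ≠ 0 := by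
  intro e
  refine X.θ_ne (H62.irr_eq_one_of_apply_eq_degree X.θ hg ?_)
  have hs : (X.s : ℂ) * X.s = 1 := by exact_mod_cast X.s_sq
  rw [U] at e
  push_cast at e
  linear_combination -(X.s : ℂ) * e + ((H12.degree (X.θ : G → ℂ) : ℂ) - (X.θ : G → ℂ) g) * hs

include X in
theorem inv_conj [IsSimpleGroup G] (hna : ¬ IsMulCommutative G) {g k : G} (hg : orderOf g = 2)
    (hk : orderOf k = 2) : IsConj g k := by
  by_contra hgk
  obtain ⟨a, ha, ha1⟩ := X.E₁.exists_ne_one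
  have hU3 := X.U_natAbs
  have := X.deg_three hna
  have hU : X.U + 1 ≠ 0 := by omega
  have h1 := X.classMult_formula (h.out_of_two ⟨1, hg⟩) (h.out_of_two ⟨1, hk⟩) ha ha1 hU
  have h0 : H24.classMult g k a = 0 := by
    rw [H24.classMult, Nat.card_eq_zero]
    left
    refine ⟨fun ab => hgk ?_⟩
    obtain ⟨⟨u, v⟩, hu, hv, huv⟩ := ab
    have sq : ∀ {w z : G}, IsConj w z → orderOf w = 2 → z * z = 1 := fun hc ho => by
      have := Grp.orderOf_eq_of_isConj hc
      rw [← pow_two, ← ho, this, pow_orderOf_eq_one]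
    refine hu.trans (IsConj.trans ?_ hv.symm)
    refine isConj_of_mul_odd (sq hu hg) (sq hv hk) huv ?_
    have ho : orderOf a ∣ Nat.card A₁ := by
      rw [show a = ((⟨a, ha⟩ : A₁) : G) from rfl, Subgroup.orderOf_coe]
      exact orderOf_dvd_natCard _
    exact (Nat.odd_iff.2 h.odd₁).of_dvd_nat ho
  rw [h0, Nat.cast_zero, zero_mul, zero_mul, zero_mul, eq_comm, mul_eq_zero, mul_eq_zero] at h1
  have hne : ∀ w : G, orderOf w = 2 → w ≠ 1 := fun w hw e => by simp [e] at hw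
  rcases h1 with e | e | e
  · exact Nat.card_pos.ne' (Nat.cast_eq_zero.1 e)
  · exact X.U_ne_val (hne g hg) e
  · exact X.U_ne_val (hne k hk) e

include X in
theorem classMult_tt [IsSimpleGroup G] (hna : ¬ IsMulCommutative G) {t a : G} (ht : orderOf t = 2)
    (ha : a ∈ A₁) (ha1 : a ≠ 1) : H24.classMult t t a = Nat.card A₁ := by
  haveI : Fact (Nat.Prime 2) := ⟨Nat.prime_two⟩
  rw [H24.classMult, ← h.card_inverting ha ha1]
  have sq : ∀ {w z : G}, IsConj w z → orderOf w = 2 → z * z = 1 := fun hc ho => by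
    have := Grp.orderOf_eq_of_isConj hc
    rw [← pow_two, ← ho, this, pow_orderOf_eq_one]
  have hne : ∀ {w : G}, w * w = 1 → w * a * w⁻¹ = a⁻¹ → w ≠ 1 := fun {w} _ hw e => by
    rw [e, one_mul, inv_one, mul_one] at hw
    have ho : orderOf a ∣ Nat.card A₁ := by
      rw [show a = ((⟨a, ha⟩ : A₁) : G) from rfl, Subgroup.orderOf_coe]
      exact orderOf_dvd_natCard _
    have h2 : orderOf a ∣ 2 := orderOf_dvd_of_pow_eq_one (by
      rw [pow_two]; exact mul_eq_one_iff_eq_inv.2 hw)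
    have h3 := Nat.dvd_gcd ho h2
    rw [(Nat.coprime_two_right.2 (Nat.odd_iff.2 h.odd₁)).gcd_eq_one, Nat.dvd_one,
      orderOf_eq_one_iff] at h3
    exact ha1 h3
  refine Nat.card_congr
    { toFun := fun ab => ⟨ab.1.1, sq ab.2.1 ht, ?_⟩
      invFun := fun u => ⟨(u.1, u.1 * a), ?_, ?_, ?_⟩
      left_inv := fun ab => ?_
      right_inv := fun u => rfl }
  · obtain ⟨⟨u, v⟩, hu, hv, huv⟩ := ab
    simp only at hu hv huv ⊢
    rw [← huv, mul_inv_rev, inv_eq_of_mul_eq_one_right (sq hu ht),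
      inv_eq_of_mul_eq_one_right (sq hv ht), ← mul_assoc u u v, sq hu ht, one_mul]
  · exact X.inv_conj hna ht (orderOf_eq_prime (by rw [pow_two]; exact u.2.1) (hne u.2.1 u.2.2))
  · have hm : u.1 * a * (u.1 * a) = 1 := by
      calc u.1 * a * (u.1 * a) = (u.1 * a * u.1) * a := by group
        _ = (u.1 * a * u.1⁻¹) * a := by rw [inv_eq_of_mul_eq_one_right u.2.1]
        _ = 1 := by rw [u.2.2, inv_mul_cancel]
    refine X.inv_conj hna ht (orderOf_eq_prime (by rw [pow_two]; exact hm) fun e => ?_)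
    have e1 : u.1 = a⁻¹ := mul_eq_one_iff_eq_inv.1 e
    have ho : orderOf u.1 = 2 := orderOf_eq_prime (by rw [pow_two]; exact u.2.1) (hne u.2.1 u.2.2)
    have hd : orderOf u.1 ∣ Nat.card A₁ := by
      rw [show u.1 = ((⟨a⁻¹, inv_mem ha⟩ : A₁) : G) from e1, Subgroup.orderOf_coe]
      exact orderOf_dvd_natCard _
    have := h.odd₁
    rw [ho] at hd
    omega
  · show u.1 * (u.1 * a) = a
    rw [← mul_assoc, u.2.1, one_mul]
  · obtain ⟨⟨u, v⟩, hu, hv, huv⟩ := ab
    simp only at hu hv huv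
    apply Subtype.ext
    show (u, u * a) = (u, v)
    rw [← huv, ← mul_assoc, sq hu ht, one_mul]

/-- The counting equation at an involution. -/
theorem key_tt [IsSimpleGroup G] (hna : ¬ IsMulCommutative G) {t : G} (ht : orderOf t = 2)
    {M : ℕ} (hM : Nat.card G = h.NN * M) {k u : ℤ}
    (hk : X.U * (X.U + 1) = k * ((Nat.card A₂ : ℤ) * Nat.card A₃))
    (hu : (X.s : ℂ) * (X.θ : G → ℂ) t = u) :
    (Nat.card (Subgroup.centralizer ({t} : Set G)) : ℤ) ^ 2 * k = M * (X.U - u) ^ 2 := by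
  obtain ⟨a, ha, ha1⟩ := X.E₁.exists_ne_one
  have hU3 := X.U_natAbs
  have := X.deg_three hna
  have h1 := X.classMult_formula (h.out_of_two ⟨1, ht⟩) (h.out_of_two ⟨1, ht⟩) ha ha1
    (show X.U + 1 ≠ 0 by omega)
  rw [X.classMult_tt hna ht ha ha1, hu, hM] at h1
  unfold Sys.NN at h1
  have h2 : (Nat.card A₁ : ℤ) * (Nat.card (Subgroup.centralizer ({t} : Set G)) : ℤ) *
      (Nat.card (Subgroup.centralizer ({t} : Set G)) : ℤ) * (X.U * (X.U + 1)) =
      (Nat.card A₁ : ℤ) * Nat.card A₂ * Nat.card A₃ * M * ((X.U - u) * (X.U - u)) := by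
    apply Int.cast_injective (α := ℂ)
    push_cast at h1 ⊢
    exact h1
  rw [hk] at h2
  have hne : (Nat.card A₁ : ℤ) * Nat.card A₂ * Nat.card A₃ ≠ 0 := by
    have a := Nat.card_pos (α := A₁); have b := Nat.card_pos (α := A₂)
    have c := Nat.card_pos (α := A₃); positivity
  apply mul_left_cancel₀ hne
  linear_combination h2

end Chars

end H22.SC
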