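import Mathlib
import Cfsg.Agent.H22.SC.Base
import Cfsg.Agent.H22.SC.Arith

/-!
An involution commuting with an element of odd prime order in a (2, 4, 4) system: the general
class facts.
-/

set_option autoImplicit false
set_option linter.unusedSectionVars false
set_option linter.style.haveILetI false

open Cfsg

namespace H22.SC

universe u

variable {G : Type u} [Group G] [Fintype G]

theorem eq_two_parts {n r : ℕ} (hn : n ≠ 0) (hr : r.Prime) (hr2 : r ≠ 2)
    (h : ∀ q : ℕ, q.Prime → q ∣ n → q = 2 ∨ q = r) :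
    n = 2 ^ n.factorization 2 * r ^ n.factorization r := by
  have h2 : (2 : ℕ).Prime := Nat.prime_two
  apply Nat.eq_of_factorization_eq hn (mul_ne_zero (pow_ne_zero _ (by norm_num))
    (pow_ne_zero _ hr.ne_zero))
  intro p
  rw [Nat.factorization_mul (pow_ne_zero _ (by norm_num)) (pow_ne_zero _ hr.ne_zero),
    h2.factorization_pow, hr.factorization_pow, Finsupp.add_apply]
  by_cases hp2 : p = 2
  · subst hp2; simp [hr2]
  by_cases hpr : p = r
  · subst hpr; simp [Ne.symm hp2]
  rw [Finsupp.single_eq_of_ne (by omega), Finsupp.single_eq_of_ne (by omega), add_zero]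
  by_cases hp : p.Prime
  · refine Nat.factorization_eq_zero_of_not_dvd fun hd => ?_
    rcases h p hp hd with e | e <;> omega
  · exact Nat.factorization_eq_zero_of_not_prime _ hp

/-- An involution commuting with an element of odd prime order. -/
structure Loc {A₁ A₂ A₃ : Subgroup G} (h : Sys A₁ A₂ A₃) where
  X : Chars h
  hna : ¬ IsMulCommutative G
  t : G
  x : G
  r : ℕ
  prime : r.Prime
  r_ne : r ≠ 2
  ht : orderOf t = 2
  hx : orderOf x = r
  comm : t * x = x * t

namespace Loc

variable [IsSimpleGroup G] {A₁ A₂ A₃ : Subgroup G} {h : Sys A₁ A₂ A₃} (L : Loc h)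
include L

theorem r3 : 3 ≤ L.r := by
  have h1 := L.prime.two_le; have h2 := L.r_ne; omega

theorem r_odd : L.r % 2 = 1 := Nat.odd_iff.1 (L.prime.odd_of_ne_two L.r_ne)

theorem out_t : h.Out L.t := h.out_of_two ⟨1, L.ht⟩

theorem t_ne : L.t ≠ 1 := fun e => by simpa [e] using L.ht

theorem x_ne : L.x ≠ 1 := fun e => by
  have := L.hx; rw [e, orderOf_one] at this; have := L.r3; omega

theorem out_x : h.Out L.x := h.out_of_commute L.out_t L.t_ne L.comm

theorem cop_r : L.r.Coprime h.NN := L.hx ▸ h.coprime_of_out L.out_x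

theorem out_of_dvd {g : G} {i j : ℕ} (hg : orderOf g ∣ 2 ^ i * L.r ^ j) : h.Out g := by
  refine h.out_of_coprime (Nat.Coprime.coprime_dvd_left hg (Nat.Coprime.mul_left ?_ ?_))
  · exact Nat.Coprime.pow_left i (Nat.coprime_two_left.2 (Nat.odd_iff.2 h.odd_NN))
  · exact L.cop_r.pow_left j

theorem xt_order : orderOf (L.x * L.t) = 2 * L.r := by
  rw [(show Commute L.x L.t from L.comm.symm).orderOf_mul_eq_mul_orderOf_of_coprime, L.hx, L.ht,
    mul_comm]
  rw [L.hx, L.ht]
  exact Nat.coprime_two_right.2 (Nat.odd_iff.2 L.r_odd)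

/-- An outside element not conjugate to the five standard ones. -/
def NewC (u : G) : Prop :=
  h.Out u ∧ orderOf u ≠ 1 ∧ orderOf u ≠ 4 ∧ ¬ IsConj L.t u ∧ ¬ IsConj L.x u ∧
    ¬ IsConj (L.x * L.t) u

theorem newC_of_order {u : G} (hu : h.Out u) (h1 : orderOf u ≠ 1) (h2 : orderOf u ≠ 2)
    (h4 : orderOf u ≠ 4) (hr : orderOf u ≠ L.r) (h2r : orderOf u ≠ 2 * L.r) : L.NewC u :=
  ⟨hu, h1, h4, fun e => h2 ((Grp.orderOf_eq_of_isConj e).symm.trans L.ht),
    fun e => hr ((Grp.orderOf_eq_of_isConj e).symm.trans L.hx),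
    fun e => h2r ((Grp.orderOf_eq_of_isConj e).symm.trans L.xt_order)⟩

theorem five_orders {y : G} (hy : orderOf y = 4) (i j : Fin 5) (hij : i ≠ j) :
    orderOf ((![1, L.t, y, L.x, L.x * L.t] : Fin 5 → G) i) ≠
      orderOf ((![1, L.t, y, L.x, L.x * L.t] : Fin 5 → G) j) := by
  have h3 := L.r3; have ho := L.r_odd
  fin_cases i <;> fin_cases j <;>
    simp [hy, L.ht, L.hx, L.xt_order] <;> first | omega | exact absurd rfl hij

theorem five_out {y : G} (hy : orderOf y = 4) (i : Fin 5) :
    h.Out ((![1, L.t, y, L.x, L.x * L.t] : Fin 5 → G) i) := by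
  fin_cases i
  · exact h.out_one
  · exact L.out_t
  · exact h.out_of_two ⟨2, hy⟩
  · exact L.out_x
  · exact L.out_of_dvd (i := 1) (j := 1) (by simp [L.xt_order])

theorem five : h.NN ^ 2 < Nat.card G := by
  obtain ⟨y, hy⟩ := h.exists_order_four
  refine h.clsOut_le.2 ?_
  have := h.pairwise_le Finset.univ _ (fun i _ => L.five_out hy i) fun i _ j _ hij e =>
    L.five_orders hy i j hij (Grp.orderOf_eq_of_isConj e)
  simpa using this

theorem seven {u v : G} (hu : L.NewC u) (hv : L.NewC v) (huv : ¬ IsConj u v) : False := by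
  obtain ⟨y, hy⟩ := h.exists_order_four
  refine h.seven (Fin.snoc (Fin.snoc ![1, L.t, y, L.x, L.x * L.t] u) v) ?_ ?_
  · intro i
    induction i using Fin.lastCases with
    | last => rw [Fin.snoc_last]; exact hv.1
    | cast i =>
      rw [Fin.snoc_castSucc]
      induction i using Fin.lastCases with
      | last => rw [Fin.snoc_last]; exact hu.1
      | cast i => rw [Fin.snoc_castSucc]; exact L.five_out hy i
  have key : ∀ (w : G), L.NewC w → ∀ i : Fin 5,
      ¬ IsConj ((![1, L.t, y, L.x, L.x * L.t] : Fin 5 → G) i) w := by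
    intro w hw i
    fin_cases i
    · exact fun e => hw.2.1 ((Grp.orderOf_eq_of_isConj e).symm.trans orderOf_one)
    · exact hw.2.2.2.1
    · exact fun e => hw.2.2.1 ((Grp.orderOf_eq_of_isConj e).symm.trans hy)
    · exact hw.2.2.2.2.1
    · exact hw.2.2.2.2.2
  intro i j hij
  induction i using Fin.lastCases with
  | last =>
    induction j using Fin.lastCases with
    | last => exact absurd rfl hij
    | cast j =>
      rw [Fin.snoc_last, Fin.snoc_castSucc]
      induction j using Fin.lastCases with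
      | last => rw [Fin.snoc_last]; exact fun e => huv e.symm
      | cast j => rw [Fin.snoc_castSucc]; exact fun e => key v hv j e.symm
  | cast i =>
    induction j using Fin.lastCases with
    | last =>
      rw [Fin.snoc_last, Fin.snoc_castSucc]
      induction i using Fin.lastCases with
      | last => rw [Fin.snoc_last]; exact huv
      | cast i => rw [Fin.snoc_castSucc]; exact key v hv i
    | cast j =>
      rw [Fin.snoc_castSucc, Fin.snoc_castSucc]
      induction i using Fin.lastCases with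
      | last =>
        induction j using Fin.lastCases with
        | last => exact absurd rfl hij
        | cast j => rw [Fin.snoc_last, Fin.snoc_castSucc]; exact fun e => key u hu j e.symm
      | cast i =>
        induction j using Fin.lastCases with
        | last => rw [Fin.snoc_last, Fin.snoc_castSucc]; exact key u hu i
        | cast j =>
          rw [Fin.snoc_castSucc, Fin.snoc_castSucc]
          exact fun e => L.five_orders hy i j (fun e2 => hij (by rw [e2]))
            (Grp.orderOf_eq_of_isConj e)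

/-- Powers separate the two commuting parts. -/
theorem conj_split {w w' s s' : G} (hw : orderOf w = L.r) (hw' : orderOf w' = L.r)
    (hs : orderOf s = 2) (hs' : orderOf s' = 2) (hc : s * w = w * s) (hc' : s' * w' = w' * s')
    {g : G} (hg : g * (w * s) * g⁻¹ = w' * s') : g * w * g⁻¹ = w' ∧ g * s * g⁻¹ = s' := by
  have key : ∀ {w s : G}, orderOf w = L.r → orderOf s = 2 → s * w = w * s →
      (w * s) ^ (L.r + 1) = w ∧ (w * s) ^ L.r = s := by
    intro w s hw hs hc
    have hr : w ^ L.r = 1 := hw ▸ pow_orderOf_eq_one w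
    have hs2 : s ^ 2 = 1 := hs ▸ pow_orderOf_eq_one s
    obtain ⟨k, hk⟩ : ∃ k, L.r = 2 * k + 1 := ⟨L.r / 2, by have := L.r_odd; omega⟩
    constructor
    · rw [(show Commute w s from hc.symm).mul_pow, pow_succ, hr, one_mul,
        show s ^ (L.r + 1) = 1 by
          rw [show L.r + 1 = 2 * (k + 1) by omega, pow_mul, hs2, one_pow], mul_one]
    · rw [(show Commute w s from hc.symm).mul_pow, hr, one_mul, hk, pow_succ, pow_mul, hs2,
        one_pow, one_mul]
  obtain ⟨a1, a2⟩ := key hw hs hc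
  obtain ⟨b1, b2⟩ := key hw' hs' hc'
  constructor
  · conv_lhs => rw [← a1]
    rw [← conj_pow, hg, b1]
  · conv_lhs => rw [← a2]
    rw [← conj_pow, hg, b2]

theorem mul_inv_new {w s : G} (hw : orderOf w = L.r) (hs : orderOf s = 2) (hc : s * w = w * s)
    (hn : ∀ g : G, g * L.x * g⁻¹ = w → g * L.t * g⁻¹ ≠ s) : L.NewC (w * s) := by
  have ho : orderOf (w * s) = 2 * L.r := by
    rw [(show Commute w s from hc.symm).orderOf_mul_eq_mul_orderOf_of_coprime, hw, hs, mul_comm]
    rw [hw, hs]; exact Nat.coprime_two_right.2 (Nat.odd_iff.2 L.r_odd)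
  have h3 := L.r3
  have hro := L.r_odd
  refine ⟨L.out_of_dvd (i := 1) (j := 1) (by simp [ho]), by omega, by omega,
    fun e => ?_, fun e => ?_, fun e => ?_⟩
  · have := (Grp.orderOf_eq_of_isConj e).symm.trans L.ht; omega
  · have := (Grp.orderOf_eq_of_isConj e).symm.trans L.hx; omega
  · obtain ⟨g, hg⟩ := isConj_iff.1 e
    obtain ⟨h1, h2⟩ := L.conj_split L.hx hw L.ht hs L.comm hc hg
    exact hn g h1 h2

/-- An element of order `r` commuting with an involution is conjugate to `x`. -/
theorem conj_x {w s : G} (hw : orderOf w = L.r) (hs : orderOf s = 2) (hc : s * w = w * s) :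
    IsConj L.x w := by
  by_contra hne
  have h3 := L.r3
  have hro := L.r_odd
  have hws := L.mul_inv_new hw hs hc fun g h1 _ => hne (isConj_iff.2 ⟨g, h1⟩)
  have hwn : L.NewC w := ⟨L.out_of_dvd (i := 0) (j := 1) (by simp [hw]), by omega, by omega,
    fun e => by have := (Grp.orderOf_eq_of_isConj e).symm.trans L.ht; omega, hne,
    fun e => by have := (Grp.orderOf_eq_of_isConj e).symm.trans L.xt_order; omega⟩
  refine L.seven hwn hws fun e => ?_
  have h1 := Grp.orderOf_eq_of_isConj e
  rw [(show Commute w s from hc.symm).orderOf_mul_eq_mul_orderOf_of_coprime, hw, hs] at h1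
  · omega
  · rw [hw, hs]; exact Nat.coprime_two_right.2 (Nat.odd_iff.2 hro)

theorem two_le_pow {j : ℕ} (hj : 2 ≤ j) : 9 ≤ L.r ^ j ∧ L.r ^ j % 2 = 1 ∧ L.r < L.r ^ j ∧
    L.r ^ j ≠ 2 * L.r := by
  have h3 := L.r3
  have h1 : L.r ^ 2 ≤ L.r ^ j := Nat.pow_le_pow_right (by omega) hj
  have h2 : 3 * L.r ≤ L.r ^ 2 := by nlinarith
  refine ⟨by omega, ?_, by omega, by omega⟩
  rw [Nat.pow_mod, L.r_odd, one_pow]; rfl

/-- An `r`-element commuting with an involution has order at most `r`. -/
theorem order_le {w s : G} {j : ℕ} (hw : orderOf w = L.r ^ j) (hs : orderOf s = 2)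
    (hc : s * w = w * s) : j ≤ 1 := by
  by_contra hj
  obtain ⟨i, hi⟩ : ∃ i, j = i + 2 := ⟨j - 2, by omega⟩
  set v := w ^ (L.r ^ i) with hv
  have hvo : orderOf v = L.r ^ 2 := by
    rw [hv, orderOf_pow_of_dvd (pow_ne_zero _ L.prime.ne_zero)
      (by rw [hw, hi]; exact pow_dvd_pow _ (by omega)), hw, hi, pow_add,
      Nat.mul_div_cancel_left _ (pow_pos L.prime.pos _)]
  have hcv : s * v = v * s := ((show Commute s w from hc).pow_right _).eq
  have hcop : (L.r ^ 2).Coprime 2 :=
    Nat.Coprime.pow_left 2 (Nat.coprime_two_right.2 (Nat.odd_iff.2 L.r_odd))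
  have hvs : orderOf (v * s) = L.r ^ 2 * 2 := by
    rw [(show Commute v s from hcv.symm).orderOf_mul_eq_mul_orderOf_of_coprime, hvo, hs]
    rw [hvo, hs]; exact hcop
  obtain ⟨a1, a2, a3, a4⟩ := L.two_le_pow (le_refl 2)
  have h3 := L.r3
  have hro := L.r_odd
  refine L.seven (u := v) (v := v * s)
    (L.newC_of_order (L.out_of_dvd (i := 0) (j := 2) (by simp [hvo]))
      (by omega) (by omega) (by omega) (by omega) (by omega))
    (L.newC_of_order (L.out_of_dvd (i := 1) (j := 2) (by simp [hvs, mul_comm]))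
      (by omega) (by omega) (by omega) (by omega) (by omega)) fun e => ?_
  have := Grp.orderOf_eq_of_isConj e
  omega

/-- The centraliser of an involution or of a nontrivial `r`-element has primes `2`, `r` only. -/
theorem cent_primes {w : G} (hw : orderOf w = 2 ∨ ∃ j, 1 ≤ j ∧ orderOf w = L.r ^ j) {q : ℕ}
    (hq : q.Prime) (hd : q ∣ Nat.card (Subgroup.centralizer ({w} : Set G))) : q = 2 ∨ q = L.r := by
  by_contra hne
  push Not at hne
  haveI := Fact.mk hq
  obtain ⟨u, hu⟩ := exists_prime_orderOf_dvd_card' q hd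
  have huo : orderOf (u : G) = q := by rw [Subgroup.orderOf_coe, hu]
  have hc : (u : G) * w = w * (u : G) := Grp.mem_cent.1 u.2
  have hwout : h.Out w := by
    rcases hw with e | ⟨j, -, e⟩
    · exact h.out_of_two ⟨1, e⟩
    · exact L.out_of_dvd (i := 0) (j := j) (by simp [e])
  have hw1 : w ≠ 1 := fun e => by
    rw [e, orderOf_one] at hw
    rcases hw with e' | ⟨j, hj, e'⟩
    · omega
    · exact absurd e'.symm (Nat.one_lt_pow (by omega) L.prime.one_lt).ne'
  have huout : h.Out (u : G) := h.out_of_commute hwout hw1 hc.symm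
  have hout2 : h.Out ((u : G) * w) := h.out_of_commute hwout hw1
    (by rw [← mul_assoc, ← hc, mul_assoc])
  have hcop : (orderOf (u : G)).Coprime (orderOf w) := by
    rw [huo]
    rcases hw with e | ⟨j, -, e⟩ <;> rw [e]
    · exact (Nat.coprime_primes hq Nat.prime_two).2 hne.1
    · exact Nat.Coprime.pow_right j ((Nat.coprime_primes hq L.prime).2 hne.2)
  have huw : orderOf ((u : G) * w) = q * orderOf w := by
    rw [(show Commute (u : G) w from hc).orderOf_mul_eq_mul_orderOf_of_coprime hcop, huo]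
  have hw2 : 2 ≤ orderOf w := by
    have := orderOf_pos w
    have : orderOf w ≠ 1 := fun e => hw1 (orderOf_eq_one_iff.1 e)
    omega
  have hnd : ∀ n, q ∣ n → n ≠ 1 ∧ n ≠ 2 ∧ n ≠ 4 ∧ n ≠ L.r ∧ n ≠ 2 * L.r := by
    intro n hn
    refine ⟨?_, ?_, ?_, ?_, ?_⟩ <;> rintro rfl
    · exact hq.ne_one (Nat.dvd_one.1 hn)
    · exact hne.1 ((Nat.prime_dvd_prime_iff_eq hq Nat.prime_two).1 hn)
    · exact hne.1 ((Nat.prime_dvd_prime_iff_eq hq Nat.prime_two).1
        (hq.dvd_of_dvd_pow (show q ∣ 2 ^ 2 from hn)))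
    · exact hne.2 ((Nat.prime_dvd_prime_iff_eq hq L.prime).1 hn)
    · rcases hq.dvd_mul.1 hn with e | e
      · exact hne.1 ((Nat.prime_dvd_prime_iff_eq hq Nat.prime_two).1 e)
      · exact hne.2 ((Nat.prime_dvd_prime_iff_eq hq L.prime).1 e)
  obtain ⟨a1, a2, a3, a4, a5⟩ := hnd _ (dvd_of_eq huo.symm)
  obtain ⟨b1, b2, b3, b4, b5⟩ := hnd _ (huw ▸ dvd_mul_right q _)
  refine L.seven (L.newC_of_order huout a1 a2 a3 a4 a5) (L.newC_of_order hout2 b1 b2 b3 b4 b5)
    fun e => ?_
  have := Grp.orderOf_eq_of_isConj e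
  rw [huo, huw] at this
  have := hq.pos
  nlinarith

theorem card_cent {w : G} (hw : orderOf w = 2 ∨ ∃ j, 1 ≤ j ∧ orderOf w = L.r ^ j) :
    Nat.card (Subgroup.centralizer ({w} : Set G)) =
      2 ^ (Nat.card (Subgroup.centralizer ({w} : Set G))).factorization 2 *
        L.r ^ (Nat.card (Subgroup.centralizer ({w} : Set G))).factorization L.r :=
  eq_two_parts Nat.card_pos.ne' L.prime L.r_ne fun _ hq hd => L.cent_primes hw hq hd

theorem card_cent_eq_of_isConj {g g' : G} (hc : IsConj g g') :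
    Nat.card (Subgroup.centralizer ({g} : Set G)) =
      Nat.card (Subgroup.centralizer ({g'} : Set G)) := by
  obtain ⟨c, rfl⟩ := isConj_iff.1 hc
  refine Nat.card_congr ((MulAut.conj c).toEquiv.subtypeEquiv fun z => ?_)
  simp only [MulEquiv.toEquiv_eq_coe, EquivLike.coe_coe, MulAut.conj_apply, Grp.mem_cent]
  constructor
  · intro e
    calc c * z * c⁻¹ * (c * g * c⁻¹) = c * (z * g) * c⁻¹ := by group
      _ = c * (g * z) * c⁻¹ := by rw [e]
      _ = c * g * c⁻¹ * (c * z * c⁻¹) := by group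
  · intro e
    calc z * g = c⁻¹ * (c * z * c⁻¹ * (c * g * c⁻¹)) * c := by group
      _ = c⁻¹ * (c * g * c⁻¹ * (c * z * c⁻¹)) * c := by rw [e]
      _ = g * z := by group

/-- An involution centraliser contains a Sylow `2`-subgroup. -/
theorem ct_two :
    (Nat.card (Subgroup.centralizer ({L.t} : Set G))).factorization 2 =
      (Nat.card G).factorization 2 := by
  haveI : Fact (Nat.Prime 2) := ⟨Nat.prime_two⟩
  obtain ⟨P⟩ : Nonempty (Sylow 2 G) := inferInstance
  have h2 : 2 ∣ Nat.card G := (dvd_of_eq L.ht.symm).trans (orderOf_dvd_natCard _)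
  have hP2 : 2 ∣ Nat.card (P : Subgroup G) := P.dvd_card_of_dvd_card h2
  haveI : Nontrivial (P : Subgroup G) :=
    Finite.one_lt_card_iff_nontrivial.1 (Nat.le_of_dvd Nat.card_pos hP2)
  haveI := P.2.center_nontrivial
  obtain ⟨z, hz⟩ := exists_prime_orderOf_dvd_card' (G := Subgroup.center (P : Subgroup G)) 2 (by
    obtain ⟨k, hk⟩ := (P.2.to_subgroup (Subgroup.center (P : Subgroup G))).exists_card_eq
    have h1 := Finite.one_lt_card (α := Subgroup.center (P : Subgroup G))
    rw [hk] at h1 ⊢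
    exact dvd_pow_self 2 (fun e => by simp [e] at h1))
  have hzo : orderOf ((z : (P : Subgroup G)) : G) = 2 := by
    rw [Subgroup.orderOf_coe, Subgroup.orderOf_coe, hz]
  have hle : (P : Subgroup G) ≤ Subgroup.centralizer ({((z : (P : Subgroup G)) : G)} : Set G) :=
    fun s hs => Grp.mem_cent.2 (congrArg Subtype.val (Subgroup.mem_center_iff.1 z.2 ⟨s, hs⟩))
  rw [L.card_cent_eq_of_isConj (L.X.inv_conj L.hna L.ht hzo)]
  apply le_antisymm
  · exact (Nat.factorization_le_iff_dvd Nat.card_pos.ne' Nat.card_pos.ne').2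
      (Subgroup.card_subgroup_dvd_card _) 2
  · have h1 := Subgroup.card_dvd_of_le hle
    rw [P.card_eq_multiplicity] at h1
    exact (Nat.prime_two.pow_dvd_iff_le_factorization Nat.card_pos.ne').1 h1

/-- `|G| = NN M` with `NN < M ≤ 3 NN`. -/
theorem exists_M : ∃ M : ℕ, Nat.card G = h.NN * M ∧ h.NN < M ∧ M ≤ 3 * h.NN ∧ M.Coprime h.NN := by
  obtain ⟨hd, hcop⟩ := h.coprime_index
  obtain ⟨M, hM⟩ := hd
  rw [hM, Nat.mul_div_cancel_left _ h.NN_pos] at hcop
  have h5 := L.five
  have hord : Nat.card G ≤ 3 * h.NN ^ 2 := h.hord.trans_eq (by unfold Sys.NN; ring)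
  rw [hM, pow_two] at h5 hord
  refine ⟨M, hM, Nat.lt_of_mul_lt_mul_left h5, ?_, hcop⟩
  exact Nat.le_of_mul_le_mul_left (hord.trans_eq (by ring)) h.NN_pos

theorem bound_le {a b c : ℕ} (ha : 0 < a) (hb : 0 < b) (hc : 0 < c) (h1 : a ≤ Nat.card A₁)
    (h2 : b ≤ Nat.card A₂) (h3 : c ≤ Nat.card A₃) :
    h.bound ≤ 1 / (2 * (a : ℚ)) + 1 / (4 * (b : ℚ)) + 1 / (4 * (c : ℚ)) := by
  unfold Sys.bound
  gcongr

end Loc

end H22.SC
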