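import Mathlib
import Cfsg.Agent.H22.SC.Local

/-!
The contribution of the elements `x v`, `v` a 2-element of the centraliser of `x`, to the class
equation.
-/

set_option autoImplicit false
set_option linter.unusedSectionVars false
set_option linter.style.haveILetI false

open Cfsg

namespace H22.SC

universe u

theorem Grp.sum_image {H : Type u} [Group H] [Fintype H] [DecidableEq (ConjClasses H)]
    (S : Finset H) (hS : ∀ a ∈ S, ∀ c : H, c * a * c⁻¹ ∈ S) :
    ∑ C ∈ S.image ConjClasses.mk, (1 : ℚ) / Nat.card (Subgroup.centralizer ({C.out} : Set H)) =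
      (S.card : ℚ) / Nat.card H := by
  classical
  have hH : (Nat.card H : ℚ) ≠ 0 := Nat.cast_ne_zero.2 Nat.card_pos.ne'
  rw [eq_div_iff hH, Finset.sum_mul, Finset.card_eq_sum_card_image ConjClasses.mk S]
  push_cast
  refine Finset.sum_congr rfl fun C hC => ?_
  obtain ⟨a, ha, rfl⟩ := Finset.mem_image.1 hC
  have hout : IsConj a (ConjClasses.mk a).out :=
    (ConjClasses.mk_eq_mk_iff_isConj.1 (Quotient.out_eq (ConjClasses.mk a))).symm
  have hfib : (S.filter fun b => ConjClasses.mk b = ConjClasses.mk a) =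
      ({y : H | IsConj (ConjClasses.mk a).out y} : Finset H) := by
    ext y
    simp only [Finset.mem_filter, Finset.mem_univ, true_and, ConjClasses.mk_eq_mk_iff_isConj]
    constructor
    · exact fun hy => hout.symm.trans hy.2.symm
    · intro hy
      obtain ⟨c, rfl⟩ := isConj_iff.1 (hout.trans hy)
      exact ⟨hS a ha c, (hout.trans hy).symm⟩
  have e := H12.card_conjClass_mul_card_centralizer (ConjClasses.mk a).out
  rw [hfib, one_div_mul_eq_div, div_eq_iff (Nat.cast_ne_zero.2 Nat.card_pos.ne')]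
  exact_mod_cast e.symm

variable {G : Type u} [Group G] [Fintype G]

namespace Loc

variable [IsSimpleGroup G] {A₁ A₂ A₃ : Subgroup G} {h : Sys A₁ A₂ A₃} (L : Loc h)
include L

/-- The centraliser of `x`. -/
noncomputable def Cx : Subgroup G := Subgroup.centralizer ({L.x} : Set G)

/-- The order of a Sylow 2-subgroup of the centraliser of `x`. -/
noncomputable def Vx : ℕ := 2 ^ (Nat.card L.Cx).factorization 2

theorem hab_r (P : Sylow L.r G) : IsMulCommutative (P : Subgroup G) :=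
  h.hab L.r L.prime L.r_ne (fun hd =>
    L.prime.ne_one (Nat.eq_one_of_dvd_coprimes L.cop_r dvd_rfl hd)) P

theorem exists_sylow_x : ∃ R : Sylow L.r G, L.x ∈ (R : Subgroup G) ∧ (R : Subgroup G) ≤ L.Cx := by
  haveI := Fact.mk L.prime
  have h1 : IsPGroup L.r (Subgroup.zpowers L.x) := IsPGroup.of_card (n := 1) (by
    rw [Nat.card_zpowers, L.hx, pow_one])
  obtain ⟨R, hR⟩ := h1.exists_le_sylow
  refine ⟨R, hR (Subgroup.mem_zpowers _), fun s hs => Grp.mem_cent.2 ?_⟩
  haveI := L.hab_r R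
  exact congrArg Subtype.val (mul_comm' (⟨s, hs⟩ : (R : Subgroup G))
    ⟨L.x, hR (Subgroup.mem_zpowers _)⟩)

theorem x_cases : orderOf L.x = 2 ∨ ∃ j, 1 ≤ j ∧ orderOf L.x = L.r ^ j :=
  Or.inr ⟨1, le_rfl, by rw [L.hx, pow_one]⟩

theorem card_Cx : Nat.card L.Cx = L.Vx * L.r ^ (Nat.card G).factorization L.r := by
  haveI := Fact.mk L.prime
  obtain ⟨R, -, hR⟩ := L.exists_sylow_x
  have h2 := Subgroup.card_dvd_of_le hR
  rw [R.card_eq_multiplicity] at h2
  have h3 : (Nat.card L.Cx).factorization L.r = (Nat.card G).factorization L.r :=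
    le_antisymm ((Nat.factorization_le_iff_dvd Nat.card_pos.ne' Nat.card_pos.ne').2
      (Subgroup.card_subgroup_dvd_card _) L.r)
      ((L.prime.pow_dvd_iff_le_factorization Nat.card_pos.ne').1 h2)
  conv_lhs => rw [show Nat.card L.Cx = _ from L.card_cent L.x_cases]
  rw [← h3]
  rfl

/-- The number of 2-elements of the centraliser of `x`. -/
noncomputable def Nx : ℕ := Nat.card {v : L.Cx // v ^ L.Vx = 1}

theorem exists_Nx : ∃ k, 1 ≤ k ∧ L.Nx = k * L.Vx := by
  have h1 := H27.gcd_card_dvd_card_pow_eq_one L.Cx L.Vx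
  rw [Nat.gcd_eq_left (show L.Vx ∣ Nat.card L.Cx from L.card_Cx ▸ dvd_mul_right _ _)] at h1
  obtain ⟨k, hk⟩ := h1
  refine ⟨k, ?_, by rw [Nx, hk, mul_comm]⟩
  have hpos : 0 < Nat.card {v : L.Cx // v ^ L.Vx = 1} := by
    haveI : Nonempty {v : L.Cx // v ^ L.Vx = 1} := ⟨⟨1, one_pow _⟩⟩
    exact Nat.card_pos
  rw [hk] at hpos
  exact Nat.pos_of_mul_pos_left hpos

theorem two_elem {v : L.Cx} (hv : v ^ L.Vx = 1) : ∃ i, orderOf (v : G) = 2 ^ i := by
  obtain ⟨i, -, hi⟩ := (Nat.dvd_prime_pow Nat.prime_two).1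
    (orderOf_dvd_of_pow_eq_one (x := (v : G)) (n := L.Vx) (by simpa using congrArg Subtype.val hv))
  exact ⟨i, hi⟩

theorem pow_Vx {v : L.Cx} {i : ℕ} (hv : orderOf (v : G) = 2 ^ i) : v ^ L.Vx = 1 := by
  apply orderOf_dvd_iff_pow_eq_one.1
  rw [Subgroup.orderOf_coe] at hv
  rw [hv]
  exact pow_dvd_pow 2 ((Nat.prime_two.pow_dvd_iff_le_factorization Nat.card_pos.ne').1
    (hv ▸ orderOf_dvd_natCard v))

/-- Powers separate `x` from a commuting 2-element. -/
theorem split_two {v w g : G} {i j : ℕ} (hv : orderOf v = 2 ^ i) (hw : orderOf w = 2 ^ j)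
    (hvc : v * L.x = L.x * v) (hwc : w * L.x = L.x * w) (hg : g * (L.x * v) * g⁻¹ = L.x * w) :
    g * L.x * g⁻¹ = L.x ∧ g * v * g⁻¹ = w := by
  obtain ⟨n, hn0, hn1⟩ := Nat.chineseRemainder (Nat.Coprime.pow_right (i + j)
    (Nat.coprime_two_right.2 (Nat.odd_iff.2 L.r_odd)) : L.r.Coprime (2 ^ (i + j))) 1 0
  have key : ∀ {z : G} {l : ℕ}, orderOf z = 2 ^ l → l ≤ i + j → z * L.x = L.x * z →
      (L.x * z) ^ n = L.x := by
    intro z l hz hl hc
    rw [(show Commute L.x z from hc.symm).mul_pow]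
    have e1 : z ^ n = 1 := orderOf_dvd_iff_pow_eq_one.1
      (hz ▸ (pow_dvd_pow 2 hl).trans (Nat.modEq_zero_iff_dvd.1 hn1))
    have e2 : L.x ^ n = L.x := by
      conv_rhs => rw [← pow_one L.x]
      rw [pow_eq_pow_iff_modEq, L.hx]
      exact hn0
    rw [e1, e2, mul_one]
  have e := key hw (Nat.le_add_left j i) hwc
  rw [← hg, conj_pow, key hv (Nat.le_add_right i j) hvc] at e
  refine ⟨e, ?_⟩
  calc g * v * g⁻¹ = (g * L.x * g⁻¹)⁻¹ * (g * (L.x * v) * g⁻¹) := by group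
    _ = w := by rw [e, hg]; group

theorem out_xv {v : G} (hvc : v * L.x = L.x * v) : h.Out (L.x * v) :=
  h.out_of_commute L.out_x L.x_ne (by rw [mul_assoc, hvc])

/-- The class equation bound with further outside classes `S`. -/
theorem T_bound (S : Finset G) (hout : ∀ u ∈ S, h.Out u)
    (hne : ∀ u ∈ S, ∀ u' ∈ S, u ≠ u' → ¬ IsConj u u')
    (hS : ∀ u ∈ S, ∀ v : L.Cx, v ^ L.Vx = 1 → ¬ IsConj (L.x * (v : G)) u) :
    (L.Nx : ℚ) / Nat.card L.Cx + ∑ u ∈ S, 1 / (Nat.card (Subgroup.centralizer ({u} : Set G)) : ℚ)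
      ≤ h.bound := by
  classical
  set T := Finset.univ.filter fun v : L.Cx => v ^ L.Vx = 1 with hT
  have hTcard : T.card = L.Nx := by
    rw [hT, ← Fintype.card_subtype, ← Nat.card_eq_fintype_card]; rfl
  have hstab : ∀ a ∈ T, ∀ c : L.Cx, c * a * c⁻¹ ∈ T := fun a ha c => by
    simp only [hT, Finset.mem_filter, Finset.mem_univ, true_and] at ha ⊢
    rw [conj_pow, ha, mul_one, mul_inv_cancel]
  have houtT : ∀ C ∈ T.image ConjClasses.mk, C.out ^ L.Vx = 1 := by
    intro C hC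
    obtain ⟨a, ha, rfl⟩ := Finset.mem_image.1 hC
    obtain ⟨c, hc⟩ := isConj_iff.1
      (ConjClasses.mk_eq_mk_iff_isConj.1 (Quotient.out_eq (ConjClasses.mk a))).symm
    have := hstab a ha c
    rw [hc] at this
    exact (Finset.mem_filter.1 this).2
  have hcent : ∀ C ∈ T.image ConjClasses.mk,
      Nat.card (Subgroup.centralizer ({L.x * (C.out : G)} : Set G)) =
        Nat.card (Subgroup.centralizer ({C.out} : Set L.Cx)) := by
    intro C hC
    obtain ⟨i, hi⟩ := L.two_elem (houtT C hC)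
    have hvc := Grp.mem_cent.1 C.out.2
    refine Nat.card_congr
      { toFun := fun g => ⟨⟨g.1, ?_⟩, ?_⟩
        invFun := fun g => ⟨g.1.1, ?_⟩
        left_inv := fun g => rfl
        right_inv := fun g => rfl }
    · exact Grp.cent_conj.2 (L.split_two hi hi hvc hvc (Grp.cent_conj.1 g.2)).1
    · exact Grp.cent_conj.2 (Subtype.ext
        (L.split_two hi hi hvc hvc (Grp.cent_conj.1 g.2)).2)
    · refine Grp.mem_cent.2 ?_
      have e1 : (g.1 : G) * L.x = L.x * g.1 := Grp.mem_cent.1 g.1.2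
      have e2 : (g.1 : G) * (C.out : G) = (C.out : G) * g.1 :=
        congrArg Subtype.val (Grp.mem_cent.1 g.2)
      rw [← mul_assoc, e1, mul_assoc, e2, mul_assoc]
  let f : ConjClasses L.Cx ⊕ G → G := Sum.elim (fun C => L.x * (C.out : G)) id
  have h1 := h.sum_le ((T.image ConjClasses.mk).disjSum S) f (fun i hi => by
      rcases Finset.mem_disjSum.1 hi with ⟨C, hC, rfl⟩ | ⟨u, hu, rfl⟩
      · exact L.out_xv (Grp.mem_cent.1 C.out.2)
      · exact hout u hu)
    (fun i hi j hj hij e => by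
      rcases Finset.mem_disjSum.1 hi with ⟨C, hC, rfl⟩ | ⟨u, hu, rfl⟩ <;>
        rcases Finset.mem_disjSum.1 hj with ⟨C', hC', rfl⟩ | ⟨u', hu', rfl⟩
      · apply hij
        obtain ⟨g, hg⟩ := isConj_iff.1 e
        obtain ⟨i, hi⟩ := L.two_elem (houtT C hC)
        obtain ⟨i', hi'⟩ := L.two_elem (houtT C' hC')
        obtain ⟨g1, g2⟩ := L.split_two hi hi' (Grp.mem_cent.1 C.out.2) (Grp.mem_cent.1 C'.out.2) hg
        congr 1
        rw [← Quotient.out_eq C, ← Quotient.out_eq C']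
        exact ConjClasses.mk_eq_mk_iff_isConj.2
          (isConj_iff.2 ⟨⟨g, Grp.cent_conj.2 g1⟩, Subtype.ext g2⟩)
      · exact hS u' hu' _ (houtT C hC) e
      · exact hS u hu _ (houtT C' hC') e.symm
      · exact hne u hu u' hu' (fun e2 => hij (by rw [e2])) e)
  rw [Finset.sum_disjSum] at h1
  simp only [f, Sum.elim_inl, Sum.elim_inr, id] at h1
  rw [Finset.sum_congr rfl fun C hC => by rw [hcent C hC]] at h1
  rw [Grp.sum_image T hstab, hTcard] at h1
  exact h1

theorem Nx_div {k : ℕ} (hk : L.Nx = k * L.Vx) :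
    (L.Nx : ℚ) / Nat.card L.Cx = (k : ℚ) / (L.r ^ (Nat.card G).factorization L.r : ℕ) := by
  rw [hk, L.card_Cx, Nat.cast_mul, Nat.cast_mul, mul_comm (k : ℚ) _,
    mul_div_mul_left _ _ (Nat.cast_ne_zero.2 (pow_pos Nat.two_pos _).ne')]

/-- If there are fewer than `2 |V|` 2-elements in `C(x)` they form a normal subgroup. -/
theorem normal_two (hN : L.Nx < 2 * L.Vx) :
    ∃ V : Subgroup L.Cx, V.Normal ∧ Nat.card V = L.Vx ∧ ∀ v : L.Cx, v ^ L.Vx = 1 ↔ v ∈ V := by
  haveI : Fact (Nat.Prime 2) := ⟨Nat.prime_two⟩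
  obtain ⟨k, hk1, hk⟩ := L.exists_Nx
  have hk2 : k = 1 := by
    have : k * L.Vx < 2 * L.Vx := hk ▸ hN
    have := Nat.lt_of_mul_lt_mul_right this
    omega
  obtain ⟨P⟩ : Nonempty (Sylow 2 L.Cx) := inferInstance
  have hPc : Nat.card (P : Subgroup L.Cx) = L.Vx := P.card_eq_multiplicity
  have hmem : ∀ v : L.Cx, v ∈ (P : Subgroup L.Cx) → v ^ L.Vx = 1 := fun v hv => by
    rw [← hPc]
    have := pow_card_eq_one' (x := (⟨v, hv⟩ : (P : Subgroup L.Cx)))
    exact congrArg Subtype.val this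
  have hiff : ∀ v : L.Cx, v ^ L.Vx = 1 ↔ v ∈ (P : Subgroup L.Cx) := by
    intro v
    refine ⟨fun hv => ?_, hmem v⟩
    have hset : {v : L.Cx | v ∈ (P : Subgroup L.Cx)} = {v : L.Cx | v ^ L.Vx = 1} := by
      refine Set.eq_of_subset_of_ncard_le (fun w hw => hmem w hw) (le_of_eq ?_) (Set.toFinite _)
      rw [← Nat.card_coe_set_eq, ← Nat.card_coe_set_eq]
      show L.Nx = Nat.card (P : Subgroup L.Cx)
      rw [hPc, hk, hk2, one_mul]
    exact (Set.ext_iff.1 hset v).2 hv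
  exact ⟨P, ⟨fun n hn c => (hiff _).1 (by rw [conj_pow, (hiff n).2 hn, mul_one, mul_inv_cancel])⟩,
    hPc, hiff⟩

end Loc

end H22.SC
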