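import Mathlib
import Cfsg.Agent.H22.SC.TwoSum

/-!
No involution centralises a Sylow `r`-subgroup, `r` odd outside `n₁ n₂ n₃`.
-/

set_option autoImplicit false
set_option linter.unusedSectionVars false
set_option linter.style.haveILetI false

open Cfsg

namespace H22.SC

universe u

variable {G : Type u} [Group G] [Fintype G]

/-- The order of a Sylow 2-subgroup. -/
noncomputable def twoPart (G : Type u) : ℕ := 2 ^ (Nat.card G).factorization 2

namespace Loc

variable [IsSimpleGroup G] {A₁ A₂ A₃ : Subgroup G} {h : Sys A₁ A₂ A₃} (L : Loc h)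
include L

/-- The exponent of `r` in the group order. -/
noncomputable def ar : ℕ := (Nat.card G).factorization L.r

theorem exists_m : ∃ M m : ℕ, Nat.card G = h.NN * M ∧ M = twoPart G * L.r ^ L.ar * m ∧ h.NN < M ∧
    M ≤ 3 * h.NN ∧ M.Coprime h.NN ∧ ¬ 2 ∣ m ∧ ¬ L.r ∣ m := by
  obtain ⟨M, hM, h1, h2, h3⟩ := L.exists_M
  have hcop2 : (twoPart G * L.r ^ L.ar).Coprime h.NN :=
    Nat.Coprime.mul_left (Nat.Coprime.pow_left _ (Nat.coprime_two_left.2 (Nat.odd_iff.2 h.odd_NN)))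
      (L.cop_r.pow_left _)
  have hdG : twoPart G * L.r ^ L.ar ∣ Nat.card G :=
    Nat.Coprime.mul_dvd_of_dvd_of_dvd
      (Nat.Coprime.pow _ _ (Nat.coprime_two_left.2 (Nat.odd_iff.2 L.r_odd)))
      (Nat.ordProj_dvd _ _) (Nat.ordProj_dvd _ _)
  rw [hM] at hdG
  obtain ⟨m, hm⟩ := hcop2.dvd_of_dvd_mul_left hdG
  refine ⟨M, m, hM, hm, h1, h2, h3, ?_, ?_⟩
  · rintro ⟨k, rfl⟩
    apply Nat.pow_succ_factorization_not_dvd Nat.card_pos.ne' Nat.prime_two (n := Nat.card G)
    refine ⟨h.NN * (L.r ^ L.ar * k), ?_⟩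
    conv_lhs => rw [hM, hm]
    rw [twoPart, pow_succ]; ring
  · rintro ⟨k, rfl⟩
    apply Nat.pow_succ_factorization_not_dvd Nat.card_pos.ne' L.prime (n := Nat.card G)
    refine ⟨h.NN * (twoPart G * k), ?_⟩
    conv_lhs => rw [hM, hm]
    rw [show (Nat.card G).factorization L.r = L.ar from rfl, pow_succ]; ring

theorem exists_u : ∃ u : ℤ, (L.X.s : ℂ) * (L.X.θ : G → ℂ) L.t = u ∧
    u ^ 2 ≤ (Nat.card (Subgroup.centralizer ({L.t} : Set G)) : ℤ) ∧ |u| ≤ |L.X.U| ∧
    4 ∣ L.X.U - u := by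
  obtain ⟨v, hv, h4⟩ := H65.irr_involution_congr (center_ne_top L.hna) L.X.θ L.ht
  refine ⟨L.X.s * v, by rw [hv]; push_cast; ring, ?_, ?_, ?_⟩
  · have h1 := L.X.col_le L.t {L.X.θ} (fun _ => v) (fun χ hχ => by
      rw [Finset.mem_singleton.1 hχ]; exact hv)
    rw [Finset.sum_singleton] at h1
    rw [mul_pow, pow_two L.X.s, L.X.s_sq, one_mul]
    exact h1
  · have h1 := L.X.θ_le (g := L.t) (v := L.X.s * v) (by rw [hv]; push_cast; ring)
    rw [← L.X.U_natAbs] at h1
    rw [Int.abs_eq_natAbs, Int.abs_eq_natAbs]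
    exact_mod_cast h1
  · rw [Chars.U, ← mul_sub]
    exact h4.mul_left _

theorem exists_kU : ∃ k : ℤ, L.X.U * (L.X.U + 1) = k * ((Nat.card A₂ : ℤ) * Nat.card A₃) ∧
    2 ∣ k ∧ 2 ≤ k := by
  obtain ⟨k, hk, h2⟩ := L.X.exists_k
  refine ⟨k, hk, h2, ?_⟩
  have h3 := L.X.deg_three L.hna
  rw [← L.X.U_natAbs] at h3
  have hpos : 0 < L.X.U * (L.X.U + 1) := by
    rcases le_or_gt 0 L.X.U with e | e
    · have : 3 ≤ L.X.U := by omega
      positivity
    · have : L.X.U ≤ -3 := by omega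
      nlinarith
  have hn : (0 : ℤ) < (Nat.card A₂ : ℤ) * Nat.card A₃ := by
    have := h.nine₂; have := h.nine₃; positivity
  rw [hk] at hpos
  have := pos_of_mul_pos_left hpos hn.le
  omega

theorem n23 : 81 ≤ (Nat.card A₂ : ℤ) * Nat.card A₃ := by
  have h2 : (9 : ℤ) ≤ Nat.card A₂ := by exact_mod_cast h.nine₂
  have h3 : (9 : ℤ) ≤ Nat.card A₃ := by exact_mod_cast h.nine₃
  nlinarith

theorem r_not_dvd_n (A : Subgroup G) (hA : Nat.card A ∣ h.NN) : ¬ L.r ∣ Nat.card A := fun hd =>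
  L.prime.ne_one (Nat.eq_one_of_dvd_coprimes L.cop_r dvd_rfl (hd.trans hA))

theorem bound_lt_fifth : h.bound < 1 / 5 := by
  have := bound_le (h := h) (a := 5) (b := 9) (c := 9) L (by norm_num) (by norm_num) (by norm_num)
    h.n₁ h.nine₂ h.nine₃
  norm_num at this ⊢
  linarith

theorem three_facts (hr : L.r = 3) :
    13 ≤ Nat.card A₂ ∧ 13 ≤ Nat.card A₃ ∧ (h.bound < 2 / 9) ∧
      (1 / 9 ≤ h.bound → Nat.card A₁ = 5) := by
  have d1 := L.r_not_dvd_n A₁ ((dvd_mul_right _ _).trans (dvd_mul_right _ _))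
  have d2 := L.r_not_dvd_n A₂ ((dvd_mul_left _ _).trans (dvd_mul_right _ _))
  have d3 := L.r_not_dvd_n A₃ (dvd_mul_left _ _)
  rw [hr] at d1 d2 d3
  have h2 : 13 ≤ Nat.card A₂ := by have := h.mod₂; have := h.nine₂; omega
  have h3 : 13 ≤ Nat.card A₃ := by have := h.mod₃; have := h.nine₃; omega
  refine ⟨h2, h3, ?_, fun hb => ?_⟩
  · have := L.bound_lt_fifth
    linarith
  · by_contra h5
    have h7 : 7 ≤ Nat.card A₁ := by have := h.n₁; have := h.odd₁; omega
    have := bound_le (h := h) (a := 7) (b := 13) (c := 13) L (by norm_num) (by norm_num)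
      (by norm_num) h7 h2 h3
    norm_num at this hb
    linarith

set_option maxHeartbeats 800000 in
/-- No involution centraliser contains a Sylow `r`-subgroup. -/
theorem not_full :
    (Nat.card (Subgroup.centralizer ({L.t} : Set G))).factorization L.r ≠ L.ar := by
  intro hfull
  classical
  obtain ⟨M, m, hM, hm, hMN, hM3, -, hm2, hmr⟩ := L.exists_m
  obtain ⟨u, hu, hu2, huU, -⟩ := L.exists_u
  obtain ⟨k, hk, hk2, hk0⟩ := L.exists_kU
  have hC : Nat.card (Subgroup.centralizer ({L.t} : Set G)) = twoPart G * L.r ^ L.ar := by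
    have hc := L.card_cent (w := L.t) (Or.inl L.ht)
    rw [L.ct_two, hfull] at hc
    exact hc
  have hkey := L.X.key_tt L.hna L.ht hM hk hu
  rw [hC] at hkey hu2
  set c : ℤ := ((twoPart G * L.r ^ L.ar : ℕ) : ℤ) with hc
  have hc0 : 0 < c := by
    rw [hc]; exact_mod_cast Nat.mul_pos (pow_pos Nat.two_pos _) (pow_pos L.prime.pos _)
  have hMc : (M : ℤ) = c * m := by rw [hm, hc]; push_cast; ring
  rw [hMc] at hkey
  have hkey' : c * k = m * (L.X.U - u) ^ 2 :=
    mul_left_cancel₀ hc0.ne' (by linear_combination hkey)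
  set n : ℤ := (Nat.card A₂ : ℤ) * Nat.card A₃ with hn
  have hn81 := L.n23
  have hNN : (h.NN : ℤ) = (Nat.card A₁ : ℤ) * n := by rw [hn]; unfold Sys.NN; push_cast; ring
  by_cases hm1 : m = 1
  · subst hm1
    rw [Nat.cast_one, one_mul] at hkey'
    have h5 : 5 * n < c := by
      have h1 : (h.NN : ℤ) < M := by exact_mod_cast hMN
      have h2 : (5 : ℤ) ≤ Nat.card A₁ := by exact_mod_cast h.n₁
      rw [hMc, hNN, Nat.cast_one, mul_one] at h1
      nlinarith
    have h6 : 5 * (L.X.U * (L.X.U + 1)) < (L.X.U - u) ^ 2 := by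
      rw [← hkey', hk]
      have : 5 * n * k < c * k := mul_lt_mul_of_pos_right h5 (by omega)
      linarith
    have h7 : 162 ≤ L.X.U * (L.X.U + 1) := by rw [hk]; nlinarith
    have h8 : (L.X.U - u) ^ 2 ≤ 4 * L.X.U ^ 2 := by
      have : |L.X.U - u| ≤ 2 * |L.X.U| := (abs_sub _ _).trans (by linarith)
      have h9 := mul_self_le_mul_self (abs_nonneg _) this
      rw [abs_mul_abs_self] at h9
      nlinarith [sq_abs L.X.U]
    rcases le_or_gt 0 L.X.U with e | e
    · nlinarith only [h6, h8, e, sq_nonneg L.X.U]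
    · have : L.X.U ≤ -5 := by nlinarith only [h7, e]
      nlinarith only [h6, h8, this]
  haveI := Fact.mk L.prime
  obtain ⟨q, hq, hqm⟩ := Nat.exists_prime_and_dvd hm1
  haveI := Fact.mk hq
  have hqG : q ∣ Nat.card G := hqm.trans (by
    rw [hM, hm]; exact dvd_trans (dvd_mul_left m _) (dvd_mul_left _ _))
  obtain ⟨u₀, hu₀⟩ := exists_prime_orderOf_dvd_card' (G := G) q hqG
  have hq2 : q ≠ 2 := fun e => hm2 (e ▸ hqm)
  have hqr : q ≠ L.r := fun e => hmr (e ▸ hqm)
  have hMcop : M.Coprime h.NN := by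
    obtain ⟨M', hM', -, -, hcop⟩ := L.exists_M
    rwa [Nat.eq_of_mul_eq_mul_left h.NN_pos (hM.symm.trans hM')]
  have hqN : q.Coprime h.NN :=
    Nat.Coprime.coprime_dvd_left (hqm.trans (hm ▸ dvd_mul_left _ _)) hMcop
  have hu₀out : h.Out u₀ := h.out_of_coprime (by rw [hu₀]; exact hqN)
  have hr3 := L.r3
  have hq3 : 3 ≤ q := by have := hq.two_le; omega
  have hqo : q % 2 = 1 := Nat.odd_iff.1 (hq.odd_of_ne_two hq2)
  have hN0 : L.NewC u₀ := L.newC_of_order hu₀out (by omega) (by omega) (by omega) (by omega)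
    (by rw [hu₀]; omega)
  have only : ∀ w : G, L.NewC w → orderOf w ≠ q → False := fun w hw hne =>
    L.seven hN0 hw fun e => hne ((Grp.orderOf_eq_of_isConj e).symm.trans hu₀)
  -- a Sylow subgroup of the centraliser of `t`
  let Ct := Subgroup.centralizer ({L.t} : Set G)
  have hxC : L.x ∈ Ct := Grp.mem_cent.2 L.comm.symm
  have h1 : IsPGroup L.r (Subgroup.zpowers (⟨L.x, hxC⟩ : Ct)) := IsPGroup.of_card (n := 1) (by
    rw [Nat.card_zpowers, Subgroup.orderOf_mk, L.hx, pow_one])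
  obtain ⟨P, hP⟩ := h1.exists_le_sylow
  have hPc : Nat.card (P : Subgroup Ct) = L.r ^ L.ar := by
    rw [P.card_eq_multiplicity]
    exact congrArg (L.r ^ ·) hfull
  obtain ⟨S, hS⟩ := (P.2.map Ct.subtype).exists_le_sylow
  haveI hSc := L.hab_r S
  haveI : IsMulCommutative (P : Subgroup Ct) := ⟨⟨fun a b => Subtype.ext (Subtype.ext (by
    have := congrArg Subtype.val (mul_comm'
      (⟨((a : Ct) : G), hS ⟨_, a.2, rfl⟩⟩ : (S : Subgroup G))
      (⟨((b : Ct) : G), hS ⟨_, b.2, rfl⟩⟩ : (S : Subgroup G)))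
    simpa using this))⟩⟩
  set N := Subgroup.normalizer ((P : Subgroup Ct) : Set Ct) with hN
  set x' : Ct := ⟨L.x, hxC⟩ with hx'
  have hxP : x' ∈ (P : Subgroup Ct) := hP (Subgroup.mem_zpowers _)
  have hconj : ∀ w ∈ (P : Subgroup Ct), w ≠ 1 → ∃ n ∈ N, n * x' * n⁻¹ = w := by
    intro w hw hw1
    obtain ⟨j, -, hj⟩ := (Nat.dvd_prime_pow L.prime).1
      ((Subgroup.orderOf_mk w hw ▸ orderOf_dvd_natCard (⟨w, hw⟩ : (P : Subgroup Ct))).trans
        (dvd_of_eq hPc))
    have hjo : orderOf (w : G) = L.r ^ j := by rw [Subgroup.orderOf_coe, hj]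
    have hc : L.t * (w : G) = (w : G) * L.t := (Grp.mem_cent.1 w.2).symm
    have hj1 := L.order_le hjo L.ht hc
    have hwo : orderOf (w : G) = L.r := by
      rcases Nat.eq_zero_or_pos j with e | e
      · refine absurd ?_ hw1
        rw [e, pow_zero, orderOf_eq_one_iff] at hjo
        exact Subtype.ext hjo
      · rw [hjo, show j = 1 by omega, pow_one]
    obtain ⟨g, hg1, hg2⟩ : ∃ g : G, g * L.x * g⁻¹ = (w : G) ∧ g * L.t * g⁻¹ = L.t := by
      by_contra hcon
      push Not at hcon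
      refine only _ (L.mul_inv_new hwo L.ht hc hcon) ?_
      rw [(show Commute (w : G) L.t from hc.symm).orderOf_mul_eq_mul_orderOf_of_coprime, hwo, L.ht]
      · omega
      · rw [hwo, L.ht]; exact Nat.coprime_two_right.2 (Nat.odd_iff.2 L.r_odd)
    set g' : Ct := ⟨g, Grp.cent_conj.2 hg2⟩ with hg'
    obtain ⟨n, hn, hne⟩ := P.conj_eq_normalizer_conj_of_mem x' g'⁻¹ hxP (by
      rw [inv_inv, show g' * x' * g'⁻¹ = w from Subtype.ext hg1]; exact hw)
    refine ⟨n⁻¹, inv_mem hn, ?_⟩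
    rw [inv_inv, ← hne, inv_inv]
    exact Subtype.ext hg1
  have horb := Grp.card_conjBy N x'
  have ho : Nat.card {w : Ct // ∃ k ∈ N, k * x' * k⁻¹ = w} + 1 = L.r ^ L.ar := by
    rw [← hPc, Nat.card_eq_fintype_card, Nat.card_eq_fintype_card, Fintype.card_subtype,
      Fintype.card_subtype]
    have : (Finset.univ.filter fun w => ∃ k ∈ N, k * x' * k⁻¹ = w) =
        (Finset.univ.filter fun w => w ∈ (P : Subgroup Ct)).erase 1 := by
      ext w
      simp only [Finset.mem_filter, Finset.mem_univ, true_and, Finset.mem_erase]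
      constructor
      · rintro ⟨n, hn, rfl⟩
        refine ⟨fun e => L.x_ne ?_, (Subgroup.mem_normalizer_iff.1 hn x').1 hxP⟩
        have := conj_eq_one_iff.1 e
        exact congrArg Subtype.val this
      · exact fun hw => hconj w hw.2 hw.1
    rw [this, Finset.card_erase_add_one (by simp)]
  have hstab : L.r ^ L.ar ∣ Nat.card (N ⊓ Subgroup.centralizer ({x'} : Set Ct) : Subgroup Ct) := by
    rw [← hPc]
    refine Subgroup.card_dvd_of_le (le_inf Subgroup.le_normalizer fun s hs => Grp.mem_cent.2 ?_)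
    exact congrArg Subtype.val (mul_comm' (⟨s, hs⟩ : (P : Subgroup Ct)) ⟨x', hxP⟩)
  have hNdvd : Nat.card N ∣ twoPart G * L.r ^ L.ar := by
    rw [← hC]; exact Subgroup.card_subgroup_dvd_card _
  have horbd : Nat.card {w : Ct // ∃ k ∈ N, k * x' * k⁻¹ = w} ∣ twoPart G := by
    have h2 := (mul_dvd_mul_left _ hstab).trans (dvd_of_eq horb) |>.trans hNdvd
    exact Nat.dvd_of_mul_dvd_mul_right (pow_pos L.prime.pos _) h2
  obtain ⟨j, -, hj⟩ := (Nat.dvd_prime_pow Nat.prime_two).1 horbd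
  rw [hj] at ho
  have har : 1 ≤ L.ar := by
    by_contra hc2
    rw [show L.ar = 0 by omega, pow_zero] at ho
    have := Nat.one_le_two_pow (n := j)
    omega
  have hR : L.r ^ L.ar = 3 ∨ L.r ^ L.ar = 5 ∨ L.r ^ L.ar = 9 := by
    rcases Nat.lt_or_ge L.ar 2 with ha | ha
    · have ha1 : L.ar = 1 := by omega
      rw [ha1, pow_one] at ho ⊢
      obtain ⟨g, hg, hgd⟩ := Grp.exists_orderOf_dvd N L.prime
        (x := x') (by rw [hx', Subgroup.orderOf_mk, L.hx]) fun i hi => by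
          refine hconj _ (pow_mem hxP i) fun e => hi ?_
          rw [← L.hx, ← Subgroup.orderOf_mk L.x hxC]
          exact orderOf_dvd_of_pow_eq_one e
      have hj2 : j ≤ 2 := by
        by_contra hc2
        have h8 : 8 ∣ orderOf (g : G) := by
          rw [Subgroup.orderOf_coe]
          refine (dvd_trans ?_ hgd)
          rw [show L.r - 1 = 2 ^ j by omega]
          exact pow_dvd_pow 2 (show 3 ≤ j by omega)
        have hro := L.r_odd
        have h9 : orderOf ((g : G) ^ (orderOf (g : G) / 8)) = 8 :=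
          orderOf_pow_orderOf_div (orderOf_pos _).ne' h8
        refine only _ (L.newC_of_order (h.out_of_two ⟨3, by rw [h9]; rfl⟩) (by omega) (by omega)
          (by omega) (by omega) (by rw [h9]; omega)) (by rw [h9]; omega)
      interval_cases j <;> omega
    · exact Or.inr (Or.inr (pow_two_succ L.r_odd hr3 ha ho.symm))
  obtain ⟨kk, hkk1, hkk⟩ := L.exists_Nx
  have hT := L.T_bound {u₀} (fun w hw => by rw [Finset.mem_singleton.1 hw]; exact hu₀out)
    (fun w hw w' hw' hne => absurd ((Finset.mem_singleton.1 hw).trans (Finset.mem_singleton.1 hw').symm) hne)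
    (fun w hw v hv e => by
      rw [Finset.mem_singleton.1 hw] at e
      obtain ⟨i, hi⟩ := L.two_elem hv
      have h1 := (Grp.orderOf_eq_of_isConj e).trans hu₀
      rw [(show Commute L.x (v : G) from (Grp.mem_cent.1 v.2).symm).orderOf_mul_eq_mul_orderOf_of_coprime,
        L.hx, hi] at h1
      · exact hqr ((Nat.prime_dvd_prime_iff_eq L.prime hq).1 (h1 ▸ dvd_mul_right _ _)).symm
      · rw [L.hx, hi]
        exact Nat.Coprime.pow_right i (Nat.coprime_two_right.2 (Nat.odd_iff.2 L.r_odd)))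
  rw [L.Nx_div hkk, Finset.sum_singleton] at hT
  have hT' : (1 : ℚ) / (L.r ^ L.ar : ℕ) ≤ h.bound := by
    refine le_trans ?_ hT
    have h0 : (0 : ℚ) ≤ 1 / (Nat.card (Subgroup.centralizer ({u₀} : Set G)) : ℚ) := by positivity
    have : (1 : ℚ) / (L.r ^ L.ar : ℕ) ≤ (kk : ℚ) / (L.r ^ L.ar : ℕ) := by
      gcongr; exact_mod_cast hkk1
    exact le_add_of_le_of_nonneg this h0
  have hlt := L.bound_lt_fifth
  rcases hR with e | e | e <;> rw [e] at hT'
  · norm_num at hT' hlt; linarith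
  · norm_num at hT' hlt; linarith
  have hr : L.r = 3 := by
    have h1 : L.r ∣ 3 ^ 2 := (dvd_pow_self L.r (by omega : L.ar ≠ 0)).trans (dvd_of_eq e)
    exact (Nat.prime_dvd_prime_iff_eq L.prime Nat.prime_three).1 (L.prime.dvd_of_dvd_pow h1)
  obtain ⟨h13, h13', -, h5⟩ := L.three_facts hr
  have hn1 := h5 (by exact_mod_cast hT')
  have hm7 : 7 ≤ m := by
    have h3 : ¬ 3 ∣ m := hr ▸ hmr
    have h5' : ¬ 5 ∣ m := fun hd => by
      have h1 : (5 : ℕ).Coprime h.NN :=
        Nat.Coprime.coprime_dvd_left (hd.trans (hm ▸ dvd_mul_left _ _)) hMcop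
      have := Nat.eq_one_of_dvd_coprimes h1 dvd_rfl
        (show 5 ∣ h.NN from hn1 ▸ (dvd_mul_right _ _).trans (dvd_mul_right _ _))
      omega
    by_contra hc2
    have hmlt : m < 7 := by omega
    revert hm1 hm2 h3 h5'
    clear * - hmlt
    interval_cases m <;> decide
  have hmk : (m : ℤ) ∣ k := by
    have hd : (m : ℤ) ∣ c * k := ⟨_, hkey'⟩
    refine Int.dvd_of_dvd_mul_right_of_gcd_one hd ?_
    rw [hc, Int.gcd_natCast_natCast]
    exact Nat.Coprime.mul_right (Nat.Coprime.pow_right _ (Nat.coprime_two_right.2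
        (Nat.odd_iff.2 (by omega)))) (Nat.Coprime.pow_right _
        ((L.prime.coprime_iff_not_dvd.2 hmr).symm))
  have h2m : 2 * (m : ℤ) ≤ k := by
    obtain ⟨j', hj'⟩ := hmk
    have hmodd : ¬ (2 : ℤ) ∣ m := by exact_mod_cast hm2
    have hj2 : (2 : ℤ) ∣ j' := (Int.Prime.dvd_mul' Nat.prime_two (hj' ▸ hk2)).resolve_left hmodd
    have hj0 : 0 < j' := pos_of_mul_pos_right (hj' ▸ (show (0 : ℤ) < k by omega))
      (Int.natCast_nonneg m)
    have h2j : (2 : ℤ) ≤ j' := Int.le_of_dvd hj0 hj2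
    rw [hj', mul_comm (2 : ℤ)]
    exact mul_le_mul_of_nonneg_left h2j (Int.natCast_nonneg m)
  have hcm : c * m ≤ 15 * n := by
    rw [← hMc]
    have h1 : (M : ℤ) ≤ 3 * h.NN := by exact_mod_cast hM3
    rw [hNN, hn1] at h1
    push_cast at h1
    linarith
  refine no_extra (U := L.X.U) (u := u) (n := n) (k := k) (c := c) (m := (m : ℤ))
    (by exact_mod_cast hm7) ?_ h2m hk hkey'.symm hcm ?_
  · have a2 : (13 : ℤ) ≤ Nat.card A₂ := by exact_mod_cast h13
    have a3 : (13 : ℤ) ≤ Nat.card A₃ := by exact_mod_cast h13'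
    rw [hn]; nlinarith
  · have : (m : ℤ) * u ^ 2 ≤ (m : ℤ) * c := mul_le_mul_of_nonneg_left hu2 (Int.natCast_nonneg m)
    linarith

end Loc

end H22.SC
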