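import Mathlib
import Cfsg.Agent.H22.SC.Split
import Cfsg.Agent.H65.BaerSuzuki
import Cfsg.Agent.H1.Cores

/-!
The automiser of a Sylow `r`-subgroup through `x`.
-/

set_option autoImplicit false
set_option linter.unusedSectionVars false
set_option linter.style.haveILetI false

open Cfsg
open scoped Pointwise

namespace H22.SC

universe u

variable {G : Type u} [Group G] [Fintype G]

/-- A Sylow `r`-subgroup `R` through `x` with a complement `K` in its normaliser. -/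
structure Fus [IsSimpleGroup G] {A₁ A₂ A₃ : Subgroup G} {h : Sys A₁ A₂ A₃} (L : Loc h) where
  R : Sylow L.r G
  K : Subgroup G
  xR : L.x ∈ (R : Subgroup G)
  Rle : (R : Subgroup G) ≤ L.Cx
  nrm : ∀ k ∈ K, k ∈ Subgroup.normalizer ((R : Subgroup G) : Set G)
  disj : ∀ k ∈ K, k ∈ (R : Subgroup G) → k = 1
  cop : (Nat.card K).Coprime L.r
  fac : ∀ n ∈ Subgroup.normalizer ((R : Subgroup G) : Set G), ∃ k ∈ K, k⁻¹ * n ∈ (R : Subgroup G)

namespace Loc

variable [IsSimpleGroup G] {A₁ A₂ A₃ : Subgroup G} {h : Sys A₁ A₂ A₃} (L : Loc h)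
include L

theorem exists_fus : Nonempty (Fus L) := by
  haveI := Fact.mk L.prime
  obtain ⟨R, hx, hR⟩ := L.exists_sylow_x
  set N := Subgroup.normalizer ((R : Subgroup G) : Set G) with hN
  set R' := (R : Subgroup G).subgroupOf N with hR'
  have hle : (R : Subgroup G) ≤ N := Subgroup.le_normalizer
  have hidx : ¬ L.r ∣ R'.index := fun hd => R.not_dvd_index
    (hd.trans (Subgroup.relIndex_dvd_index_of_le hle))
  have hc : Nat.card R' = L.r ^ (Nat.card G).factorization L.r := by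
    rw [Nat.card_congr (Subgroup.subgroupOfEquivOfLe hle).toEquiv, R.card_eq_multiplicity]
  haveI : R'.Normal := Subgroup.normal_subgroupOf_iff_le_normalizer hle |>.2 le_rfl
  obtain ⟨H, hH⟩ := Subgroup.exists_right_complement'_of_coprime (N := R')
    (by rw [hc]; exact ((L.prime.coprime_iff_not_dvd.2 hidx)).pow_left _)
  refine ⟨⟨R, H.map N.subtype, hx, hR, ?_, ?_, ?_, ?_⟩⟩
  · rintro k ⟨k', -, rfl⟩
    exact k'.2
  · rintro k ⟨k', hk', rfl⟩ hk
    have : k' ∈ R' ⊓ H := ⟨hk, hk'⟩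
    rw [hH.disjoint.eq_bot, Subgroup.mem_bot] at this
    rw [this, map_one]
  · rw [Subgroup.card_map_of_injective N.subtype_injective]
    refine Nat.Coprime.coprime_dvd_left ?_ (L.prime.coprime_iff_not_dvd.2 hidx).symm
    rw [hH.symm.index_eq_card]
  · intro n hn
    have h1 : (⟨n, hn⟩ : N) ∈ (H : Set N) * (R' : Set N) := by
      rw [hH.symm.mul_eq]; trivial
    obtain ⟨k, hk, ρ, hρ, he⟩ := h1
    refine ⟨k, ⟨k, hk, rfl⟩, ?_⟩
    rw [show n = (k : G) * (ρ : G) from congrArg Subtype.val he.symm, inv_mul_cancel_left]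
    exact hρ

end Loc

namespace Fus

variable [IsSimpleGroup G] {A₁ A₂ A₃ : Subgroup G} {h : Sys A₁ A₂ A₃} {L : Loc h} (F : Fus L)
include F

theorem comm {a b : G} (ha : a ∈ (F.R : Subgroup G)) (hb : b ∈ (F.R : Subgroup G)) :
    a * b = b * a := by
  haveI := L.hab_r F.R
  exact congrArg Subtype.val (mul_comm' (⟨a, ha⟩ : (F.R : Subgroup G)) ⟨b, hb⟩)

theorem card_R : Nat.card (F.R : Subgroup G) = L.r ^ L.ar := by
  haveI := Fact.mk L.prime
  exact F.R.card_eq_multiplicity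

theorem order_R {w : G} (hw : w ∈ (F.R : Subgroup G)) (hw1 : w ≠ 1) :
    ∃ j, 1 ≤ j ∧ orderOf w = L.r ^ j := by
  obtain ⟨j, -, hj⟩ := (Nat.dvd_prime_pow L.prime).1
    ((Subgroup.orderOf_mk w hw ▸ orderOf_dvd_natCard (⟨w, hw⟩ : (F.R : Subgroup G))).trans
      (dvd_of_eq F.card_R))
  refine ⟨j, ?_, hj⟩
  by_contra hj0
  rw [show j = 0 by omega, pow_zero, orderOf_eq_one_iff] at hj
  exact hw1 hj

theorem conj_R {k : G} (hk : k ∈ F.K) {w : G} (hw : w ∈ (F.R : Subgroup G)) :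
    k * w * k⁻¹ ∈ (F.R : Subgroup G) :=
  (Subgroup.mem_normalizer_iff.1 (F.nrm k hk) w).1 hw

theorem ct_lt : (Nat.card (Subgroup.centralizer ({L.t} : Set G))).factorization L.r < L.ar :=
  lt_of_le_of_ne ((Nat.factorization_le_iff_dvd Nat.card_pos.ne' Nat.card_pos.ne').2
    (Subgroup.card_subgroup_dvd_card _) L.r) L.not_full

theorem two_le_ar : 2 ≤ L.ar := by
  have h1 : 1 ≤ (Nat.card (Subgroup.centralizer ({L.t} : Set G))).factorization L.r := by
    refine (L.prime.pow_dvd_iff_le_factorization Nat.card_pos.ne').1 ?_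
    rw [pow_one, ← L.hx, ← Subgroup.orderOf_mk L.x (Grp.mem_cent.2 L.comm.symm)]
    exact orderOf_dvd_natCard _
  have := F.ct_lt
  omega

theorem no_inv {s : G} (hs : orderOf s = 2)
    (hc : ∀ w ∈ (F.R : Subgroup G), s * w = w * s) : False := by
  have hd : L.r ^ L.ar ∣ Nat.card (Subgroup.centralizer ({L.t} : Set G)) := by
    rw [L.card_cent_eq_of_isConj (L.X.inv_conj L.hna L.ht hs), ← F.card_R]
    exact Subgroup.card_dvd_of_le fun w hw => Grp.mem_cent.2 (hc w hw).symm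
  have := (L.prime.pow_dvd_iff_le_factorization Nat.card_pos.ne').1 hd
  have := F.ct_lt
  omega

/-- `R` is self-centralising. -/
theorem self_cent {g : G} (hg : ∀ w ∈ (F.R : Subgroup G), g * w = w * g) :
    g ∈ (F.R : Subgroup G) := by
  haveI := Fact.mk L.prime
  set C := Subgroup.centralizer ((F.R : Subgroup G) : Set G) with hC
  have hgC : g ∈ C := Subgroup.mem_centralizer_iff.2 fun w hw => (hg w hw).symm
  have hle : (F.R : Subgroup G) ≤ C := fun a ha =>
    Subgroup.mem_centralizer_iff.2 fun b hb => F.comm hb ha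
  have hle2 : C ≤ L.Cx := fun a ha =>
    Grp.mem_cent.2 (Subgroup.mem_centralizer_iff.1 ha L.x F.xR).symm
  have h2 : ¬ 2 ∣ Nat.card C := by
    intro h2
    haveI : Fact (Nat.Prime 2) := ⟨Nat.prime_two⟩
    obtain ⟨s, hs⟩ := exists_prime_orderOf_dvd_card' 2 h2
    exact F.no_inv (s := (s : G)) (by rw [Subgroup.orderOf_coe, hs]) fun w hw =>
      (Subgroup.mem_centralizer_iff.1 s.2 w hw).symm
  have hcard : Nat.card C ∣ L.r ^ L.ar := by
    have h3 := Subgroup.card_dvd_of_le hle2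
    rw [L.card_Cx] at h3
    refine Nat.Coprime.dvd_of_dvd_mul_left ?_ h3
    exact Nat.Coprime.pow_right _ (Nat.coprime_two_right.2
      (Nat.odd_iff.2 (Nat.two_dvd_ne_zero.1 h2)))
  have he := Subgroup.eq_of_le_of_card_ge hle (by
    rw [F.card_R]; exact Nat.le_of_dvd (pow_pos L.prime.pos _) hcard)
  rw [he]; exact hgC

theorem eq_one_of_comm {k : G} (hk : k ∈ F.K)
    (hc : ∀ w ∈ (F.R : Subgroup G), k * w * k⁻¹ = w) : k = 1 :=
  F.disj k hk (F.self_cent fun w hw => mul_inv_eq_iff_eq_mul.1 (hc w hw))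

/-- An element of odd order of `K` fixes no nontrivial element of `R`. -/
theorem fpf {k w : G} (hk : k ∈ F.K) (ho : Odd (orderOf k)) (hw : w ∈ (F.R : Subgroup G))
    (hw1 : w ≠ 1) (hc : k * w * k⁻¹ = w) : k = 1 := by
  rw [← orderOf_eq_one_iff]
  by_contra hne
  obtain ⟨q, hq, hqd⟩ := Nat.exists_prime_and_dvd hne
  have hd : q ∣ Nat.card (Subgroup.centralizer ({w} : Set G)) := by
    refine hqd.trans ?_
    rw [← Subgroup.orderOf_mk k (Grp.cent_conj.2 hc)]
    exact orderOf_dvd_natCard _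
  rcases L.cent_primes (Or.inr (F.order_R hw hw1)) hq hd with rfl | rfl
  · exact Nat.not_even_iff_odd.2 ho (even_iff_two_dvd.2 hqd)
  · refine L.prime.ne_one (Nat.eq_one_of_dvd_coprimes F.cop ?_ dvd_rfl)
    exact hqd.trans (Subgroup.orderOf_mk k hk ▸ orderOf_dvd_natCard (⟨k, hk⟩ : F.K))

/-- Conjugate elements of `R` are conjugate under `K`. -/
theorem fusion {w w' : G} (hw : w ∈ (F.R : Subgroup G)) (hw' : w' ∈ (F.R : Subgroup G))
    (hc : IsConj w w') : ∃ k ∈ F.K, k * w * k⁻¹ = w' := by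
  haveI := Fact.mk L.prime
  haveI := L.hab_r F.R
  obtain ⟨g, hg⟩ := isConj_iff.1 hc
  obtain ⟨n, hn, hne⟩ := F.R.conj_eq_normalizer_conj_of_mem w g⁻¹ hw
    (by rw [inv_inv, hg]; exact hw')
  rw [inv_inv, hg] at hne
  obtain ⟨k, hk, hρ⟩ := F.fac n⁻¹ (inv_mem hn)
  refine ⟨k, hk, ?_⟩
  rw [hne]
  have e : (k⁻¹ * n⁻¹) * w * (k⁻¹ * n⁻¹)⁻¹ = w := by
    rw [F.comm hρ hw, mul_inv_cancel_right]
  calc k * w * k⁻¹ = k * ((k⁻¹ * n⁻¹) * w * (k⁻¹ * n⁻¹)⁻¹) * k⁻¹ := by rw [e]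
    _ = n⁻¹ * w * n := by group

theorem fix_le {w : G} (hw : w ∈ (F.R : Subgroup G)) (hw1 : w ≠ 1) (hn : ¬ IsConj L.x w)
    {g : G} (hg : g * w * g⁻¹ = w) : g ∈ (F.R : Subgroup G) := by
  haveI := Fact.mk L.prime
  set C := Subgroup.centralizer ({w} : Set G) with hC
  have hle : (F.R : Subgroup G) ≤ C := fun a ha => Grp.mem_cent.2 (F.comm ha hw)
  obtain ⟨j, hj1, hj⟩ := F.order_R hw hw1
  have h2 : ¬ 2 ∣ Nat.card C := by
    intro h2
    haveI : Fact (Nat.Prime 2) := ⟨Nat.prime_two⟩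
    obtain ⟨s, hs⟩ := exists_prime_orderOf_dvd_card' 2 h2
    have hso : orderOf (s : G) = 2 := by rw [Subgroup.orderOf_coe, hs]
    have hsc : (s : G) * w = w * s := Grp.mem_cent.1 s.2
    have := L.order_le hj hso hsc
    exact hn (L.conj_x (by rw [hj, show j = 1 by omega, pow_one]) hso hsc)
  have hc := L.card_cent (Or.inr ⟨j, hj1, hj⟩)
  rw [← hC, Nat.factorization_eq_zero_of_not_dvd h2, pow_zero, one_mul] at hc
  have he := Subgroup.eq_of_le_of_card_ge hle (by
    rw [F.card_R, hc]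
    exact Nat.pow_le_pow_right L.prime.pos
      ((Nat.factorization_le_iff_dvd Nat.card_pos.ne' Nat.card_pos.ne').2
        (Subgroup.card_subgroup_dvd_card _) L.r))
  rw [he]; exact Grp.cent_conj.2 hg

theorem new_of_not_conj {w : G} (hw : w ∈ (F.R : Subgroup G)) (hw1 : w ≠ 1)
    (hn : ¬ IsConj L.x w) : L.NewC w := by
  obtain ⟨j, hj1, hj⟩ := F.order_R hw hw1
  have h3 : 3 ≤ L.r ^ j := L.r3.trans (Nat.le_self_pow (by omega) _)
  have ho : L.r ^ j % 2 = 1 := by rw [Nat.pow_mod, L.r_odd, one_pow]; rfl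
  refine ⟨L.out_of_dvd (i := 0) (j := j) (by simp [hj]), by omega, by omega, fun e => ?_, hn,
    fun e => ?_⟩
  · have := (Grp.orderOf_eq_of_isConj e).symm.trans L.ht; omega
  · have := (Grp.orderOf_eq_of_isConj e).symm.trans L.xt_order; omega

theorem two_orbits {w w' : G} (hw : w ∈ (F.R : Subgroup G)) (hw1 : w ≠ 1)
    (hn : ¬ IsConj L.x w) (hw' : w' ∈ (F.R : Subgroup G)) (hw1' : w' ≠ 1)
    (hn' : ¬ IsConj L.x w') : IsConj w w' := by
  by_contra hne
  exact L.seven (F.new_of_not_conj hw hw1 hn) (F.new_of_not_conj hw' hw1' hn') hne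

/-- The stabiliser of `x` in `K`. -/
noncomputable def S : Subgroup G := F.K ⊓ Subgroup.centralizer ({L.x} : Set G)

open scoped Classical in
/-- The orbit of `x` in `R`. -/
noncomputable def O : Finset G :=
  Finset.univ.filter fun w => w ∈ (F.R : Subgroup G) ∧ IsConj L.x w

theorem card_O : F.O.card * Nat.card F.S = Nat.card F.K := by
  classical
  rw [← Grp.card_conjBy F.K L.x]
  congr 1
  rw [Nat.card_eq_fintype_card, Fintype.card_subtype]
  congr 1
  ext w
  simp only [O, Finset.mem_filter, Finset.mem_univ, true_and]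
  constructor
  · exact fun hw => F.fusion F.xR hw.1 hw.2
  · rintro ⟨k, hk, rfl⟩
    exact ⟨F.conj_R hk F.xR, isConj_iff.2 ⟨k, rfl⟩⟩

theorem card_eq : ∃ ε : ℕ, Nat.card (F.R : Subgroup G) = 1 + F.O.card + ε * Nat.card F.K ∧
    (ε = 0 ∧ (∀ w ∈ (F.R : Subgroup G), w ≠ 1 → IsConj L.x w) ∨
      ε = 1 ∧ ∃ w ∈ (F.R : Subgroup G), w ≠ 1 ∧ ¬ IsConj L.x w) := by
  classical
  set T := Finset.univ.filter fun w => w ∈ (F.R : Subgroup G) ∧ w ≠ 1 ∧ ¬ IsConj L.x w with hT
  have hsum : Nat.card (F.R : Subgroup G) = 1 + F.O.card + T.card := by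
    rw [Nat.card_eq_fintype_card, Fintype.card_subtype]
    have h1 : (Finset.univ.filter fun w => w ∈ (F.R : Subgroup G)) = insert 1 (F.O ∪ T) := by
      ext w
      simp only [O, hT, Finset.mem_filter, Finset.mem_univ, true_and, Finset.mem_insert,
        Finset.mem_union]
      constructor
      · intro hw
        by_cases h1 : w = 1
        · exact Or.inl h1
        · by_cases h2 : IsConj L.x w
          · exact Or.inr (Or.inl ⟨hw, h2⟩)
          · exact Or.inr (Or.inr ⟨hw, h1, h2⟩)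
      · rintro (rfl | ⟨hw, -⟩ | ⟨hw, -, -⟩)
        · exact one_mem _
        · exact hw
        · exact hw
    rw [h1, Finset.card_insert_of_notMem, Finset.card_union_of_disjoint]
    · omega
    · rw [Finset.disjoint_left]
      intro w hw hw'
      simp only [O, hT, Finset.mem_filter] at hw hw'
      exact hw'.2.2.2 hw.2.2
    · simp only [O, hT, Finset.mem_union, Finset.mem_filter, Finset.mem_univ, true_and, not_or,
        not_and]
      exact ⟨fun _ e => (isConj_iff.1 e).elim fun g hg => L.x_ne (conj_eq_one_iff.1 hg),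
        fun _ e => absurd rfl e⟩
  rcases T.eq_empty_or_nonempty with he | ⟨w₀, hw₀⟩
  · refine ⟨0, by rw [hsum, he]; simp, Or.inl ⟨rfl, fun w hw hw1 => ?_⟩⟩
    by_contra hc
    have : w ∈ T := Finset.mem_filter.2 ⟨Finset.mem_univ _, hw, hw1, hc⟩
    simp [he] at this
  · simp only [hT, Finset.mem_filter, Finset.mem_univ, true_and] at hw₀
    refine ⟨1, ?_, Or.inr ⟨rfl, w₀, hw₀⟩⟩
    have hcard := Grp.card_conjBy F.K w₀
    have hstab : Nat.card (F.K ⊓ Subgroup.centralizer ({w₀} : Set G) : Subgroup G) = 1 := by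
      rw [Subgroup.card_eq_one, Subgroup.eq_bot_iff_forall]
      exact fun k hk => F.disj k hk.1 (F.fix_le hw₀.1 hw₀.2.1 hw₀.2.2 (Grp.cent_conj.1 hk.2))
    rw [hstab, mul_one, Nat.card_eq_fintype_card, Fintype.card_subtype] at hcard
    rw [hsum, one_mul, ← hcard]
    congr 2
    ext w
    simp only [hT, Finset.mem_filter, Finset.mem_univ, true_and]
    constructor
    · exact fun hw => F.fusion hw₀.1 hw.1
        (F.two_orbits hw₀.1 hw₀.2.1 hw₀.2.2 hw.1 hw.2.1 hw.2.2)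
    · rintro ⟨k, hk, rfl⟩
      refine ⟨F.conj_R hk hw₀.1, fun e => hw₀.2.1 (conj_eq_one_iff.1 e), fun e => hw₀.2.2 ?_⟩
      exact e.trans (isConj_iff.2 ⟨k⁻¹, by group⟩)

theorem S_two : ∃ i, Nat.card F.S = 2 ^ i := by
  have hd : Nat.card F.S ∣ L.Vx * L.r ^ L.ar :=
    (Subgroup.card_dvd_of_le (show F.S ≤ L.Cx from inf_le_right)).trans (dvd_of_eq L.card_Cx)
  have hc : (Nat.card F.S).Coprime (L.r ^ L.ar) :=
    (Nat.Coprime.coprime_dvd_left (Subgroup.card_dvd_of_le inf_le_left) F.cop).pow_right _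
  obtain ⟨i, -, hi⟩ := (Nat.dvd_prime_pow Nat.prime_two).1 (hc.dvd_of_dvd_mul_right hd)
  exact ⟨i, hi⟩

theorem even_K : 2 ∣ Nat.card F.K := by
  have hx2 : IsConj L.x L.x⁻¹ := L.conj_x (w := L.x⁻¹) (by rw [orderOf_inv, L.hx]) L.ht
    ((show Commute L.t L.x from L.comm).inv_right).eq
  obtain ⟨k, hk, hkx⟩ := F.fusion F.xR (inv_mem F.xR) hx2
  by_contra hodd
  have hd : orderOf k ∣ Nat.card F.K :=
    Subgroup.orderOf_mk k hk ▸ orderOf_dvd_natCard (⟨k, hk⟩ : F.K)
  obtain ⟨m, hm⟩ : Odd (orderOf k) := by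
    rw [Nat.odd_iff]
    rcases Nat.mod_two_eq_zero_or_one (orderOf k) with e | e
    · exact absurd ((Nat.dvd_of_mod_eq_zero e).trans hd) hodd
    · exact e
  have h2 : ∀ i : ℕ, k ^ (2 * i) * L.x * (k ^ (2 * i))⁻¹ = L.x := by
    intro i
    induction i with
    | zero => simp
    | succ i ih =>
      calc k ^ (2 * (i + 1)) * L.x * (k ^ (2 * (i + 1)))⁻¹
          = k * (k * (k ^ (2 * i) * L.x * (k ^ (2 * i))⁻¹) * k⁻¹) * k⁻¹ := by
            rw [mul_add, mul_one, add_comm, pow_add, pow_two]; group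
        _ = (k * L.x * k⁻¹)⁻¹ := by rw [ih]; conv_lhs => rw [hkx]
                                    group
        _ = L.x := by rw [hkx, inv_inv]
  have h3 : L.x⁻¹ = L.x := by
    calc L.x⁻¹ = k * L.x * k⁻¹ := hkx.symm
      _ = k * (k ^ (2 * m) * L.x * (k ^ (2 * m))⁻¹) * k⁻¹ := by rw [h2]
      _ = k ^ orderOf k * L.x * (k ^ orderOf k)⁻¹ := by
        rw [hm, add_comm, pow_add, pow_one]; group
      _ = L.x := by rw [pow_orderOf_eq_one]; group
  have h4 : orderOf L.x ∣ 2 := orderOf_dvd_of_pow_eq_one (by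
    rw [pow_two]
    nth_rw 1 [← h3]
    exact inv_mul_cancel _)
  rw [L.hx] at h4
  exact L.r_ne ((Nat.prime_dvd_prime_iff_eq L.prime Nat.prime_two).1 h4)

theorem primes_K_of_central {s : G} (hs : orderOf s = 2)
    (hc : ∀ k ∈ F.K, k * s = s * k) : ∃ i, Nat.card F.K = 2 ^ i := by
  have hd : Nat.card F.K ∣ Nat.card (Subgroup.centralizer ({s} : Set G)) :=
    Subgroup.card_dvd_of_le fun k hk => Grp.mem_cent.2 (hc k hk)
  rw [L.card_cent (Or.inl hs)] at hd
  obtain ⟨i, -, hi⟩ := (Nat.dvd_prime_pow Nat.prime_two).1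
    ((F.cop.pow_right _).dvd_of_dvd_mul_right hd)
  exact ⟨i, hi⟩

theorem central_of_inverts {s : G} (hs : s ∈ F.K)
    (hi : ∀ w ∈ (F.R : Subgroup G), s * w * s⁻¹ = w⁻¹) : ∀ k ∈ F.K, k * s = s * k := by
  intro k hk
  have h1 : k * s * k⁻¹ * s⁻¹ = 1 := by
    refine F.eq_one_of_comm (mul_mem (mul_mem (mul_mem hk hs) (inv_mem hk)) (inv_mem hs)) ?_
    intro w hw
    have a1 : s⁻¹ * w * s = w⁻¹ := by
      have h2 := hi _ (inv_mem hw)
      rw [inv_inv] at h2
      conv_lhs => rw [← h2]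
      group
    have a2 : k⁻¹ * w⁻¹ * k ∈ (F.R : Subgroup G) := by
      simpa using F.conj_R (inv_mem hk) (inv_mem hw)
    calc k * s * k⁻¹ * s⁻¹ * w * (k * s * k⁻¹ * s⁻¹)⁻¹
        = k * (s * (k⁻¹ * (s⁻¹ * w * s) * k) * s⁻¹) * k⁻¹ := by group
      _ = k * (s * (k⁻¹ * w⁻¹ * k) * s⁻¹) * k⁻¹ := by rw [a1]
      _ = k * (k⁻¹ * w⁻¹ * k)⁻¹ * k⁻¹ := by rw [hi _ a2]
      _ = w := by group
  rw [mul_inv_eq_one, mul_inv_eq_iff_eq_mul] at h1
  exact h1

/-- If some involution of `K` fixes no element of the orbit of `x`, and `x` has trivial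
stabiliser, `K` is a 2-group. -/
theorem two_group_of_S_one (hS : Nat.card F.S = 1) : ∃ i, Nat.card F.K = 2 ^ i := by
  haveI : Fact (Nat.Prime 2) := ⟨Nat.prime_two⟩
  obtain ⟨s, hs⟩ := exists_prime_orderOf_dvd_card' 2 F.even_K
  have hso : orderOf (s : G) = 2 := by rw [Subgroup.orderOf_coe, hs]
  refine F.primes_K_of_central hso (F.central_of_inverts s.2 fun w hw => ?_)
  have hss : (s : G) * s = 1 := by rw [← pow_two, ← hso, pow_orderOf_eq_one]
  by_contra hne
  set v := w * ((s : G) * w * (s : G)⁻¹) with hv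
  have hvR : v ∈ (F.R : Subgroup G) := mul_mem hw (F.conj_R s.2 hw)
  have hv1 : v ≠ 1 := fun e => hne (eq_inv_of_mul_eq_one_right e)
  have hvs : (s : G) * v * (s : G)⁻¹ = v := by
    calc (s : G) * v * (s : G)⁻¹
        = ((s : G) * w * (s : G)⁻¹) * (((s : G) * s) * w * ((s : G) * s)⁻¹) := by rw [hv]; group
      _ = ((s : G) * w * (s : G)⁻¹) * w := by rw [hss]; group
      _ = v := F.comm (F.conj_R s.2 hw) hw
  by_cases hconj : IsConj L.x v
  · obtain ⟨k, hk, hkv⟩ := F.fusion F.xR hvR hconj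
    have hmem : k⁻¹ * (s : G) * k ∈ F.S := by
      refine Subgroup.mem_inf.2 ⟨F.K.mul_mem (F.K.mul_mem (F.K.inv_mem hk) s.2) hk, Grp.cent_conj.2 ?_⟩
      calc k⁻¹ * (s : G) * k * L.x * (k⁻¹ * (s : G) * k)⁻¹
          = k⁻¹ * ((s : G) * (k * L.x * k⁻¹) * (s : G)⁻¹) * k := by group
        _ = L.x := by rw [hkv, hvs, ← hkv]; group
    rw [Subgroup.card_eq_one, Subgroup.eq_bot_iff_forall] at hS
    have h1 := congrArg (fun g => k * g * k⁻¹) (hS _ hmem)
    simp only [mul_one, mul_inv_cancel, mul_assoc, mul_inv_cancel_left] at h1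
    rw [h1, orderOf_one] at hso
    omega
  · have h1 := F.disj _ s.2 (F.fix_le hvR hv1 hconj hvs)
    rw [h1, orderOf_one] at hso
    omega

end Fus

end H22.SC
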