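import Mathlib
import Cfsg.Agent.H22.SC.Fusion

/-!
The case of a second class of `r`-elements.
-/

set_option autoImplicit false
set_option linter.unusedSectionVars false
set_option linter.style.haveILetI false

open Cfsg

namespace H22.SC

universe u

variable {G : Type u} [Group G] [Fintype G]

namespace Fus

variable [IsSimpleGroup G] {A₁ A₂ A₃ : Subgroup G} {h : Sys A₁ A₂ A₃} {L : Loc h} (F : Fus L)
  {w₀ : G} (hw : w₀ ∈ (F.R : Subgroup G)) (hw1 : w₀ ≠ 1) (hn : ¬ IsConj L.x w₀)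
include F hw hw1 hn

theorem not_new_two {u : G} (hu : L.NewC u) (he : 2 ∣ orderOf u) : False := by
  obtain ⟨j, -, hj⟩ := F.order_R hw hw1
  refine L.seven (F.new_of_not_conj hw hw1 hn) hu fun e => ?_
  rw [← Grp.orderOf_eq_of_isConj e, hj] at he
  have := (Nat.prime_two.dvd_of_dvd_pow he)
  exact L.r_ne ((Nat.prime_dvd_prime_iff_eq Nat.prime_two L.prime).1 this).symm

/-- The nontrivial 2-elements of `C(x)` are conjugate to `t` there. -/
theorem two_conj {v : G} (hvx : v * L.x = L.x * v) {i : ℕ} (hv : orderOf v = 2 ^ i) (hv1 : v ≠ 1) :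
    orderOf v = 2 ∧ ∃ g : G, g * L.x * g⁻¹ = L.x ∧ g * L.t * g⁻¹ = v := by
  have hcop : (orderOf L.x).Coprime (orderOf v) := by
    rw [L.hx, hv]; exact Nat.Coprime.pow_right i (Nat.coprime_two_right.2 (Nat.odd_iff.2 L.r_odd))
  have ho : orderOf (L.x * v) = L.r * 2 ^ i := by
    rw [(show Commute L.x v from hvx.symm).orderOf_mul_eq_mul_orderOf_of_coprime hcop, L.hx, hv]
  have hi : i = 1 := by
    rcases Nat.lt_or_ge i 2 with hi | hi
    · rcases Nat.eq_zero_or_pos i with e | e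
      · rw [e, pow_zero, orderOf_eq_one_iff] at hv; exact absurd hv hv1
      · omega
    exfalso
    have h4 : 4 ≤ 2 ^ i := le_trans (by norm_num) (Nat.pow_le_pow_right (n := 2) (by norm_num) hi)
    have h2 : 2 ∣ 2 ^ i := dvd_pow_self 2 (by omega)
    have h3 := L.r3
    have h12 : 12 ≤ L.r * 2 ^ i := by nlinarith
    refine F.not_new_two hw hw1 hn (L.newC_of_order (L.out_xv hvx) (by omega) (by omega) (by omega)
      (fun e => ?_) (fun e => ?_)) (ho ▸ h2.mul_left _)
    · rw [ho] at e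
      nlinarith
    · rw [ho] at e
      nlinarith
  subst hi
  rw [pow_one] at hv
  refine ⟨hv, ?_⟩
  by_contra hcon
  push Not at hcon
  exact F.not_new_two hw hw1 hn (L.mul_inv_new L.hx hv hvx hcon) (ho ▸ (dvd_mul_left _ _))

theorem pred_dvd : ∃ j, j ≤ 2 ∧ L.r - 1 = 2 ^ j := by
  set C := Subgroup.centralizer ({L.t} : Set G) with hC
  have hconj : ∀ i : ℕ, ¬ L.r ∣ i → ∃ g ∈ C, g * L.x * g⁻¹ = L.x ^ i := by
    intro i hi
    have ho : orderOf (L.x ^ i) = L.r := by
      rw [Nat.Coprime.orderOf_pow, L.hx]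
      rw [L.hx]; exact L.prime.coprime_iff_not_dvd.2 hi
    have hc : L.t * L.x ^ i = L.x ^ i * L.t := ((show Commute L.t L.x from L.comm).pow_right i).eq
    by_contra hcon
    push Not at hcon
    refine F.not_new_two hw hw1 hn (L.mul_inv_new ho L.ht hc fun g h1 h2 => ?_) ?_
    · exact hcon g (Grp.cent_conj.2 h2) h1
    · rw [(show Commute (L.x ^ i) L.t from hc.symm).orderOf_mul_eq_mul_orderOf_of_coprime, ho, L.ht]
      · exact dvd_mul_left 2 _
      · rw [ho, L.ht]; exact Nat.coprime_two_right.2 (Nat.odd_iff.2 L.r_odd)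
  obtain ⟨g, hg, hgd⟩ := Grp.exists_orderOf_dvd C L.prime L.hx hconj
  have hd : L.r - 1 ∣ 2 ^ (Nat.card C).factorization 2 := by
    have h1 : orderOf g ∣ Nat.card C :=
      Subgroup.orderOf_mk g hg ▸ orderOf_dvd_natCard (⟨g, hg⟩ : C)
    have h2 := hgd.trans h1
    rw [L.card_cent (w := L.t) (Or.inl L.ht)] at h2
    refine Nat.Coprime.dvd_of_dvd_mul_right (Nat.Coprime.pow_right _ ?_) h2
    refine (L.prime.coprime_iff_not_dvd.2 fun hd => ?_).symm
    have := Nat.le_of_dvd (by have := L.r3; omega) hd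
    have := L.r3
    omega
  obtain ⟨j, -, hj⟩ := (Nat.dvd_prime_pow Nat.prime_two).1 hd
  refine ⟨j, ?_, hj⟩
  by_contra hc
  have h8 : 8 ∣ orderOf g := (dvd_trans (by rw [hj]; exact pow_dvd_pow 2 (show 3 ≤ j by omega)) hgd)
  have h9 : orderOf (g ^ (orderOf g / 8)) = 8 := orderOf_pow_orderOf_div (orderOf_pos _).ne' h8
  have hro := L.r_odd
  refine F.not_new_two hw hw1 hn (L.newC_of_order (h.out_of_two ⟨3, by rw [h9]; rfl⟩) (by omega)
    (by omega) (by omega) (by omega) (by rw [h9]; omega)) (by rw [h9]; norm_num)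

theorem r_cases : L.r = 3 ∨ L.r = 5 := by
  obtain ⟨j, hj, e⟩ := F.pred_dvd hw hw1 hn
  have := L.r3
  interval_cases j <;> omega

/-- The stabiliser of `x` has order at most two. -/
theorem card_S_le : Nat.card F.S ≤ 2 := by
  haveI := Fact.mk L.prime
  haveI : Fact (Nat.Prime 2) := ⟨Nat.prime_two⟩
  set C := L.Cx with hC
  obtain ⟨P⟩ : Nonempty (Sylow 2 C) := inferInstance
  have hPc : Nat.card (P : Subgroup C) = L.Vx := P.card_eq_multiplicity
  have h2C : 2 ∣ Nat.card C := by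
    have : L.t ∈ C := Grp.mem_cent.2 L.comm
    rw [← L.ht, ← Subgroup.orderOf_mk L.t this]
    exact orderOf_dvd_natCard _
  have hel : ∀ v ∈ (P : Subgroup C), v ≠ 1 → orderOf (v : G) = 2 ∧
      ∃ g : G, g * L.x * g⁻¹ = L.x ∧ g * L.t * g⁻¹ = (v : G) := by
    intro v hv hv1
    obtain ⟨i, -, hi⟩ := (Nat.dvd_prime_pow Nat.prime_two).1
      ((Subgroup.orderOf_mk v hv ▸ orderOf_dvd_natCard (⟨v, hv⟩ : (P : Subgroup C))).trans
        (dvd_of_eq hPc))
    exact F.two_conj hw hw1 hn (Grp.mem_cent.1 v.2) (i := i)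
      (by rw [Subgroup.orderOf_coe, hi]) fun e => hv1 (Subtype.ext e)
  haveI : IsMulCommutative (P : Subgroup C) := by
    refine ⟨⟨fun a b => ?_⟩⟩
    have sq : ∀ c : (P : Subgroup C), c * c = 1 := by
      intro c
      by_cases hc : (c : C) = 1
      · exact Subtype.ext (by simp [hc])
      · apply Subtype.ext; apply Subtype.ext
        have h1 := (hel c c.2 hc).1
        show ((c : C) : G) * ((c : C) : G) = 1
        rw [← pow_two]
        exact orderOf_dvd_iff_pow_eq_one.1 (dvd_of_eq h1)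
    have i1 : ∀ c : (P : Subgroup C), c⁻¹ = c := fun c => inv_eq_of_mul_eq_one_right (sq c)
    calc a * b = (a * b)⁻¹ := (i1 _).symm
      _ = b⁻¹ * a⁻¹ := mul_inv_rev a b
      _ = b * a := by rw [i1, i1]
  obtain ⟨t', ht', ht1⟩ : ∃ t' ∈ (P : Subgroup C), t' ≠ 1 := by
    have hPd := P.dvd_card_of_dvd_card h2C
    haveI : Nontrivial (P : Subgroup C) :=
      Finite.one_lt_card_iff_nontrivial.1 (Nat.le_of_dvd Nat.card_pos hPd)
    obtain ⟨c, hc⟩ := exists_ne (1 : (P : Subgroup C))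
    exact ⟨c.1, c.2, fun e => hc (Subtype.ext e)⟩
  set N := Subgroup.normalizer ((P : Subgroup C) : Set C) with hN
  have hfus : ∀ v ∈ (P : Subgroup C), v ≠ 1 → ∃ n ∈ N, n * t' * n⁻¹ = v := by
    intro v hv hv1
    obtain ⟨-, g, hg1, hg2⟩ := hel t' ht' ht1
    obtain ⟨-, g', hg1', hg2'⟩ := hel v hv hv1
    set c : C := ⟨g', Grp.cent_conj.2 hg1'⟩ * (⟨g, Grp.cent_conj.2 hg1⟩ : C)⁻¹ with hc
    have hct : c * t' * c⁻¹ = v := by
      apply Subtype.ext
      show g' * g⁻¹ * (t' : G) * (g' * g⁻¹)⁻¹ = (v : G)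
      rw [← hg2, ← hg2']; group
    obtain ⟨n, hn', hne⟩ := P.conj_eq_normalizer_conj_of_mem t' c⁻¹ ht'
      (by rw [inv_inv, hct]; exact hv)
    refine ⟨n⁻¹, inv_mem hn', ?_⟩
    rw [inv_inv, ← hne, inv_inv]
    exact hct
  have horb := Grp.card_conjBy N t'
  have ho : Nat.card {v : C // ∃ n ∈ N, n * t' * n⁻¹ = v} + 1 = L.Vx := by
    classical
    rw [← hPc, Nat.card_eq_fintype_card, Nat.card_eq_fintype_card, Fintype.card_subtype,
      Fintype.card_subtype]
    have : (Finset.univ.filter fun v => ∃ n ∈ N, n * t' * n⁻¹ = v) =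
        (Finset.univ.filter fun v => v ∈ (P : Subgroup C)).erase 1 := by
      ext v
      simp only [Finset.mem_filter, Finset.mem_univ, true_and, Finset.mem_erase]
      constructor
      · rintro ⟨n, hn', rfl⟩
        exact ⟨fun e => ht1 (conj_eq_one_iff.1 e), (Subgroup.mem_normalizer_iff.1 hn' t').1 ht'⟩
      · exact fun hv => hfus v hv.2 hv.1
    rw [this, Finset.card_erase_add_one (by simp)]
  set St := N ⊓ Subgroup.centralizer ({t'} : Set C) with hSt
  have hPle : (P : Subgroup C) ≤ St := le_inf Subgroup.le_normalizer fun a ha =>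
    Grp.mem_cent.2 (congrArg Subtype.val (mul_comm' (⟨a, ha⟩ : (P : Subgroup C)) ⟨t', ht'⟩))
  have hVpos : 0 < L.Vx := pow_pos Nat.two_pos _
  have hod : Nat.card {v : C // ∃ n ∈ N, n * t' * n⁻¹ = v} ∣ L.r ^ L.ar := by
    have h1 : Nat.card N ∣ L.Vx * L.r ^ L.ar := by
      show Nat.card N ∣ L.Vx * L.r ^ (Nat.card G).factorization L.r
      rw [← L.card_Cx]; exact Subgroup.card_subgroup_dvd_card _
    have h2 : L.Vx ∣ Nat.card St := hPc ▸ Subgroup.card_dvd_of_le hPle
    have h3 := ((mul_dvd_mul_left _ h2).trans (dvd_of_eq horb)).trans h1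
    rw [mul_comm L.Vx] at h3
    exact Nat.dvd_of_mul_dvd_mul_right hVpos h3
  obtain ⟨c, -, hc⟩ := (Nat.dvd_prime_pow L.prime).1 hod
  rw [hc] at ho
  obtain ⟨i, hi⟩ := F.S_two
  have hSd : Nat.card F.S ∣ L.Vx := by
    have h1 : Nat.card F.S ∣ Nat.card C := Subgroup.card_dvd_of_le inf_le_right
    rw [hC, L.card_Cx] at h1
    refine Nat.Coprime.dvd_of_dvd_mul_right ?_ h1
    rw [hi]
    exact Nat.Coprime.pow _ _ (Nat.coprime_two_left.2 (Nat.odd_iff.2 L.r_odd))
  have hc1 : c ≤ 1 := mersenne_pow L.r_odd L.r3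
    (e := (Nat.card L.Cx).factorization 2) ho
  rcases Nat.eq_zero_or_pos c with e | e
  · rw [e, pow_zero] at ho
    exact (Nat.le_of_dvd hVpos hSd).trans (by omega)
  rw [show c = 1 by omega, pow_one] at ho hc
  -- the number of Sylow `r`-subgroups of `C(x)`
  set R' := (F.R : Subgroup G).subgroupOf C with hR'
  have hR'c : Nat.card R' = L.r ^ L.ar := by
    rw [Nat.card_congr (Subgroup.subgroupOfEquivOfLe F.Rle).toEquiv, F.card_R]
  obtain ⟨Rs, hRs⟩ : ∃ Rs : Sylow L.r C, (Rs : Subgroup C) = R' :=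
    ⟨(F.R).subtype F.Rle, rfl⟩
  have hn : Nat.card (Sylow L.r C) * Nat.card (Subgroup.normalizer (R' : Set C)) = Nat.card C := by
    rw [Rs.card_eq_index_normalizer, show Subgroup.normalizer (Rs : Set C) =
      Subgroup.normalizer (R' : Set C) by rw [← hRs]; rfl, Subgroup.index_mul_card]
  have hRS : Nat.card F.S * L.r ^ L.ar ∣ Nat.card (Subgroup.normalizer (R' : Set C)) := by
    refine Nat.Coprime.mul_dvd_of_dvd_of_dvd ?_ ?_ ?_
    · rw [hi]
      exact Nat.Coprime.pow _ _ (Nat.coprime_two_left.2 (Nat.odd_iff.2 L.r_odd))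
    · rw [← Nat.card_congr (Subgroup.subgroupOfEquivOfLe
        (show F.S ≤ C from inf_le_right)).toEquiv]
      refine Subgroup.card_dvd_of_le fun s hs => Subgroup.mem_normalizer_iff.2 fun a => ?_
      simp only [hR', Subgroup.mem_subgroupOf]
      exact Subgroup.mem_normalizer_iff.1 (F.nrm _ (Subgroup.mem_subgroupOf.1 hs).1) (a : G)
    · rw [← hR'c]; exact Subgroup.card_dvd_of_le Subgroup.le_normalizer
  have hnS : Nat.card (Sylow L.r C) * Nat.card F.S ∣ L.Vx := by
    have h1 : Nat.card (Sylow L.r C) * (Nat.card F.S * L.r ^ L.ar) ∣ L.Vx * L.r ^ L.ar := by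
      have := mul_dvd_mul_left (Nat.card (Sylow L.r C)) hRS
      rw [hn, hC, L.card_Cx] at this
      exact this
    rw [← mul_assoc] at h1
    exact Nat.dvd_of_mul_dvd_mul_right (pow_pos L.prime.pos _) h1
  have hmod := card_sylow_modEq_one L.r C
  rcases Nat.lt_or_ge (Nat.card (Sylow L.r C)) 2 with h1 | h1
  · exfalso
    haveI : Subsingleton (Sylow L.r C) := Finite.card_le_one_iff_subsingleton.1 (by omega)
    haveI : R'.Normal := hRs ▸ Sylow.normal_of_subsingleton Rs
    have hdvd : Nat.card N ∣ Nat.card St := by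
      have hle : R' ⊓ N ≤ St := by
        refine le_inf inf_le_right fun ρ hρ => Grp.cent_conj.2 ?_
        obtain ⟨hρR, hρN⟩ := Subgroup.mem_inf.1 hρ
        have hP1 : ρ * t' * ρ⁻¹ * t'⁻¹ ∈ (P : Subgroup C) :=
          mul_mem ((Subgroup.mem_normalizer_iff.1 hρN t').1 ht') (inv_mem ht')
        have hR1 : ρ * t' * ρ⁻¹ * t'⁻¹ ∈ R' := by
          rw [mul_assoc (ρ * t'), ← mul_assoc]
          have := mul_mem hρR (Subgroup.Normal.conj_mem inferInstance _ (inv_mem hρR) t')
          simpa [mul_assoc] using this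
        have hd1 : orderOf (ρ * t' * ρ⁻¹ * t'⁻¹) ∣ L.Vx :=
          (Subgroup.orderOf_mk _ hP1 ▸ orderOf_dvd_natCard (⟨_, hP1⟩ : (P : Subgroup C))).trans
            (dvd_of_eq hPc)
        have hd2 : orderOf (ρ * t' * ρ⁻¹ * t'⁻¹) ∣ L.r ^ L.ar :=
          (Subgroup.orderOf_mk _ hR1 ▸ orderOf_dvd_natCard (⟨_, hR1⟩ : R')).trans (dvd_of_eq hR'c)
        have h3 := Nat.eq_one_of_dvd_coprimes (Nat.Coprime.pow _ _
          (Nat.coprime_two_left.2 (Nat.odd_iff.2 L.r_odd))) hd1 hd2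
        exact mul_inv_eq_one.1 (orderOf_eq_one_iff.1 h3)
      have hidx : R'.relIndex N ∣ L.Vx := by
        refine (Subgroup.relIndex_dvd_index_of_normal R' N).trans (dvd_of_eq ?_)
        apply Nat.eq_of_mul_eq_mul_left (Nat.card_pos (α := R'))
        rw [R'.card_mul_index, hR'c, show Nat.card C = _ from L.card_Cx, mul_comm]
        rfl
      have h4 : Nat.card N ∣ Nat.card (R' ⊓ N : Subgroup C) * L.Vx := by
        rw [← Subgroup.card_mul_index ((R' ⊓ N).subgroupOf N)]
        rw [Nat.card_congr (Subgroup.subgroupOfEquivOfLe inf_le_right).toEquiv]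
        exact mul_dvd_mul_left _ (by
          show (R' ⊓ N).relIndex N ∣ L.Vx
          rw [Subgroup.inf_relIndex_right]; exact hidx)
      refine h4.trans (Nat.Coprime.mul_dvd_of_dvd_of_dvd ?_ (Subgroup.card_dvd_of_le hle)
        (hPc ▸ Subgroup.card_dvd_of_le hPle))
      refine Nat.Coprime.coprime_dvd_left (Subgroup.card_dvd_of_le inf_le_left) ?_
      rw [hR'c]
      exact Nat.Coprime.pow _ _ (Nat.coprime_two_right.2 (Nat.odd_iff.2 L.r_odd))
    rw [← horb, hc] at hdvd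
    have h5 := Nat.le_of_dvd Nat.card_pos hdvd
    have h6 : 0 < Nat.card St := Nat.card_pos
    have := L.r3
    nlinarith
  · have h2 : L.r + 1 ≤ Nat.card (Sylow L.r C) := by
      have h3 : L.r ∣ Nat.card (Sylow L.r C) - 1 :=
        (Nat.modEq_iff_dvd' (by omega)).1 hmod.symm
      have := Nat.le_of_dvd (by omega) h3
      omega
    have h4 := Nat.le_of_dvd hVpos hnS
    have h5 : Nat.card (Sylow L.r C) * Nat.card F.S ≤ (L.r + 1) * 1 := by omega
    by_contra hgt
    have : (L.r + 1) * 3 ≤ Nat.card (Sylow L.r C) * Nat.card F.S :=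
      Nat.mul_le_mul h2 (by omega)
    omega

end Fus

end H22.SC
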