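import Mathlib
import Cfsg.Agent.H22.SC.Second

/-!
The automiser of the Sylow `r`-subgroup is a 2-group, up to a factor three.
-/

set_option autoImplicit false
set_option linter.unusedSectionVars false
set_option linter.style.haveILetI false

open Cfsg

namespace H22.SC

universe u

variable {G : Type u} [Group G] [Fintype G]

namespace Fus

variable [IsSimpleGroup G] {A₁ A₂ A₃ : Subgroup G} {h : Sys A₁ A₂ A₃} {L : Loc h} (F : Fus L)
include F

theorem mul_self_eq_one_R {w : G} (hw : w ∈ (F.R : Subgroup G)) (h2 : w = w⁻¹) : w = 1 := by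
  by_contra hw1
  obtain ⟨j, hj1, hj⟩ := F.order_R hw hw1
  have hd : orderOf w ∣ 2 := orderOf_dvd_of_pow_eq_one (by
    rw [pow_two]; nth_rw 2 [h2]; exact mul_inv_cancel w)
  rw [hj] at hd
  have := (Nat.prime_dvd_prime_iff_eq L.prime Nat.prime_two).1
    ((dvd_pow_self L.r (by omega : j ≠ 0)).trans hd)
  exact L.r_ne this

/-- Some involution of `K` lies in the 2-core of `K`. -/
theorem exists_core_invol (hS : Nat.card F.S ≠ 1) :
    ∃ s : F.K, orderOf s = 2 ∧ s ∈ Cfsg.pCore 2 F.K := by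
  classical
  haveI : Fact (Nat.Prime 2) := ⟨Nat.prime_two⟩
  by_contra hcon
  push Not at hcon
  have hRodd : Odd (Nat.card (F.R : Subgroup G)) := by
    rw [F.card_R]; exact (Nat.odd_iff.2 L.r_odd).pow
  set I := Finset.univ.filter fun s : G => s ∈ F.K ∧ orderOf s = 2 with hI
  set Rs := (Finset.univ.filter fun w : G => w ∈ (F.R : Subgroup G)).erase 1 with hRs
  -- every involution fixes exactly the square root
  have hhalf : ∀ s ∈ I,
      Nat.card ((F.R : Subgroup G) ⊓ Subgroup.centralizer ({s} : Set G) : Subgroup G) ^ 2 =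
        Nat.card (F.R : Subgroup G) := by
    intro s hs
    obtain ⟨hsK, hs2⟩ := (Finset.mem_filter.1 hs).2
    obtain ⟨σ, hσ1, hσo, hσs⟩ := H65.exists_odd_inverted (t := (⟨s, hsK⟩ : F.K))
      (by rw [Subgroup.orderOf_mk]; exact hs2) (hcon _ (by rw [Subgroup.orderOf_mk]; exact hs2))
    refine Grp.half (F.R : Subgroup G) (fun a ha b hb => F.comm ha hb) hRodd
      (by rw [← pow_two, ← hs2, pow_orderOf_eq_one]) (fun w hw => F.conj_R hsK hw)
      (σ := (σ : G)) (fun w hw => F.conj_R σ.2 hw)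
      (fun w hw => by simpa using F.conj_R (inv_mem σ.2) hw) (congrArg Subtype.val hσs) ?_
    intro w hw hfix
    by_contra hw1
    have ho : orderOf ((σ : G) ^ 2) = orderOf σ := by
      rw [Nat.Coprime.orderOf_pow, Subgroup.orderOf_coe]
      rw [Subgroup.orderOf_coe]; exact Nat.coprime_two_right.2 hσo
    have h1 := F.fpf (k := (σ : G) ^ 2) (pow_mem σ.2 2) (by rw [ho]; exact hσo) hw hw1 hfix
    rw [h1, orderOf_one, eq_comm, orderOf_eq_one_iff] at ho
    exact hσ1 ho
  obtain ⟨s₀, hs₀⟩ : ∃ s, s ∈ I := by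
    obtain ⟨s, hs⟩ := exists_prime_orderOf_dvd_card' 2 F.even_K
    exact ⟨s, Finset.mem_filter.2 ⟨Finset.mem_univ _, s.2, by rw [Subgroup.orderOf_coe, hs]⟩⟩
  set m := Nat.card ((F.R : Subgroup G) ⊓ Subgroup.centralizer ({s₀} : Set G) : Subgroup G) with hm
  have hm2 : m ^ 2 = Nat.card (F.R : Subgroup G) := hhalf s₀ hs₀
  have hfixs : ∀ s ∈ I, (Rs.filter fun w => s * w * s⁻¹ = w).card + 1 = m := by
    intro s hs
    have e1 : (Rs.filter fun w => s * w * s⁻¹ = w).card + 1 =
        Nat.card ((F.R : Subgroup G) ⊓ Subgroup.centralizer ({s} : Set G) : Subgroup G) := by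
      rw [Nat.card_eq_fintype_card, Fintype.card_subtype]
      have : (Finset.univ.filter fun w =>
          w ∈ (F.R : Subgroup G) ⊓ Subgroup.centralizer ({s} : Set G)) =
          insert 1 (Rs.filter fun w => s * w * s⁻¹ = w) := by
        ext w
        simp only [hRs, Finset.mem_filter, Finset.mem_univ, true_and, Finset.mem_insert,
          Finset.mem_erase, Subgroup.mem_inf, Grp.mem_cent, mul_inv_eq_iff_eq_mul]
        constructor
        · intro hw
          by_cases h1 : w = 1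
          · exact Or.inl h1
          · exact Or.inr ⟨⟨h1, hw.1⟩, hw.2.symm⟩
        · rintro (rfl | ⟨⟨-, hw⟩, hc⟩)
          · exact ⟨one_mem _, by simp⟩
          · exact ⟨hw, hc.symm⟩
      rw [this, Finset.card_insert_of_notMem (by simp [hRs])]
    rw [e1]
    exact Nat.pow_left_injective two_ne_zero ((hhalf s hs).trans hm2.symm)
  set ix := (I.filter fun s => s * L.x * s⁻¹ = L.x).card with hix
  have hcount : ∀ w ∈ Rs, (I.filter fun s => s * w * s⁻¹ = w).card =
      if IsConj L.x w then ix else 0 := by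
    intro w hw
    obtain ⟨hw1, hwR⟩ : w ≠ 1 ∧ w ∈ (F.R : Subgroup G) := by
      simpa [hRs] using hw
    split_ifs with hc
    · obtain ⟨k, hk, rfl⟩ := F.fusion F.xR hwR hc
      refine Finset.card_bij (fun s _ => k⁻¹ * s * k) (fun s hs => ?_) (fun s _ s' _ e => ?_)
        (fun s hs => ⟨k * s * k⁻¹, ?_, by group⟩)
      · simp only [hI, Finset.mem_filter, Finset.mem_univ, true_and] at hs ⊢
        refine ⟨⟨mul_mem (mul_mem (inv_mem hk) hs.1.1) hk, ?_⟩, ?_⟩
        · have := Grp.orderOf_conj k⁻¹ s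
          rw [inv_inv] at this
          rw [this, hs.1.2]
        · calc k⁻¹ * s * k * L.x * (k⁻¹ * s * k)⁻¹
              = k⁻¹ * (s * (k * L.x * k⁻¹) * s⁻¹) * k := by group
            _ = L.x := by rw [hs.2]; group
      · exact mul_left_cancel (mul_right_cancel e)
      · simp only [hI, Finset.mem_filter, Finset.mem_univ, true_and] at hs ⊢
        refine ⟨⟨mul_mem (mul_mem hk hs.1.1) (inv_mem hk), by rw [Grp.orderOf_conj]; exact hs.1.2⟩, ?_⟩
        calc k * s * k⁻¹ * (k * L.x * k⁻¹) * (k * s * k⁻¹)⁻¹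
            = k * (s * L.x * s⁻¹) * k⁻¹ := by group
          _ = k * L.x * k⁻¹ := by rw [hs.2]
    · rw [Finset.card_eq_zero, Finset.filter_eq_empty_iff]
      intro s hs hfix
      obtain ⟨hsK, hs2⟩ := (Finset.mem_filter.1 hs).2
      have := F.disj s hsK (F.fix_le hwR hw1 hc hfix)
      rw [this, orderOf_one] at hs2
      omega
  have hdouble : I.card * (m - 1) = F.O.card * ix := by
    have h1 := Finset.sum_card_bipartiteAbove_eq_sum_card_bipartiteBelow
      (s := I) (t := Rs) (r := fun s w => s * w * s⁻¹ = w)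
    simp only [Finset.bipartiteAbove, Finset.bipartiteBelow] at h1
    rw [Finset.sum_congr rfl (g := fun _ => m - 1) (fun s hs => by
      have := hfixs s hs; omega), Finset.sum_congr rfl hcount, Finset.sum_ite,
      Finset.sum_const, Finset.sum_const, Finset.sum_const_zero, add_zero, smul_eq_mul,
      smul_eq_mul] at h1
    rw [h1]
    congr 2
    ext w
    simp only [O, hRs, Finset.mem_filter, Finset.mem_univ, true_and, Finset.mem_erase]
    exact ⟨fun hw => ⟨hw.1.2, hw.2⟩, fun hw => ⟨⟨fun e => L.x_ne (by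
      obtain ⟨g, hg⟩ := isConj_iff.1 hw.2
      rw [e] at hg
      exact conj_eq_one_iff.1 hg), hw.1⟩, hw.2⟩⟩
  have hIodd : I.card % 2 = 1 := Grp.odd_invol F.K F.even_K
  have hS2 : 2 ∣ Nat.card F.S := by
    obtain ⟨i, hi⟩ := F.S_two
    rw [hi] at hS ⊢
    exact dvd_pow_self 2 (fun e => hS (by rw [e, pow_zero]))
  have hixodd : ix % 2 = 1 := by
    rw [← Grp.odd_invol F.S hS2, hix]
    congr 2
    ext s
    simp only [hI, Finset.mem_filter, Finset.mem_univ, true_and, S, Subgroup.mem_inf,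
      Grp.cent_conj]
    tauto
  obtain ⟨ε, hε, -⟩ := F.card_eq
  rw [← hm2, ← F.card_O] at hε
  have hmodd : m % 2 = 1 := by
    have := Nat.odd_iff.1 hRodd
    rw [← hm2, Nat.pow_mod] at this
    rcases Nat.mod_two_eq_zero_or_one m with e | e
    · rw [e] at this; simp at this
    · exact e
  have hm3 : 2 ≤ m := by
    by_contra hc
    have h1 : m = 1 := by omega
    rw [h1, one_pow] at hm2
    have := F.card_R
    rw [← hm2] at this
    exact absurd this.symm (Nat.one_lt_pow (by have := F.two_le_ar; omega) L.prime.one_lt).ne'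
  obtain ⟨m', hm'⟩ : ∃ m', m = m' + 1 := ⟨m - 1, by omega⟩
  rw [hm', Nat.add_sub_cancel] at hdouble
  rw [hm'] at hε
  have hOeq : F.O.card * (1 + ε * Nat.card F.S) = m' * (m' + 2) := by
    have e : 1 + m' * (m' + 2) = 1 + F.O.card * (1 + ε * Nat.card F.S) := by
      calc 1 + m' * (m' + 2) = (m' + 1) ^ 2 := by ring
        _ = _ := by rw [hε]; ring
    omega
  have key : I.card * (1 + ε * Nat.card F.S) = (m' + 2) * ix := by
    apply Nat.eq_of_mul_eq_mul_left (show 0 < m' by omega)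
    calc m' * (I.card * (1 + ε * Nat.card F.S))
        = (I.card * m') * (1 + ε * Nat.card F.S) := by ring
      _ = F.O.card * (1 + ε * Nat.card F.S) * ix := by rw [hdouble]; ring
      _ = m' * ((m' + 2) * ix) := by rw [hOeq]; ring
  obtain ⟨s2, hs2⟩ := hS2
  have hA : Odd (I.card * (1 + ε * Nat.card F.S)) := by
    refine (Nat.odd_iff.2 hIodd).mul ?_
    rw [hs2]; exact ⟨ε * s2, by ring⟩
  rw [key] at hA
  exact Nat.not_odd_iff_even.2 ((Nat.even_iff.2 (show (m' + 2) % 2 = 0 by omega)).mul_right ix) hA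

theorem K_small : ∃ d j, Nat.card F.K = d * 2 ^ j ∧ d ∣ 3 ∧ (Nat.card F.S = 1 → d = 1) ∧
    ((∀ w ∈ (F.R : Subgroup G), w ≠ 1 → IsConj L.x w) → d = 1) := by
  classical
  haveI : Fact (Nat.Prime 2) := ⟨Nat.prime_two⟩
  have mk2 : (∃ i, Nat.card F.K = 2 ^ i) → ∃ d j, Nat.card F.K = d * 2 ^ j ∧ d ∣ 3 ∧
      (Nat.card F.S = 1 → d = 1) ∧
      ((∀ w ∈ (F.R : Subgroup G), w ≠ 1 → IsConj L.x w) → d = 1) := fun ⟨i, hi⟩ =>
    ⟨1, i, by rw [hi, one_mul], one_dvd _, fun _ => rfl, fun _ => rfl⟩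
  by_cases hS : Nat.card F.S = 1
  · exact mk2 (F.two_group_of_S_one hS)
  obtain ⟨s₀, hs₀, hs₀O⟩ := F.exists_core_invol hS
  set O2 := Cfsg.pCore 2 F.K with hO2
  haveI : O2.Normal := H1.pCore_normal' 2 F.K
  set E : Finset G := Finset.univ.filter fun e => ∃ e' : F.K, (e' : G) = e ∧ e' ∈ O2 ∧
    e' * e' = 1 ∧ ∀ f ∈ O2, e' * f = f * e' with hE
  have hEK : ∀ {e : G}, e ∈ E → e ∈ F.K := fun {e} he => by
    obtain ⟨e', rfl, -⟩ := (Finset.mem_filter.1 he).2; exact e'.2
  have hE2 : ∀ e ∈ E, e * e = 1 := fun e he => by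
    obtain ⟨e', rfl, -, h1, -⟩ := (Finset.mem_filter.1 he).2
    exact congrArg Subtype.val h1
  have hEc : ∀ e ∈ E, ∀ f ∈ E, e * f = f * e := fun e he f hf => by
    obtain ⟨e', rfl, -, -, h1⟩ := (Finset.mem_filter.1 he).2
    obtain ⟨f', rfl, hf', -, -⟩ := (Finset.mem_filter.1 hf).2
    exact congrArg Subtype.val (h1 f' hf')
  have hEmul : ∀ e ∈ E, ∀ f ∈ E, e * f ∈ E := fun e he f hf => by
    obtain ⟨e', rfl, he1, he2, he3⟩ := (Finset.mem_filter.1 he).2
    obtain ⟨f', rfl, hf1, hf2, hf3⟩ := (Finset.mem_filter.1 hf).2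
    refine Finset.mem_filter.2 ⟨Finset.mem_univ _, e' * f', rfl, mul_mem he1 hf1, ?_, fun g hg => ?_⟩
    · calc e' * f' * (e' * f') = e' * (f' * e') * f' := by group
        _ = e' * (e' * f') * f' := by rw [he3 f' hf1]
        _ = (e' * e') * (f' * f') := by group
        _ = 1 := by rw [he2, hf2, one_mul]
    · rw [mul_assoc, hf3 g hg, ← mul_assoc, he3 g hg, mul_assoc]
  have hEconj : ∀ k ∈ F.K, ∀ e ∈ E, k * e * k⁻¹ ∈ E := fun k hk e he => by
    obtain ⟨e', rfl, he1, he2, he3⟩ := (Finset.mem_filter.1 he).2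
    set k' : F.K := ⟨k, hk⟩
    refine Finset.mem_filter.2 ⟨Finset.mem_univ _, k' * e' * k'⁻¹, rfl,
      Subgroup.Normal.conj_mem inferInstance _ he1 _, ?_, fun g hg => ?_⟩
    · calc k' * e' * k'⁻¹ * (k' * e' * k'⁻¹) = k' * (e' * e') * k'⁻¹ := by group
        _ = 1 := by rw [he2]; group
    · have hg' : k'⁻¹ * g * k' ∈ O2 := by
        simpa using Subgroup.Normal.conj_mem inferInstance _ hg k'⁻¹
      calc k' * e' * k'⁻¹ * g = k' * (e' * (k'⁻¹ * g * k')) * k'⁻¹ := by group
        _ = k' * ((k'⁻¹ * g * k') * e') * k'⁻¹ := by rw [he3 _ hg']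
        _ = g * (k' * e' * k'⁻¹) := by group
  obtain ⟨e₀, he₀, he₀1⟩ : ∃ e ∈ E, e ≠ 1 := by
    haveI : Nontrivial O2 := ⟨⟨⟨s₀, hs₀O⟩, 1, fun e => by
      have h1 := congrArg Subtype.val e
      simp only [OneMemClass.coe_one] at h1
      rw [h1, orderOf_one] at hs₀
      omega⟩⟩
    have hp : IsPGroup 2 O2 := H1.isPGroup_pCore 2 F.K
    haveI := hp.center_nontrivial
    obtain ⟨z, hz⟩ := exists_prime_orderOf_dvd_card' (G := Subgroup.center O2) 2 (by
      obtain ⟨k, hk⟩ := (hp.to_subgroup (Subgroup.center O2)).exists_card_eq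
      have h1 := Finite.one_lt_card (α := Subgroup.center O2)
      rw [hk] at h1 ⊢
      exact dvd_pow_self 2 (fun e => by simp [e] at h1))
    have hzz : z * z = 1 := by rw [← pow_two, ← hz, pow_orderOf_eq_one]
    refine ⟨(((z : O2) : F.K) : G), Finset.mem_filter.2 ⟨Finset.mem_univ _, ((z : O2) : F.K), rfl,
      (z : O2).2, by simpa using congrArg (fun w : Subgroup.center O2 => ((w : O2) : F.K)) hzz,
      fun f hf => congrArg Subtype.val ((Subgroup.mem_center_iff.1 z.2 ⟨f, hf⟩)).symm⟩, fun e => ?_⟩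
    have hz1 : z = 1 := Subtype.ext (Subtype.ext (Subtype.ext e))
    rw [hz1, orderOf_one] at hz
    omega
  have he₀o : orderOf e₀ = 2 := orderOf_eq_prime (by rw [pow_two]; exact hE2 _ he₀) he₀1
  obtain ⟨v, hvR, hv1, hvE⟩ := Grp.exists_eigen (F.R : Subgroup G) (fun a ha b hb => F.comm ha hb)
    ⟨L.x, F.xR, L.x_ne⟩ E hE2 hEc (fun e he w hw => F.conj_R (hEK he) hw)
  by_cases hall : ∀ w ∈ (F.R : Subgroup G), w ≠ 1 → IsConj L.x w
  · refine mk2 (F.primes_K_of_central he₀o (F.central_of_inverts (hEK he₀) ?_))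
    have heig : ∀ w ∈ (F.R : Subgroup G), e₀ * w * e₀⁻¹ = w ∨ e₀ * w * e₀⁻¹ = w⁻¹ := by
      intro w hw
      by_cases hw1 : w = 1
      · simp [hw1]
      obtain ⟨k, hk, hkw⟩ := F.fusion hvR hw ((hall v hvR hv1).symm.trans (hall w hw hw1))
      subst hkw
      have e1 : e₀ * (k * v * k⁻¹) * e₀⁻¹ =
          k * ((k⁻¹ * e₀ * k) * v * (k⁻¹ * e₀ * k)⁻¹) * k⁻¹ := by group
      rcases hvE _ (by simpa using hEconj k⁻¹ (inv_mem hk) e₀ he₀) with h1 | h1
      · left; rw [e1, h1]
      · right; rw [e1, h1]; group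
    by_contra hnot
    push Not at hnot
    obtain ⟨p, hp, hp2⟩ := hnot
    have hpfix := (heig p hp).resolve_right hp2
    refine he₀1 (F.eq_one_of_comm (hEK he₀) fun m hm => ?_)
    by_contra hmfix
    have hminv := (heig m hm).resolve_left hmfix
    have hpm : e₀ * (p * m) * e₀⁻¹ = p * m⁻¹ := by
      calc e₀ * (p * m) * e₀⁻¹ = (e₀ * p * e₀⁻¹) * (e₀ * m * e₀⁻¹) := by group
        _ = p * m⁻¹ := by rw [hpfix, hminv]
    rcases heig _ (mul_mem hp hm) with h1 | h1
    · rw [hpm] at h1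
      have := F.mul_self_eq_one_R hm (mul_left_cancel h1).symm
      exact hmfix (by rw [this]; group)
    · rw [hpm, mul_inv_rev, F.comm (inv_mem hm) (inv_mem hp)] at h1
      have := F.mul_self_eq_one_R hp (mul_right_cancel h1)
      exact hp2 (by rw [this]; group)
  push Not at hall
  obtain ⟨w₀, hw₀, hw₀1, hw₀n⟩ := hall
  have hS2 := F.card_S_le hw₀ hw₀1 hw₀n
  set F' := E.filter fun e => e * v * e⁻¹ = v with hF'
  have hF'le : F'.card ≤ 2 := by
    by_cases hc : IsConj L.x v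
    · obtain ⟨k, hk, hkv⟩ := F.fusion F.xR hvR hc
      refine le_trans ?_ hS2
      rw [Nat.card_eq_fintype_card, Fintype.card_subtype]
      refine Finset.card_le_card_of_injOn (fun e => k⁻¹ * e * k) (fun e he => ?_)
        (fun e _ e' _ hee => mul_left_cancel (mul_right_cancel hee))
      obtain ⟨heE, hev⟩ := Finset.mem_filter.1 he
      refine Finset.mem_filter.2 ⟨Finset.mem_univ _, Subgroup.mem_inf.2
        ⟨F.K.mul_mem (F.K.mul_mem (F.K.inv_mem hk) (hEK heE)) hk, Grp.cent_conj.2 ?_⟩⟩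
      calc k⁻¹ * e * k * L.x * (k⁻¹ * e * k)⁻¹
          = k⁻¹ * (e * (k * L.x * k⁻¹) * e⁻¹) * k := by group
        _ = L.x := by rw [hkv, hev, ← hkv]; group
    · refine le_trans (Finset.card_le_one.2 fun a ha b hb => ?_) (by norm_num)
      obtain ⟨ha', hav⟩ := Finset.mem_filter.1 ha
      obtain ⟨hb', hbv⟩ := Finset.mem_filter.1 hb
      rw [F.disj a (hEK ha') (F.fix_le hvR hv1 hc hav),
        F.disj b (hEK hb') (F.fix_le hvR hv1 hc hbv)]
  have hEle : E.card ≤ 4 := by
    rw [← Finset.card_filter_add_card_filter_not (fun e => e * v * e⁻¹ = v), ← hF']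
    have h2 : (E.filter fun e => ¬ e * v * e⁻¹ = v).card ≤ F'.card := by
      rcases (E.filter fun e => ¬ e * v * e⁻¹ = v).eq_empty_or_nonempty with he | ⟨a, ha⟩
      · simp [he]
      obtain ⟨ha', hav⟩ := Finset.mem_filter.1 ha
      refine Finset.card_le_card_of_injOn (fun e => a * e) (fun e he => ?_)
        (fun e _ e' _ hee => mul_left_cancel hee)
      obtain ⟨he', hev⟩ := Finset.mem_filter.1 he
      refine Finset.mem_filter.2 ⟨hEmul a ha' e he', ?_⟩
      have h3 := (hvE e he').resolve_left hev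
      have h4 := (hvE a ha').resolve_left hav
      calc a * e * v * (a * e)⁻¹ = a * (e * v * e⁻¹) * a⁻¹ := by group
        _ = (a * v * a⁻¹)⁻¹ := by rw [h3]; group
        _ = v := by rw [h4, inv_inv]
    omega
  let φ : F.K →* Equiv.Perm E :=
    { toFun := fun k =>
        { toFun := fun e => ⟨(k : G) * e * (k : G)⁻¹, hEconj k k.2 e e.2⟩
          invFun := fun e => ⟨(k : G)⁻¹ * e * k, by simpa using hEconj _ (inv_mem k.2) e e.2⟩
          left_inv := fun e => Subtype.ext (by simp only; group)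
          right_inv := fun e => Subtype.ext (by simp only; group) }
      map_one' := Equiv.ext fun e => Subtype.ext (by simp)
      map_mul' := fun k k' => Equiv.ext fun e => Subtype.ext (by simp [mul_assoc]) }
  have hker : ∃ i, Nat.card φ.ker = 2 ^ i := by
    have hd : Nat.card φ.ker ∣ Nat.card (Subgroup.centralizer ({e₀} : Set G)) := by
      rw [← Subgroup.card_map_of_injective F.K.subtype_injective]
      refine Subgroup.card_dvd_of_le ?_
      rintro _ ⟨k, hk, rfl⟩
      refine Grp.cent_conj.2 ?_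
      exact congrArg Subtype.val (Equiv.ext_iff.1 (MonoidHom.mem_ker.1 hk) ⟨e₀, he₀⟩)
    rw [L.card_cent (Or.inl he₀o)] at hd
    have hc : (Nat.card φ.ker).Coprime L.r :=
      Nat.Coprime.coprime_dvd_left (Subgroup.card_subgroup_dvd_card _) F.cop
    obtain ⟨i, -, hi⟩ := (Nat.dvd_prime_pow Nat.prime_two).1
      ((hc.pow_right _).dvd_of_dvd_mul_right hd)
    exact ⟨i, hi⟩
  obtain ⟨i, hi⟩ := hker
  have hd : Nat.card F.K ∣ 2 ^ (i + 3) * 3 := by
    rw [← φ.ker.card_mul_index, hi, pow_add, mul_assoc, Subgroup.index_ker]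
    refine mul_dvd_mul_left _ ((Subgroup.card_subgroup_dvd_card _).trans ?_)
    rw [Nat.card_perm, Nat.card_eq_fintype_card, Fintype.card_coe]
    exact (Nat.factorial_dvd_factorial hEle).trans (by decide)
  obtain ⟨a, b, ha, hb, hab⟩ := Nat.dvd_mul.1 hd
  obtain ⟨j, -, rfl⟩ := (Nat.dvd_prime_pow Nat.prime_two).1 ha
  exact ⟨b, j, by rw [← hab, mul_comm], hb, fun e => absurd e hS,
    fun hh => absurd (hh w₀ hw₀ hw₀1) hw₀n⟩

end Fus

end H22.SC
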