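import Mathlib
import Cfsg.Agent.H22.SC.KSmall

/-!
Reduction of the local analysis to the configuration with `R` of order nine.
-/

set_option autoImplicit false
set_option linter.unusedSectionVars false
set_option linter.style.haveILetI false

open Cfsg

namespace H22.SC

universe u

variable {G : Type u} [Group G] [Fintype G]

/-- The configuration left over by the local analysis. -/
structure Nine [IsSimpleGroup G] {A₁ A₂ A₃ : Subgroup G} {h : Sys A₁ A₂ A₃} (L : Loc h) : Prop where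
  hr : L.r = 3
  hn₁ : Nat.card A₁ = 5
  ha : L.ar = 2
  hx : Nat.card (Subgroup.centralizer ({L.x} : Set G)) = 36
  hxt : Nat.card (Subgroup.centralizer ({L.x * L.t} : Set G)) = 12
  hct : Nat.card (Subgroup.centralizer ({L.t} : Set G)) = 3 * twoPart G
  hV : ∃ V : Subgroup G, Nat.card V = 4 ∧ (∀ v ∈ V, v * L.x = L.x * v) ∧
    ∀ v ∈ V, v ≠ 1 → IsConj (L.x * L.t) (L.x * v)
  hreal : IsConj (L.x * L.t) (L.x⁻¹ * L.t)

namespace Loc

variable [IsSimpleGroup G] {A₁ A₂ A₃ : Subgroup G} {h : Sys A₁ A₂ A₃} (L : Loc h)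
include L

theorem five_bound (hr : L.r = 5) : h.bound < 3 / 25 := by
  have d1 := L.r_not_dvd_n A₁ ((dvd_mul_right _ _).trans (dvd_mul_right _ _))
  rw [hr] at d1
  have h7 : 7 ≤ Nat.card A₁ := by have := h.n₁; have := h.odd₁; omega
  have hne : ¬ (Nat.card A₂ = 9 ∧ Nat.card A₃ = 9) := fun e => by
    have h1 := h.cop₂₃
    rw [e.1, e.2] at h1
    norm_num at h1
  have := h.nine₂; have := h.nine₃; have := h.mod₂; have := h.mod₃
  rcases Nat.lt_or_ge (Nat.card A₂) 13 with e | e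
  · have := bound_le (h := h) (a := 7) (b := 9) (c := 13) L (by norm_num) (by norm_num)
      (by norm_num) h7 (by omega) (by omega)
    norm_num at this ⊢
    linarith
  · have := bound_le (h := h) (a := 7) (b := 13) (c := 9) L (by norm_num) (by norm_num)
      (by norm_num) h7 (by omega) (by omega)
    norm_num at this ⊢
    linarith

theorem order_xv {v : G} {i : ℕ} (hc : v * L.x = L.x * v) (hv : orderOf v = 2 ^ i) :
    orderOf (L.x * v) = L.r * 2 ^ i := by
  rw [(show Commute L.x v from hc.symm).orderOf_mul_eq_mul_orderOf_of_coprime, L.hx, hv]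
  rw [L.hx, hv]
  exact Nat.Coprime.pow_right i (Nat.coprime_two_right.2 (Nat.odd_iff.2 L.r_odd))

theorem T_le (k : ℕ) (hk : k * L.Vx ≤ L.Nx) :
    (k : ℚ) / (L.r ^ L.ar : ℕ) ≤ h.bound := by
  obtain ⟨k', -, hk'⟩ := L.exists_Nx
  have hT := L.T_bound ∅ (by simp) (by simp) (by simp)
  rw [L.Nx_div hk', Finset.sum_empty, add_zero] at hT
  refine le_trans ?_ hT
  rw [hk'] at hk
  have := Nat.le_of_mul_le_mul_right hk (pow_pos Nat.two_pos _)
  show (k : ℚ) / (L.r ^ L.ar : ℕ) ≤ (k' : ℚ) / (L.r ^ L.ar : ℕ)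
  gcongr

theorem T_le_one (k : ℕ) (hk : k * L.Vx ≤ L.Nx) {u : G} (hu : h.Out u)
    (hS : ∀ v : L.Cx, v ^ L.Vx = 1 → ¬ IsConj (L.x * (v : G)) u) {c : ℕ} (_hc0 : 0 < c)
    (hc : Nat.card (Subgroup.centralizer ({u} : Set G)) ≤ c) :
    (k : ℚ) / (L.r ^ L.ar : ℕ) + 1 / c ≤ h.bound := by
  obtain ⟨k', -, hk'⟩ := L.exists_Nx
  have hT := L.T_bound {u} (by simpa using hu)
    (fun a ha b hb hne => absurd ((Finset.mem_singleton.1 ha).trans (Finset.mem_singleton.1 hb).symm) hne)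
    (by simpa using hS)
  rw [L.Nx_div hk', Finset.sum_singleton] at hT
  refine le_trans (add_le_add ?_ ?_) hT
  · rw [hk'] at hk
    have := Nat.le_of_mul_le_mul_right hk (pow_pos Nat.two_pos _)
    show (k : ℚ) / (L.r ^ L.ar : ℕ) ≤ (k' : ℚ) / (L.r ^ L.ar : ℕ)
    gcongr
  · apply one_div_le_one_div_of_le (by exact_mod_cast Nat.card_pos)
    exact_mod_cast hc

end Loc

namespace Fus

variable [IsSimpleGroup G] {A₁ A₂ A₃ : Subgroup G} {h : Sys A₁ A₂ A₃} {L : Loc h} (F : Fus L)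
include F

theorem two_Vx_le (hS : Nat.card F.S ≠ 1) : 2 * L.Vx ≤ L.Nx := by
  by_contra hc
  obtain ⟨V, hVn, hVc, hV⟩ := L.normal_two (by omega)
  apply hS
  rw [Subgroup.card_eq_one, Subgroup.eq_bot_iff_forall]
  intro s hs
  obtain ⟨hsK, hsx⟩ := Subgroup.mem_inf.1 hs
  obtain ⟨i, hi⟩ := F.S_two
  obtain ⟨l, -, hl⟩ := (Nat.dvd_prime_pow Nat.prime_two).1
    ((Subgroup.orderOf_mk s hs ▸ orderOf_dvd_natCard (⟨s, hs⟩ : F.S)).trans (dvd_of_eq hi))
  set s' : L.Cx := ⟨s, hsx⟩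
  have hsV : s' ∈ V := (hV s').1 (L.pow_Vx (v := s') hl)
  refine F.eq_one_of_comm hsK fun w hw => ?_
  set w' : L.Cx := ⟨w, F.Rle hw⟩
  have h1 : s' * w' * s'⁻¹ * w'⁻¹ ∈ V := by
    rw [mul_assoc, mul_assoc]
    exact mul_mem hsV (by simpa [mul_assoc] using hVn.conj_mem _ (inv_mem hsV) w')
  have h2 : s * w * s⁻¹ * w⁻¹ ∈ (F.R : Subgroup G) := mul_mem (F.conj_R hsK hw) (inv_mem hw)
  have hd1 : orderOf (s * w * s⁻¹ * w⁻¹) ∣ L.Vx :=
    orderOf_dvd_of_pow_eq_one (by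
      simpa [s', w'] using congrArg Subtype.val ((hV _).2 h1))
  have hd2 : orderOf (s * w * s⁻¹ * w⁻¹) ∣ L.r ^ L.ar :=
    (Subgroup.orderOf_mk _ h2 ▸ orderOf_dvd_natCard (⟨_, h2⟩ : (F.R : Subgroup G))).trans
      (dvd_of_eq F.card_R)
  have h3 := Nat.eq_one_of_dvd_coprimes (Nat.Coprime.pow _ _
    (Nat.coprime_two_left.2 (Nat.odd_iff.2 L.r_odd))) hd1 hd2
  exact mul_inv_eq_one.1 (orderOf_eq_one_iff.1 h3)

theorem r_of_pow {a b : ℕ} (hb : b.Prime) (h9 : L.r ^ L.ar = b ^ a) : L.r = b := by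
  have h1 : L.r ∣ b ^ a :=
    (dvd_pow_self L.r (by have := F.two_le_ar; omega : L.ar ≠ 0)).trans (dvd_of_eq h9)
  exact (Nat.prime_dvd_prime_iff_eq L.prime hb).1 (L.prime.dvd_of_dvd_pow h1)

theorem cent_w {w₀ : G} (hw : w₀ ∈ (F.R : Subgroup G)) (hw1 : w₀ ≠ 1) (hn : ¬ IsConj L.x w₀) :
    Nat.card (Subgroup.centralizer ({w₀} : Set G)) ≤ L.r ^ L.ar := by
  rw [← F.card_R]
  exact Nat.le_of_dvd Nat.card_pos
    (Subgroup.card_dvd_of_le fun g hg => F.fix_le hw hw1 hn (Grp.cent_conj.1 hg))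

theorem no_second {w₀ : G} (hw : w₀ ∈ (F.R : Subgroup G)) (hw1 : w₀ ≠ 1)
    (hn : ¬ IsConj L.x w₀) : False := by
  have hr35 := F.r_cases hw hw1 hn
  have hr3 := L.r3
  have ha := F.two_le_ar
  obtain ⟨d, j, hK, hd, hd1, -⟩ := F.K_small
  obtain ⟨ε, hε, hε'⟩ := F.card_eq
  rcases hε' with ⟨-, hall⟩ | ⟨rfl, -⟩
  · exact hn (hall w₀ hw hw1)
  rw [F.card_R, one_mul, ← F.card_O] at hε
  obtain ⟨i, hi⟩ := F.S_two
  have hS2 := F.card_S_le hw hw1 hn
  have hi1 : i ≤ 1 := by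
    by_contra hc
    have := Nat.pow_le_pow_right (n := 2) (by norm_num) (show 2 ≤ i by omega)
    omega
  rw [← F.card_O] at hK
  have hval : L.r ^ L.ar = 9 ∨ (L.r ^ L.ar = 25 ∧ Nat.card F.S ≠ 1) := by
    interval_cases i
    · rw [pow_zero] at hi
      rw [hi, mul_one, hd1 hi, one_mul] at hK
      rw [hi, mul_one, hK] at hε
      exact Or.inl (pow_two_succ L.r_odd hr3 ha (j := j + 1) (by rw [hε, pow_succ]; ring))
    · rw [pow_one] at hi
      rw [hi] at hK hε
      have hj : 1 ≤ j := by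
        by_contra hc
        rw [show j = 0 by omega, pow_zero, mul_one] at hK
        have := Nat.le_of_dvd (by norm_num) hd
        have h2 : d = 1 ∨ d = 3 := by
          rcases (Nat.dvd_prime Nat.prime_three).1 hd with e | e <;> omega
        omega
      obtain ⟨j', rfl⟩ : ∃ j', j = j' + 1 := ⟨j - 1, by omega⟩
      have hO : F.O.card = d * 2 ^ j' := by
        rw [pow_succ, ← mul_assoc] at hK
        omega
      have h25 := pow_eq_small (d := 3 * d) (j := j') L.r_odd hr3 ha (mul_dvd_mul_left 3 hd)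
        (by rw [hε, hO]; ring)
      have hrd : L.r ∣ L.r ^ L.ar := dvd_pow_self L.r (by omega)
      rcases h25 with ⟨e, -⟩ | e
      · omega
      simp only [Finset.mem_insert, Finset.mem_singleton] at e
      rcases hr35 with hr | hr <;> rw [hr] at hrd e ⊢ <;>
        rcases e with e | e | e | e | e <;> rw [e] at hrd ⊢ <;>
        first
          | exact Or.inl rfl
          | (norm_num at hrd; done)
          | exact Or.inr ⟨rfl, by omega⟩
  have hSv : ∀ v : L.Cx, v ^ L.Vx = 1 → ¬ IsConj (L.x * (v : G)) w₀ := by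
    intro v hv e
    obtain ⟨l, hl⟩ := L.two_elem hv
    obtain ⟨jj, -, hjj⟩ := F.order_R hw hw1
    have h1 := Grp.orderOf_eq_of_isConj e
    rw [L.order_xv (Grp.mem_cent.1 v.2) hl, hjj] at h1
    rcases Nat.eq_zero_or_pos l with e0 | e0
    · rw [e0, pow_zero, orderOf_eq_one_iff] at hl
      rw [hl, mul_one] at e
      exact hn e
    · have h2 : 2 ∣ L.r ^ jj := h1 ▸ (dvd_pow_self 2 (by omega : l ≠ 0)).mul_left _
      exact L.r_ne ((Nat.prime_dvd_prime_iff_eq Nat.prime_two L.prime).1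
        (Nat.prime_two.dvd_of_dvd_pow h2)).symm
  have hout : h.Out w₀ := (F.new_of_not_conj hw hw1 hn).1
  have hc := F.cent_w hw hw1 hn
  obtain ⟨k', hk'1, hk'⟩ := L.exists_Nx
  have hk1 : 1 * L.Vx ≤ L.Nx := hk' ▸ Nat.mul_le_mul_right _ hk'1
  rcases hval with e | ⟨e, hS⟩
  · have hr := F.r_of_pow (a := 2) Nat.prime_three (by rw [e]; norm_num)
    have hT := L.T_le_one 1 hk1 hout hSv (pow_pos L.prime.pos _) hc
    rw [e] at hT
    have := (L.three_facts hr).2.2.1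
    norm_num at hT this
    linarith
  · have hr := F.r_of_pow (a := 2) Nat.prime_five (by rw [e]; norm_num)
    have hT := L.T_le_one 2 (F.two_Vx_le hS) hout hSv (pow_pos L.prime.pos _) hc
    rw [e] at hT
    have := L.five_bound hr
    norm_num at hT this
    linarith

theorem mem_cent_xt {v : G} (hv : orderOf v = 2) (hvc : v * L.x = L.x * v) {g : G} :
    g ∈ Subgroup.centralizer ({L.x * v} : Set G) ↔ g * L.x * g⁻¹ = L.x ∧ g * v * g⁻¹ = v := by
  rw [Grp.cent_conj]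
  constructor
  · exact fun e => L.conj_split L.hx L.hx hv hv hvc hvc e
  · rintro ⟨e1, e2⟩
    calc g * (L.x * v) * g⁻¹ = (g * L.x * g⁻¹) * (g * v * g⁻¹) := by group
      _ = L.x * v := by rw [e1, e2]

theorem nine (hall : ∀ w ∈ (F.R : Subgroup G), w ≠ 1 → IsConj L.x w) : Nine L := by
  classical
  haveI : Fact (Nat.Prime 2) := ⟨Nat.prime_two⟩
  have ha := F.two_le_ar
  obtain ⟨d, j, hK, -, -, hd1⟩ := F.K_small
  obtain ⟨ε, hε, hε'⟩ := F.card_eq
  rcases hε' with ⟨rfl, -⟩ | ⟨-, w, hw, hw1, hn⟩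
  swap
  · exact absurd (hall w hw hw1) hn
  rw [hd1 hall, one_mul] at hK
  obtain ⟨l, -, hl⟩ := (Nat.dvd_prime_pow Nat.prime_two).1
    (hK ▸ (Dvd.intro _ F.card_O : F.O.card ∣ Nat.card F.K))
  rw [F.card_R, zero_mul, add_zero, hl, add_comm] at hε
  have h9 := pow_two_succ L.r_odd L.r3 ha hε
  have hr := F.r_of_pow (a := 2) Nat.prime_three (by rw [h9]; norm_num)
  have har : L.ar = 2 := by
    rw [hr] at h9
    exact Nat.pow_right_injective (le_refl 2 |>.trans (by norm_num)) (h9.trans (by norm_num))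
  obtain ⟨h13, h13', hb29, hn5⟩ := L.three_facts hr
  obtain ⟨k', hk'1, hk'⟩ := L.exists_Nx
  have hlt : L.Nx < 2 * L.Vx := by
    by_contra hc
    have hT := L.T_le 2 (by omega)
    rw [h9] at hT
    norm_num at hT hb29
    linarith
  have hn1 : Nat.card A₁ = 5 := hn5 (by
    have hT := L.T_le 1 (hk' ▸ Nat.mul_le_mul_right _ hk'1)
    rw [h9] at hT
    exact_mod_cast hT)
  have hct : Nat.card (Subgroup.centralizer ({L.t} : Set G)) = 3 * twoPart G := by
    have hc := L.card_cent (w := L.t) (Or.inl L.ht)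
    have h1 : 1 ≤ (Nat.card (Subgroup.centralizer ({L.t} : Set G))).factorization L.r := by
      refine (L.prime.pow_dvd_iff_le_factorization Nat.card_pos.ne').1 ?_
      rw [pow_one, ← L.hx, ← Subgroup.orderOf_mk L.x (Grp.mem_cent.2 L.comm.symm)]
      exact orderOf_dvd_natCard _
    have := F.ct_lt
    rw [L.ct_two, show (Nat.card (Subgroup.centralizer ({L.t} : Set G))).factorization L.r = 1 by
      omega, pow_one, hr, mul_comm] at hc
    exact hc
  obtain ⟨V, hVn, hVc, hV⟩ := L.normal_two hlt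
  have hCx : Nat.card L.Cx = L.Vx * 9 := by
    rw [L.card_Cx]; exact congrArg _ h9
  have hclass : ∀ a : L.Cx, Nat.card {w : L.Cx // ∃ k ∈ (⊤ : Subgroup L.Cx), k * a * k⁻¹ = w} *
      Nat.card (Subgroup.centralizer ({a} : Set L.Cx)) = L.Vx * 9 := by
    intro a
    have h1 := Grp.card_conjBy (⊤ : Subgroup L.Cx) a
    rw [top_inf_eq, Subgroup.card_top, hCx] at h1
    exact h1
  have hord : ∀ a ∈ V, ∃ i, orderOf (a : G) = 2 ^ i := fun a ha => L.two_elem ((hV a).2 ha)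
  set x' : L.Cx := ⟨L.x, Grp.mem_cent.2 rfl⟩ with hx'
  have hxc : ∀ a : L.Cx, x' ∈ Subgroup.centralizer ({a} : Set L.Cx) := fun a =>
    Grp.mem_cent.2 (Subtype.ext (Grp.mem_cent.1 a.2).symm)
  have hx3 : ∀ a : L.Cx, 3 ∣ Nat.card (Subgroup.centralizer ({a} : Set L.Cx)) := fun a => by
    have h1 : orderOf (⟨x', hxc a⟩ : Subgroup.centralizer ({a} : Set L.Cx)) = 3 := by
      rw [Subgroup.orderOf_mk, ← Subgroup.orderOf_coe]
      exact L.hx.trans hr
    exact (dvd_of_eq h1.symm).trans (orderOf_dvd_natCard _)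
  have hnine : ∀ a ∈ V, a ≠ 1 → ¬ 9 ∣ Nat.card (Subgroup.centralizer ({a} : Set L.Cx)) := by
    intro a ha ha1 h9d
    obtain ⟨i, hi⟩ := hord a ha
    have hi1 : i ≠ 0 := fun e => by
      rw [e, pow_zero, orderOf_eq_one_iff] at hi
      exact ha1 (Subtype.ext hi)
    set z := (a : G) ^ 2 ^ (i - 1) with hz
    have hzo : orderOf z = 2 := by
      rw [hz, orderOf_pow_of_dvd (pow_ne_zero _ two_ne_zero)
        (by rw [hi]; exact pow_dvd_pow 2 (by omega)), hi]
      conv_lhs => rw [show i = (i - 1) + 1 by omega, pow_succ]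
      simp
    have hd : 9 ∣ Nat.card (Subgroup.centralizer ({z} : Set G)) := by
      refine h9d.trans ?_
      rw [← Subgroup.card_map_of_injective L.Cx.subtype_injective]
      refine Subgroup.card_dvd_of_le ?_
      rintro _ ⟨g, hg, rfl⟩
      refine Grp.mem_cent.2 ?_
      have : Commute (g : G) (a : G) := congrArg Subtype.val (Grp.mem_cent.1 hg)
      exact (this.pow_right _).eq
    rw [L.card_cent_eq_of_isConj (L.X.inv_conj L.hna hzo L.ht), hct] at hd
    have h3 : 3 ∣ twoPart G := Nat.dvd_of_mul_dvd_mul_left (by norm_num : 0 < 3) hd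
    have := (Nat.prime_dvd_prime_iff_eq Nat.prime_three Nat.prime_two).1
      (Nat.prime_three.dvd_of_dvd_pow h3)
    omega
  -- a central involution of `V`
  have hpV : IsPGroup 2 V := IsPGroup.of_card (n := (Nat.card L.Cx).factorization 2) hVc
  set t' : L.Cx := ⟨L.t, Grp.mem_cent.2 L.comm⟩ with ht'
  have htV : t' ∈ V := (hV t').1 (L.pow_Vx (v := t') (i := 1) (by rw [pow_one]; exact L.ht))
  have ht1 : t' ≠ 1 := fun e => L.t_ne (congrArg Subtype.val e)
  haveI : Nontrivial V := ⟨⟨⟨t', htV⟩, 1, fun e => ht1 (congrArg Subtype.val e)⟩⟩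
  haveI := hpV.center_nontrivial
  obtain ⟨z₀, hz₀⟩ := exists_ne (1 : Subgroup.center V)
  set z : L.Cx := ((z₀ : V) : L.Cx) with hz
  have hzV : z ∈ V := (z₀ : V).2
  have hz1 : z ≠ 1 := fun e => hz₀ (Subtype.ext (Subtype.ext e))
  have hzc : ∀ a ∈ V, a * z = z * a := fun a ha =>
    congrArg Subtype.val (Subgroup.mem_center_iff.1 z₀.2 ⟨a, ha⟩)
  have hVpos : 0 < L.Vx := pow_pos Nat.two_pos _
  have hcz : Nat.card (Subgroup.centralizer ({z} : Set L.Cx)) = L.Vx * 3 := by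
    have h1 : L.Vx ∣ Nat.card (Subgroup.centralizer ({z} : Set L.Cx)) :=
      hVc ▸ Subgroup.card_dvd_of_le fun a ha => Grp.mem_cent.2 (hzc a ha)
    obtain ⟨c, hc⟩ := h1
    have hd : L.Vx * c ∣ L.Vx * 9 := by
      rw [← hc, ← hCx]; exact Subgroup.card_subgroup_dvd_card _
    have hc9 : c ∣ 3 ^ 2 := by norm_num; exact Nat.dvd_of_mul_dvd_mul_left hVpos hd
    have h3 : 3 ∣ c := by
      refine Nat.Coprime.dvd_of_dvd_mul_left ?_ (hc ▸ hx3 z)
      exact Nat.Coprime.pow_right _ (by norm_num)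
    obtain ⟨b, hb, rfl⟩ := (Nat.dvd_prime_pow Nat.prime_three).1 hc9
    rw [hc]
    interval_cases b
    · norm_num at h3
    · rfl
    · exact absurd (hc ▸ dvd_mul_left _ _) (hnine z hzV hz1)
  set O1 := Finset.univ.filter fun w : L.Cx => ∃ k ∈ (⊤ : Subgroup L.Cx), k * z * k⁻¹ = w with hO1
  have hO1c : O1.card = 3 := by
    have h1 := hclass z
    rw [hcz, Nat.card_eq_fintype_card, Fintype.card_subtype, ← hO1] at h1
    apply Nat.eq_of_mul_eq_mul_right (show 0 < L.Vx * 3 by omega)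
    rw [h1]; ring
  have hO1V : ∀ w ∈ O1, w ∈ V ∧ w ≠ 1 ∧ ∀ a ∈ V, a * w = w * a := by
    intro w hw
    obtain ⟨k, -, rfl⟩ := (Finset.mem_filter.1 hw).2
    refine ⟨hVn.conj_mem _ hzV k, fun e => hz1 (conj_eq_one_iff.1 e), fun a ha => ?_⟩
    have ha' : k⁻¹ * a * k ∈ V := by simpa using hVn.conj_mem _ ha k⁻¹
    calc a * (k * z * k⁻¹) = k * ((k⁻¹ * a * k) * z) * k⁻¹ := by group
      _ = k * (z * (k⁻¹ * a * k)) * k⁻¹ := by rw [hzc _ ha']
      _ = k * z * k⁻¹ * a := by group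
  have hconjC : ∀ {a b : L.Cx}, a ∈ V → b ∈ V → IsConj (L.x * (a : G)) (L.x * (b : G)) →
      ∃ k : L.Cx, k * a * k⁻¹ = b := by
    intro a b ha hb e
    obtain ⟨g, hg⟩ := isConj_iff.1 e
    obtain ⟨i, hi⟩ := hord a ha
    obtain ⟨i', hi'⟩ := hord b hb
    obtain ⟨g1, g2⟩ := L.split_two hi hi' (Grp.mem_cent.1 a.2) (Grp.mem_cent.1 b.2) hg
    exact ⟨⟨g, Grp.cent_conj.2 g1⟩, Subtype.ext g2⟩
  have hnew : ∀ a ∈ V, a ≠ 1 → ¬ IsConj (L.x * L.t) (L.x * (a : G)) → L.NewC (L.x * (a : G)) := by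
    intro a ha ha1 hne
    obtain ⟨i, hi⟩ := hord a ha
    have hi1 : i ≠ 0 := fun e => by
      rw [e, pow_zero, orderOf_eq_one_iff] at hi
      exact ha1 (Subtype.ext hi)
    have ho := L.order_xv (Grp.mem_cent.1 a.2) hi
    rw [hr] at ho
    have h2 : 2 ≤ 2 ^ i := Nat.le_self_pow hi1 2
    refine ⟨L.out_xv (Grp.mem_cent.1 a.2), by omega, by omega, fun e => ?_, fun e => ?_, hne⟩
    · have := (Grp.orderOf_eq_of_isConj e).symm.trans L.ht; omega
    · have := (Grp.orderOf_eq_of_isConj e).symm.trans L.hx; omega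
  have hthree : ∀ a ∈ V, a ≠ 1 → ∀ b ∈ V, b ≠ 1 → (∀ k : L.Cx, k * a * k⁻¹ ≠ b) →
      (∀ k : L.Cx, k * z * k⁻¹ ≠ a) → (∀ k : L.Cx, k * z * k⁻¹ ≠ b) → False := by
    intro a ha ha1 b hb hb1 hab hza hzb
    have nab : ¬ IsConj (L.x * (a : G)) (L.x * (b : G)) := fun e =>
      (hconjC ha hb e).elim hab
    by_cases hzt : IsConj (L.x * L.t) (L.x * (z : G))
    · refine L.seven (hnew a ha ha1 fun e => ?_) (hnew b hb hb1 fun e => ?_) nab
      · exact (hconjC hzV ha (hzt.symm.trans e)).elim hza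
      · exact (hconjC hzV hb (hzt.symm.trans e)).elim hzb
    by_cases hat : IsConj (L.x * L.t) (L.x * (a : G))
    · exact L.seven (hnew z hzV hz1 hzt) (hnew b hb hb1 fun e => nab (hat.symm.trans e))
        fun e => (hconjC hzV hb e).elim hzb
    · exact L.seven (hnew z hzV hz1 hzt) (hnew a ha ha1 hat) fun e => (hconjC hzV ha e).elim hza
  set VS := Finset.univ.filter fun w : L.Cx => w ∈ V with hVS
  have hVScard : VS.card = L.Vx := by
    rw [hVS, ← Fintype.card_subtype, ← Nat.card_eq_fintype_card]; exact hVc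
  have hsub : insert 1 O1 ⊆ VS := fun w hw => by
    rcases Finset.mem_insert.1 hw with rfl | hw
    · exact Finset.mem_filter.2 ⟨Finset.mem_univ _, one_mem _⟩
    · exact Finset.mem_filter.2 ⟨Finset.mem_univ _, (hO1V w hw).1⟩
  have hins : (insert 1 O1).card = 4 := by
    rw [Finset.card_insert_of_notMem fun e => (hO1V 1 e).2.1 rfl, hO1c]
  have hV4 : VS = insert 1 O1 := by
    refine (Finset.Subset.antisymm hsub ?_).symm
    by_contra hne
    obtain ⟨w, hw, hwO⟩ := Finset.not_subset.1 hne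
    have hwV : w ∈ V := (Finset.mem_filter.1 hw).2
    rw [Finset.mem_insert, not_or] at hwO
    have hwz : ∀ k : L.Cx, k * z * k⁻¹ ≠ w := fun k e =>
      hwO.2 (Finset.mem_filter.2 ⟨Finset.mem_univ _, k, Subgroup.mem_top _, e⟩)
    set O2 := Finset.univ.filter fun b : L.Cx => ∃ k ∈ (⊤ : Subgroup L.Cx), k * w * k⁻¹ = b with hO2
    have hcover : VS ⊆ insert 1 O1 ∪ O2 := by
      intro b hb
      have hbV : b ∈ V := (Finset.mem_filter.1 hb).2
      by_contra hbn
      rw [Finset.mem_union, Finset.mem_insert, not_or, not_or] at hbn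
      refine hthree w hwV hwO.1 b hbV hbn.1.1 (fun k e => hbn.2 ?_) hwz (fun k e => hbn.1.2 ?_)
      · exact Finset.mem_filter.2 ⟨Finset.mem_univ _, k, Subgroup.mem_top _, e⟩
      · exact Finset.mem_filter.2 ⟨Finset.mem_univ _, k, Subgroup.mem_top _, e⟩
    set CV := V ⊓ Subgroup.centralizer ({w} : Set L.Cx) with hCV
    have h5 : 4 < Nat.card CV := by
      rw [Nat.card_eq_fintype_card, Fintype.card_subtype]
      refine lt_of_lt_of_le ?_ (Finset.card_le_card (s := insert w (insert 1 O1)) fun b hb => ?_)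
      · rw [Finset.card_insert_of_notMem (by rw [Finset.mem_insert, not_or]; exact hwO), hins]
        norm_num
      · refine Finset.mem_filter.2 ⟨Finset.mem_univ _, Subgroup.mem_inf.2 ?_⟩
        rcases Finset.mem_insert.1 hb with rfl | hb
        · exact ⟨hwV, Grp.mem_cent.2 rfl⟩
        rcases Finset.mem_insert.1 hb with rfl | hb
        · exact ⟨one_mem _, one_mem _⟩
        · exact ⟨(hO1V b hb).1, Grp.mem_cent.2 ((hO1V b hb).2.2 w hwV).symm⟩
    obtain ⟨e, -, he⟩ := (Nat.dvd_prime_pow Nat.prime_two).1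
      ((Subgroup.card_dvd_of_le (inf_le_left : CV ≤ V)).trans
        (dvd_of_eq (hVc.trans (rfl : L.Vx = 2 ^ _))))
    have he' : Nat.card CV = 2 ^ e := he
    have he3 : 3 ≤ e := by
      by_contra hc
      have := Nat.pow_le_pow_right (n := 2) (by norm_num) (show e ≤ 2 by omega)
      omega
    have h24 : 24 ≤ Nat.card (Subgroup.centralizer ({w} : Set L.Cx)) := by
      have h8 : 8 ∣ Nat.card (Subgroup.centralizer ({w} : Set L.Cx)) :=
        ((pow_dvd_pow 2 he3).trans (dvd_of_eq he.symm)).trans (Subgroup.card_dvd_of_le inf_le_right)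
      exact Nat.le_of_dvd Nat.card_pos (Nat.Coprime.mul_dvd_of_dvd_of_dvd (by norm_num) h8 (hx3 w))
    have hV8 : 8 ≤ L.Vx := by
      have h1 : Nat.card CV ∣ L.Vx := hVc ▸ Subgroup.card_dvd_of_le inf_le_left
      have := Nat.pow_le_pow_right (n := 2) (by norm_num) he3
      have := Nat.le_of_dvd hVpos h1
      omega
    have hO2c : O2.card * Nat.card (Subgroup.centralizer ({w} : Set L.Cx)) = L.Vx * 9 := by
      have h1 := hclass w
      rwa [Nat.card_eq_fintype_card, Fintype.card_subtype, ← hO2] at h1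
    have h6 := (Finset.card_le_card hcover).trans (Finset.card_union_le _ _)
    rw [hVScard, hins] at h6
    have h7 : O2.card * 24 ≤ L.Vx * 9 := hO2c ▸ Nat.mul_le_mul_left _ h24
    omega
  have hVx4 : L.Vx = 4 := by rw [← hVScard, hV4, hins]
  have hmemO : ∀ a ∈ V, a ≠ 1 → ∃ k : L.Cx, k * z * k⁻¹ = a := by
    intro a ha ha1
    have : a ∈ VS := Finset.mem_filter.2 ⟨Finset.mem_univ _, ha⟩
    rw [hV4, Finset.mem_insert] at this
    obtain ⟨k, -, hk⟩ := (Finset.mem_filter.1 (this.resolve_left ha1)).2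
    exact ⟨k, hk⟩
  obtain ⟨kt, hkt⟩ := hmemO t' htV ht1
  have hVconj : ∀ a ∈ V, a ≠ 1 → IsConj (L.x * L.t) (L.x * (a : G)) := by
    intro a ha ha1
    obtain ⟨k, hk⟩ := hmemO a ha ha1
    refine isConj_iff.2 ⟨((k * kt⁻¹ : L.Cx) : G), ?_⟩
    have e1 : ((k * kt⁻¹ : L.Cx) : G) * L.x * ((k * kt⁻¹ : L.Cx) : G)⁻¹ = L.x :=
      Grp.cent_conj.1 (k * kt⁻¹).2
    have e2 : k * kt⁻¹ * t' * (k * kt⁻¹)⁻¹ = a := by rw [← hkt, ← hk]; group
    have e2' : ((k * kt⁻¹ : L.Cx) : G) * L.t * ((k * kt⁻¹ : L.Cx) : G)⁻¹ = (a : G) :=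
      congrArg Subtype.val e2
    calc ((k * kt⁻¹ : L.Cx) : G) * (L.x * L.t) * ((k * kt⁻¹ : L.Cx) : G)⁻¹
        = (((k * kt⁻¹ : L.Cx) : G) * L.x * ((k * kt⁻¹ : L.Cx) : G)⁻¹) *
          (((k * kt⁻¹ : L.Cx) : G) * L.t * ((k * kt⁻¹ : L.Cx) : G)⁻¹) := by group
      _ = L.x * a := by rw [e1, e2']
  have hxt : Nat.card (Subgroup.centralizer ({L.x * L.t} : Set G)) = 12 := by
    rw [show (12 : ℕ) = L.Vx * 3 by rw [hVx4]]
    rw [← hcz, L.card_cent_eq_of_isConj (hVconj z hzV hz1)]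
    obtain ⟨i, hi⟩ := hord z hzV
    have hi2 : orderOf (z : G) = 2 := by
      have h1 := Grp.orderOf_eq_of_isConj (isConj_iff.2 ⟨kt, hkt⟩ : IsConj z t')
      rw [Subgroup.orderOf_coe, h1, ← Subgroup.orderOf_coe]
      exact L.ht
    refine Nat.card_congr
      { toFun := fun g => ⟨⟨g.1, ?_⟩, ?_⟩
        invFun := fun g => ⟨g.1.1, ?_⟩
        left_inv := fun g => rfl
        right_inv := fun g => rfl }
    · exact Grp.cent_conj.2 ((F.mem_cent_xt hi2 (Grp.mem_cent.1 z.2)).1 g.2).1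
    · exact Grp.cent_conj.2 (Subtype.ext ((F.mem_cent_xt hi2 (Grp.mem_cent.1 z.2)).1 g.2).2)
    · exact (F.mem_cent_xt hi2 (Grp.mem_cent.1 z.2)).2
        ⟨Grp.cent_conj.1 g.1.2, congrArg Subtype.val (Grp.cent_conj.1 g.2)⟩
  have hx36 : Nat.card (Subgroup.centralizer ({L.x} : Set G)) = 36 := by
    rw [show Subgroup.centralizer ({L.x} : Set G) = L.Cx from rfl, hCx, hVx4]
  refine ⟨hr, hn1, har, hx36, hxt, hct, ⟨V.map L.Cx.subtype, ?_, ?_, ?_⟩, ?_⟩
  · rw [Subgroup.card_map_of_injective L.Cx.subtype_injective, hVc, hVx4]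
  · rintro _ ⟨a, -, rfl⟩
    exact Grp.mem_cent.1 a.2
  · rintro _ ⟨a, ha, rfl⟩ ha1
    exact hVconj a ha fun e => ha1 (by rw [e]; rfl)
  · by_contra hreal
    have hxi : orderOf L.x⁻¹ = L.r := by rw [orderOf_inv, L.hx]
    have hc' : L.t * L.x⁻¹ = L.x⁻¹ * L.t := ((show Commute L.t L.x from L.comm).inv_right).eq
    have hout : h.Out (L.x⁻¹ * L.t) := h.out_of_commute L.out_t L.t_ne (by
      rw [← mul_assoc, hc', mul_assoc])
    have hcent : Nat.card (Subgroup.centralizer ({L.x⁻¹ * L.t} : Set G)) ≤ 12 := by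
      rw [← hxt]
      refine Nat.le_of_dvd Nat.card_pos (Subgroup.card_dvd_of_le fun g hg => ?_)
      obtain ⟨g1, g2⟩ := L.conj_split hxi hxi L.ht L.ht hc' hc' (Grp.cent_conj.1 hg)
      refine (F.mem_cent_xt L.ht L.comm).2 ⟨?_, g2⟩
      have h1 := congrArg (·⁻¹) g1
      simpa [mul_assoc] using h1
    have hS : ∀ v : L.Cx, v ^ L.Vx = 1 → ¬ IsConj (L.x * (v : G)) (L.x⁻¹ * L.t) := by
      intro v hv e
      by_cases hv1 : v = 1
      · subst hv1
        simp only [OneMemClass.coe_one, mul_one] at e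
        have h1 := Grp.orderOf_eq_of_isConj e
        rw [(show Commute L.x⁻¹ L.t from hc'.symm).orderOf_mul_eq_mul_orderOf_of_coprime, hxi, L.hx,
          L.ht, hr] at h1
        · omega
        · rw [hxi, L.ht, hr]; norm_num
      · exact hreal ((hVconj v ((hV v).1 hv) hv1).trans e)
    have hT := L.T_le_one 1 (hk' ▸ Nat.mul_le_mul_right _ hk'1) hout hS (by norm_num) hcent
    rw [h9] at hT
    have hb := Loc.bound_le (h := h) (a := 5) (b := 13) (c := 13) L (by norm_num) (by norm_num)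
      (by norm_num) h.n₁ h13 h13'
    norm_num at hT hb
    linarith

end Fus

theorem Loc.reduce [IsSimpleGroup G] {A₁ A₂ A₃ : Subgroup G} {h : Sys A₁ A₂ A₃} (L : Loc h) :
    Nine L := by
  obtain ⟨F⟩ := L.exists_fus
  by_cases hall : ∀ w ∈ (F.R : Subgroup G), w ≠ 1 → IsConj L.x w
  · exact F.nine hall
  · push Not at hall
    obtain ⟨w, hw, hw1, hn⟩ := hall
    exact (F.no_second hw hw1 hn).elim

end H22.SC
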