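import Mathlib
import Cfsg.Agent.H22.SC.Reduce
import Cfsg.Agent.H11.CIT.Basic

/-!
Without the order-nine configuration all involution centralisers are 2-groups.
-/

set_option autoImplicit false
set_option linter.unusedSectionVars false
set_option linter.style.haveILetI false

open Cfsg

namespace H22.SC

universe u

variable {G : Type u} [Group G] [Fintype G]

theorem Sys.isCIT [IsSimpleGroup G] {A₁ A₂ A₃ : Subgroup G} (h : Sys A₁ A₂ A₃)
    (hna : ¬ IsMulCommutative G) (hbeta : ∀ L : Loc h, Nine L → False) : H11.CIT.IsCIT G := by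
  intro t ht
  haveI : Fact (Nat.Prime 2) := ⟨Nat.prime_two⟩
  set C := Subgroup.centralizer ({t} : Set G) with hC
  have hprimes : ∀ q : ℕ, q.Prime → q ∣ Nat.card C → q = 2 := by
    intro q hq hqd
    by_contra hq2
    haveI := Fact.mk hq
    obtain ⟨u, hu⟩ := exists_prime_orderOf_dvd_card' (G := C) q hqd
    obtain ⟨X⟩ := h.exists_chars
    let L : Loc h :=
      { X := X, hna := hna, t := t, x := (u : G), r := q, prime := hq, r_ne := hq2, ht := ht,
        hx := by rw [Subgroup.orderOf_coe, hu],
        comm := (Grp.mem_cent.1 u.2).symm }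
    exact hbeta L L.reduce
  exact IsPGroup.of_card (n := (Nat.card C).primeFactorsList.length)
    (Nat.eq_prime_pow_of_unique_prime_dvd Nat.card_pos.ne' fun {d} hd hdd => hprimes d hd hdd)

end H22.SC
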